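import Groth.Agent.Pinch.K838.Ferr
import Groth.Agent.Pi1C.UnionPush

/-!
# Contracting a closed subscheme: functions and the complement

`X` is the union of closed subschemes `X'` and `C` meeting in `T`; `π : C ⟶ S`, and `Y` is the Ferrand pushout of `X'`
and `S` along `T`.  Then the induced `c : X ⟶ Y` satisfies `O_Y = c_* O_X` where `O_S = π_* O_C`, and is an isomorphism
away from `S`.
-/

set_option autoImplicit false
universe u
open CategoryTheory CategoryTheory.Limits AlgebraicGeometry TopologicalSpace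

namespace K896.Ferr

open K838.Ferr

section Union

variable {X : Scheme.{u}} (I J : X.IdealSheafData)

/-- The scheme theoretic intersection of two closed subschemes. -/
theorem isPullback_sup : IsPullback (Scheme.IdealSheafData.inclusion (le_sup_right : J ≤ I ⊔ J))
    (Scheme.IdealSheafData.inclusion (le_sup_left : I ≤ I ⊔ J)) J.subschemeι I.subschemeι := by
  refine ⟨⟨by simp⟩, ⟨PullbackCone.IsLimit.mk _ (fun s => ?_) (fun s => ?_) (fun s => ?_) (fun s m h1 h2 => ?_)⟩⟩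
  · refine IsClosedImmersion.lift (I ⊔ J).subschemeι (s.fst ≫ J.subschemeι) ?_
    rw [Scheme.IdealSheafData.ker_subschemeι]
    refine sup_le ?_ ?_
    · rw [s.condition]
      calc I = I.subschemeι.ker := (Scheme.IdealSheafData.ker_subschemeι _).symm
        _ ≤ _ := Scheme.Hom.le_ker_comp _ _
    · calc J = J.subschemeι.ker := (Scheme.IdealSheafData.ker_subschemeι _).symm
        _ ≤ _ := Scheme.Hom.le_ker_comp _ _
  · rw [← cancel_mono J.subschemeι, Category.assoc, Scheme.IdealSheafData.inclusion_subschemeι,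
      IsClosedImmersion.lift_fac]
  · rw [← cancel_mono I.subschemeι, Category.assoc, Scheme.IdealSheafData.inclusion_subschemeι,
      IsClosedImmersion.lift_fac, s.condition]
  · rw [← cancel_mono (I ⊔ J).subschemeι, IsClosedImmersion.lift_fac, ← h1, Category.assoc,
      Scheme.IdealSheafData.inclusion_subschemeι]

variable {I J}

/-- The union of two closed subschemes as a pushout along their intersection. -/
theorem isPushout_sup (h : I ⊓ J = ⊥) : IsPushout (Scheme.IdealSheafData.inclusion (le_sup_right : J ≤ I ⊔ J))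
    (Scheme.IdealSheafData.inclusion (le_sup_left : I ≤ I ⊔ J)) J.subschemeι I.subschemeι := by
  refine Groth.Agent.Pi1C.UnionPush.isPushout_of_union (isPullback_sup I J) ?_
  rw [Scheme.IdealSheafData.ker_subschemeι, Scheme.IdealSheafData.ker_subschemeι, inf_comm, h]

theorem isFerr_sup (h : I ⊓ J = ⊥) : IsFerr (Scheme.IdealSheafData.inclusion (le_sup_right : J ≤ I ⊔ J))
    (Scheme.IdealSheafData.inclusion (le_sup_left : I ≤ I ⊔ J)) J.subschemeι I.subschemeι := by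
  have : IsClosedImmersion (Scheme.IdealSheafData.inclusion (le_sup_right : J ≤ I ⊔ J)) :=
    MorphismProperty.of_isPullback (P := @IsClosedImmersion) (isPullback_sup I J).flip inferInstance
  exact isFerr_of_isPushout (isPushout_sup h)

end Union

section Contract

variable {X X' C T S Y : Scheme.{u}} {i : T ⟶ X'} {iC : T ⟶ C} {α : X' ⟶ X} {β : C ⟶ X} {π : C ⟶ S}
  {b : S ⟶ Y} {c : X ⟶ Y}

theorem app_comp_apply {A B D : Scheme.{u}} (f : A ⟶ B) (g : B ⟶ D) (U : D.Opens) (x : Γ(D, U)) :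
    (f ≫ g).app U x = f.app (g ⁻¹ᵁ U) (g.app U x) := by
  rw [Scheme.Hom.comp_app]
  rfl

theorem app_eq_iff_of_eq {A B : Scheme.{u}} {f g : A ⟶ B} (h : f = g) (U : B.Opens) (x y : Γ(B, U)) :
    f.app U x = f.app U y ↔ g.app U x = g.app U y := by
  subst h; rfl

theorem appLE_congr_hom {A B : Scheme.{u}} {f g : A ⟶ B} (h : f = g) (U : B.Opens) (V : A.Opens)
    (e : V ≤ f ⁻¹ᵁ U) (e' : V ≤ g ⁻¹ᵁ U) (x : Γ(B, U)) : f.appLE U V e x = g.appLE U V e' x := by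
  subst h; rfl

theorem appLE_appLE_apply {A B D : Scheme.{u}} (f : A ⟶ B) (g : B ⟶ D) (U : D.Opens) (V : B.Opens) (W : A.Opens)
    (e₁ : V ≤ g ⁻¹ᵁ U) (e₂ : W ≤ f ⁻¹ᵁ V) (e₃ : W ≤ (f ≫ g) ⁻¹ᵁ U) (x : Γ(D, U)) :
    f.appLE V W e₂ (g.appLE U V e₁ x) = (f ≫ g).appLE U W e₃ x :=
  congr($(Scheme.Hom.appLE_comp_appLE f g U V W e₁ e₂) x)

/-- Functions on the contraction. -/
theorem bijective_app (hX : IsFerr i iC α β) (hY : IsFerr i (iC ≫ π) (α ≫ c) b) (hb : β ≫ c = π ≫ b)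
    (O : Y.Opens) (hπ : Function.Bijective (π.app (b ⁻¹ᵁ O))) : Function.Bijective (c.app O) := by
  have hY' := (secSq_iff hY.w O).mp (hY.sec O)
  have hX' := (secSq_iff hX.w (c ⁻¹ᵁ O)).mp (hX.sec (c ⁻¹ᵁ O))
  have e : β ⁻¹ᵁ c ⁻¹ᵁ O = π ⁻¹ᵁ b ⁻¹ᵁ O := by
    have h : (β ≫ c) ⁻¹ᵁ O = (π ≫ b) ⁻¹ᵁ O := by rw [hb]
    exact h
  constructor
  · intro r r' h
    refine hY'.2 r r' ?_ ?_
    · rw [app_comp_apply, app_comp_apply, h]
    · apply hπ.1
      have h1 : (β ≫ c).app O r = (β ≫ c).app O r' := by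
        rw [app_comp_apply, app_comp_apply, h]
      have h2 := (app_eq_iff_of_eq hb O r r').mp h1
      rw [app_comp_apply, app_comp_apply] at h2
      exact h2
  · intro s
    obtain ⟨t, ht⟩ : ∃ t : Γ(S, b ⁻¹ᵁ O), π.appLE (b ⁻¹ᵁ O) (β ⁻¹ᵁ c ⁻¹ᵁ O) e.le t = β.app (c ⁻¹ᵁ O) s := by
      have h1 : ∀ (V : C.Opens) (hV : V = π ⁻¹ᵁ b ⁻¹ᵁ O) (u : Γ(C, V)),
          ∃ t : Γ(S, b ⁻¹ᵁ O), π.appLE (b ⁻¹ᵁ O) V hV.le t = u := by
        rintro _ rfl u
        obtain ⟨t, ht⟩ := hπ.2 u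
        exact ⟨t, by rw [← Scheme.Hom.app_eq_appLE]; exact ht⟩
      exact h1 _ e _
    have hw : i ⁻¹ᵁ (α ≫ c) ⁻¹ᵁ O ≤ (iC ≫ π) ⁻¹ᵁ b ⁻¹ᵁ O := (preimage_eq hY.w O).le
    have hw' : i ⁻¹ᵁ α ⁻¹ᵁ c ⁻¹ᵁ O ≤ iC ⁻¹ᵁ β ⁻¹ᵁ c ⁻¹ᵁ O := (preimage_eq hX.w (c ⁻¹ᵁ O)).le
    obtain ⟨r, hr1, hr2⟩ := hY'.1 (α.app (c ⁻¹ᵁ O) s) t (by
      have h1 := congr($(sec_w hX.w (c ⁻¹ᵁ O) hw') s)
      refine h1.trans ?_
      change iC.appLE _ _ hw' (β.app (c ⁻¹ᵁ O) s) = _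
      rw [← ht]
      exact appLE_appLE_apply iC π _ _ _ e.le hw' hw t)
    refine ⟨r, ?_⟩
    refine hX'.2 _ _ ?_ ?_
    · rw [← hr1, app_comp_apply]
    · rw [← ht, ← hr2]
      have e1 : β.app (c ⁻¹ᵁ O) (c.app O r) = (β ≫ c).appLE O (β ⁻¹ᵁ c ⁻¹ᵁ O) le_rfl r := by
        rw [← app_comp_apply, Scheme.Hom.app_eq_appLE]
        rfl
      rw [e1, appLE_congr_hom hb O _ _ (by rw [← hb]; exact le_rfl) r, Scheme.Hom.app_eq_appLE]
      exact (appLE_appLE_apply π b _ _ _ le_rfl e.le _ r).symm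

theorem isIso_of_affine_app {A B : Scheme.{u}} (f : A ⟶ B) [IsAffineHom f]
    (H : ∀ U : B.Opens, IsAffineOpen U → IsIso (f.app U)) : IsIso f := by
  rw [← MorphismProperty.isomorphisms.iff]
  exact (IsZariskiLocalAtTarget.iff_of_iSup_eq_top (P := MorphismProperty.isomorphisms Scheme.{u})
    (fun U : B.affineOpens => U.1) (iSup_affineOpens_eq_top B)).mpr fun U =>
      (isIso_morphismRestrict_iff_isIso_app f U.2).mpr (H U.1 U.2)

theorem subsingleton_of_eq_bot {X : Scheme.{u}} {V : X.Opens} (h : V = ⊥) : Subsingleton Γ(X, V) := by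
  subst h
  exact CommRingCat.subsingleton_of_isTerminal X.sheaf.isTerminalOfEmpty

/-- Away from `S` functions on a Ferrand pushout are functions on `X'`. -/
theorem isIso_app_left {X' T S Y : Scheme.{u}} {i : T ⟶ X'} {j : T ⟶ S} {a : X' ⟶ Y} {b : S ⟶ Y}
    (h : IsFerr i j a b) (O : Y.Opens) (hO : b ⁻¹ᵁ O = ⊥) : IsIso (a.app O) := by
  have h1 : Subsingleton Γ(S, b ⁻¹ᵁ O) := subsingleton_of_eq_bot hO
  have h2 : i ⁻¹ᵁ a ⁻¹ᵁ O = ⊥ := by rw [preimage_eq h.w, hO]; rfl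
  have h3 : Subsingleton Γ(T, i ⁻¹ᵁ a ⁻¹ᵁ O) := subsingleton_of_eq_bot h2
  have h4 := (secSq_iff h.w O).mp (h.sec O)
  refine (ConcreteCategory.isIso_iff_bijective _).mpr ⟨fun r r' hr => h4.2 r r' hr (Subsingleton.elim _ _), fun s => ?_⟩
  obtain ⟨r, hr, -⟩ := h4.1 s 0 (Subsingleton.elim _ _)
  exact ⟨r, hr⟩

/-- Away from `S` the map `a : X' ⟶ Y` to a Ferrand pushout is an isomorphism. -/
theorem isIso_restrict {X' T S Y : Scheme.{u}} {i : T ⟶ X'} {j : T ⟶ S} {a : X' ⟶ Y} {b : S ⟶ Y}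
    (h : IsFerr i j a b) (O : Y.Opens) (hO : b ⁻¹ᵁ O = ⊥) : IsIso (a ∣_ O) := by
  have haff := h.affine_left
  have haff' : IsAffineHom (a ∣_ O) := MorphismProperty.of_isPullback (isPullback_morphismRestrict a O).flip haff
  refine isIso_of_affine_app _ fun U _ => ?_
  rw [morphismRestrict_app]
  have h1 : b ⁻¹ᵁ (O.ι ''ᵁ U) = ⊥ := by
    rw [eq_bot_iff, ← hO]
    exact (Opens.map b.base).monotone (O.ι_image_le U)
  have h2 := isIso_app_left h (O.ι ''ᵁ U) h1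
  have h3 : ∀ (V V' : X'.Opens) (e : V = V'), IsIso (X'.presheaf.map (eqToHom e).op) := by
    rintro V _ rfl
    infer_instance
  exact @IsIso.comp_isIso _ _ _ _ _ _ _ h2 (h3 _ _ _)

/-- The contraction is an isomorphism away from `S`. -/
theorem isIso_contract_restrict (hX : IsFerr i iC α β) (hY : IsFerr i (iC ≫ π) (α ≫ c) b) (hb : β ≫ c = π ≫ b)
    (O : Y.Opens) (hO : b ⁻¹ᵁ O = ⊥) : IsIso (c ∣_ O) := by
  have h1 : β ⁻¹ᵁ (c ⁻¹ᵁ O) = ⊥ := by
    have h : (β ≫ c) ⁻¹ᵁ O = (π ≫ b) ⁻¹ᵁ O := by rw [hb]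
    have h2 : (π ≫ b) ⁻¹ᵁ O = ⊥ := by
      change π ⁻¹ᵁ (b ⁻¹ᵁ O) = ⊥
      rw [hO]; rfl
    exact h.trans h2
  have h2 := isIso_restrict hX (c ⁻¹ᵁ O) h1
  have h3 := isIso_restrict hY O hO
  have h4 : (α ≫ c) ∣_ O = α ∣_ (c ⁻¹ᵁ O) ≫ c ∣_ O := morphismRestrict_comp _ _ _
  have h5 : IsIso (α ∣_ (c ⁻¹ᵁ O) ≫ c ∣_ O) := by rw [← h4]; exact h3
  exact @IsIso.of_isIso_comp_left _ _ _ _ _ (α ∣_ (c ⁻¹ᵁ O)) (c ∣_ O) h2 h5

end Contract

end K896.Ferr
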