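import Groth.Agent.CurvSt.K896.Ferr
import Groth.Agent.CohqB.HSeqMod
import Groth.Agent.CohqA.H1Lift
import Groth.Agent.CohqA.AffPush
import Groth.Agent.CohqA.AffineVanish
import Groth.Agent.PerfB.ModExact
import Groth.Agent.Models.H36.H1Sum
import Groth.Agent.Ega2.QCohLocal
import Groth.Agent.S0012
import Groth.Prelude.Def_ClSub2

/-!
# Cohomology of a union of two closed subschemes, one of them affine
-/

set_option autoImplicit false
universe u
open CategoryTheory CategoryTheory.Limits AlgebraicGeometry TopologicalSpace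

namespace K896.ConH

open K838.Ferr Groth.Agent Groth.Agent.CohqB.HSeqMod

section LES

variable {X : Scheme.{u}} {S : ShortComplex X.Modules}

theorem subsingleton_X₂ (hS : S.ShortExact) (n : ℕ) (h1 : Subsingleton (Coh.HH X S.X₁ n))
    (h3 : Subsingleton (Coh.HH X S.X₃ n)) : Subsingleton (Coh.HH X S.X₂ n) := by
  have key : ∀ x : Coh.HH X S.X₂ n, x = 0 := by
    intro x
    obtain ⟨y, hy⟩ := exact₂ hS n x (Subsingleton.elim _ _)
    rw [← hy, Subsingleton.elim y 0, map_zero]
  exact ⟨fun a b => (key a).trans (key b).symm⟩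

theorem subsingleton_X₁ (hS : S.ShortExact) (n : ℕ) (h2 : Subsingleton (Coh.HH X S.X₂ (n + 1)))
    (h3 : Function.Surjective (hmap S.g n)) : Subsingleton (Coh.HH X S.X₁ (n + 1)) := by
  have key : ∀ x : Coh.HH X S.X₁ (n + 1), x = 0 := by
    intro x
    obtain ⟨y, hy⟩ := exact₁ hS n x (Subsingleton.elim _ _)
    obtain ⟨z, rfl⟩ := h3 y
    rw [← hy, δ_hmap]
  exact ⟨fun a b => (key a).trans (key b).symm⟩

theorem hmap_zero_surjective {M N : X.Modules} (φ : M ⟶ N) (h : Function.Surjective (φ.app ⊤)) :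
    Function.Surjective (hmap φ 0) := by
  let hT : IsTerminal (⊤ : Opens X) := isTerminalTop
  intro y
  obtain ⟨s, hs⟩ := h (Sheaf.H.equiv₀ (Coh.toAb N) hT y)
  refine ⟨(Sheaf.H.equiv₀ (Coh.toAb M) hT).symm s, ?_⟩
  apply (Sheaf.H.equiv₀ (Coh.toAb N) hT).injective
  have h1 := Sheaf.H.equiv₀_naturality hT ((CohqA.H1Lift.toAbF X).map φ) ((Sheaf.H.equiv₀ (Coh.toAb M) hT).symm s)
  refine h1.symm.trans ?_
  have h2 : (Sheaf.H.equiv₀ (Coh.toAb M) hT) ((Sheaf.H.equiv₀ (Coh.toAb M) hT).symm s) = s :=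
    AddEquiv.apply_symm_apply _ _
  refine (congrArg _ h2).trans ?_
  exact hs

end LES

section Union

variable {X X' C T : Scheme.{u}} {i : T ⟶ X'} {iC : T ⟶ C} {α : X' ⟶ X} {β : C ⟶ X}
  [IsClosedImmersion α] [IsClosedImmersion β]

/-- `K ⟶ O_X ⟶ β_* O_C`. -/
noncomputable def S₁ (β : C ⟶ X) : ShortComplex X.Modules :=
  ShortComplex.mk (kernel.ι (ClSub.unitToPush β)) (ClSub.unitToPush β) (kernel.condition _)

theorem shortExact₁ : (S₁ β).ShortExact where
  exact := ShortComplex.exact_of_f_is_kernel _ (kernelIsKernel _)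
  mono_f := by dsimp [S₁]; infer_instance
  epi_g := by
    dsimp [S₁]
    exact Models.H36.H1Sum.epi_unitToPush β

theorem unitToPush_app (f : X' ⟶ X) (U : X.Opens) (t : Γ(X, U)) :
    (ClSub.unitToPush f).app U t = (f.app U).hom t := rfl

theorem kernel_app_eq_zero (β : C ⟶ X) (U : X.Opens) (s : Γ(kernel (ClSub.unitToPush β), U)) :
    β.app U ((kernel.ι (ClSub.unitToPush β)).app U s) = 0 := by
  have h1 : (kernel.ι (ClSub.unitToPush β) ≫ ClSub.unitToPush β).app U s = 0 := by
    rw [kernel.condition]; rfl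
  exact h1

theorem push_app_apply {Y : Scheme.{u}} (f : X' ⟶ Y) {M N : X'.Modules} (φ : M ⟶ N) (U : Y.Opens)
    (s : Γ(M, f ⁻¹ᵁ U)) : ((Coh.push f).map φ).app U s = φ.app (f ⁻¹ᵁ U) s := rfl

theorem comp_zero (w : i ≫ α = iC ≫ β) :
    (kernel.ι (ClSub.unitToPush β) ≫ ClSub.unitToPush α) ≫ (Coh.push α).map (ClSub.unitToPush i) = 0 := by
  ext U s
  have h1 := kernel_app_eq_zero β U s
  have h2 : (iC ≫ β).app U ((kernel.ι (ClSub.unitToPush β)).app U s) = 0 := by
    rw [Ferr.app_comp_apply, h1]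
    exact map_zero _
  have h3 : (i ≫ α).app U ((kernel.ι (ClSub.unitToPush β)).app U s) = 0 := by
    have h4 := (Ferr.app_eq_iff_of_eq w U ((kernel.ι (ClSub.unitToPush β)).app U s) 0).mpr (by rw [h2, map_zero])
    rw [h4, map_zero]
  rw [Ferr.app_comp_apply] at h3
  exact h3

/-- `K ⟶ α_* O_X' ⟶ α_* i_* O_T`. -/
noncomputable def S₂ (w : i ≫ α = iC ≫ β) : ShortComplex X.Modules :=
  ShortComplex.mk (kernel.ι (ClSub.unitToPush β) ≫ ClSub.unitToPush α)
    ((Coh.push α).map (ClSub.unitToPush i)) (comp_zero w)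

theorem g_surjective_of_affine (i : T ⟶ X') [IsClosedImmersion i] (U : X.Opens) (hU : IsAffineOpen (α ⁻¹ᵁ U)) :
    Function.Surjective (((Coh.push α).map (ClSub.unitToPush i)).app U) := by
  intro s
  obtain ⟨t, ht⟩ := i.app_surjective _ hU s
  exact ⟨t, ht⟩

theorem shortExact₂ (h : IsFerr i iC α β) : (S₂ h.w).ShortExact := by
  have hi := h.closed
  refine ShortComplex.ShortExact.mk' ?_ ?_ ?_
  · refine PerfB.ModExact.exact_of_locally_lifts _ fun U y hy x hx => ⟨U, le_rfl, hx, ?_⟩
    obtain ⟨r, hr1, hr2⟩ := ((secSq_iff h.w U).mp (h.sec U)).1 y 0 (by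
      rw [map_zero]
      exact hy)
    obtain ⟨z, hz⟩ := PerfB.ModExact.exists_app_of_isLimit _ _ (kernel.condition (ClSub.unitToPush β))
      (kernelIsKernel _) U r hr2
    refine ⟨z, ?_⟩
    have h1 : (S₂ h.w).f.app U z = (ClSub.unitToPush α).app U ((kernel.ι (ClSub.unitToPush β)).app U z) := rfl
    rw [h1, hz]
    have h2 : (S₂ h.w).X₂.presheaf.map (homOfLE (le_refl U)).op y = y := by
      have : (homOfLE (le_refl U)).op = 𝟙 _ := rfl
      rw [this, CategoryTheory.Functor.map_id]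
      rfl
    rw [h2]
    exact hr1
  · refine ⟨fun {M} a b hab => ?_⟩
    ext U s
    have h1 : (a ≫ (S₂ h.w).f).app U s = (b ≫ (S₂ h.w).f).app U s := by rw [hab]
    have h2 := PerfB.ModExact.app_injective_of_mono (kernel.ι (ClSub.unitToPush β)) U
    apply h2
    refine ((secSq_iff h.w U).mp (h.sec U)).2 _ _ h1 ?_
    rw [kernel_app_eq_zero, kernel_app_eq_zero]
  · refine PerfB.ModExact.epi_of_locally_surjective _ fun U y x hx => ?_
    obtain ⟨V, hV, hxV, hVU⟩ := exists_isAffineOpen_mem_and_subset (X := X) (U := U) hx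
    obtain ⟨z, hz⟩ := g_surjective_of_affine (α := α) i V (hV.preimage α) ((S₂ h.w).X₃.presheaf.map (homOfLE hVU).op y)
    exact ⟨V, hVU, hxV, z, hz⟩

/-- **Cohomology of a union.**  If `X` is the union of closed subschemes `X'` and `C`, `X'` is affine and `O_C` has no
higher cohomology, then `O_X` has no higher cohomology. -/
theorem subsingleton_HH (h : IsFerr i iC α β) [IsAffine X'] (q : ℕ)
    (hC : Subsingleton (Coh.HH C (Coh.structureModule C) (q + 1))) :
    Subsingleton (Coh.HH X (Coh.structureModule X) (q + 1)) := by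
  have hi := h.closed
  have hT : IsAffine T := isAffine_of_isAffineHom i
  have hQ : ∀ Z : Scheme.{u}, Coh.IsQCoh (Coh.structureModule Z) := fun Z => Ega2.QCohLocal.isQCoh_structureModule Z
  have hQ1 := hQ X'
  have hQ2 := hQ C
  have hQ3 : Coh.IsQCoh ((Coh.push i).obj (Coh.structureModule T)) := CohqA.AffPush.isQCoh_push i _ (hQ T)
  have h1 : Subsingleton (Coh.HH X (S₂ h.w).X₁ (q + 1)) := by
    refine subsingleton_X₁ (shortExact₂ h) q ?_ ?_
    · obtain ⟨e⟩ := S0012.result α (Coh.structureModule X') (q + 1)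
      have := CohqA.AffineVanish.HH_subsingleton X' (Coh.structureModule X') (q + 1) (Nat.succ_pos q)
      exact e.symm.toEquiv.subsingleton
    · cases q with
      | zero =>
        refine hmap_zero_surjective _ ?_
        exact g_surjective_of_affine (α := α) i ⊤ (isAffineOpen_top X')
      | succ q =>
        have h2 : Subsingleton (Coh.HH X (S₂ h.w).X₃ (q + 1)) := by
          obtain ⟨e⟩ := S0012.result α ((Coh.push i).obj (Coh.structureModule T)) (q + 1)
          have := CohqA.AffineVanish.HH_subsingleton X' ((Coh.push i).obj (Coh.structureModule T)) (q + 1)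
            (Nat.succ_pos q)
          exact e.symm.toEquiv.subsingleton
        intro y
        exact ⟨0, Subsingleton.elim _ _⟩
  refine subsingleton_X₂ (shortExact₁ (β := β)) (q + 1) h1 ?_
  obtain ⟨e⟩ := S0012.result β (Coh.structureModule C) (q + 1)
  exact e.symm.toEquiv.subsingleton

end Union

end K896.ConH
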