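import Groth.Agent.CurvSt.K896.NodeMeet
import Groth.Agent.CurvesC.TailGeom
import Groth.Agent.CurvesC.CompGeom
import Groth.Agent.Divis.RadStalk
import Groth.Agent.CurvesB.NodeCriterion
import Groth.Agent.S0558
import Groth.Prelude.Def_StCurv

/-!
# An irreducible component of a nodal curve meets the rest of the curve transversally
-/

set_option autoImplicit false
universe u
open CategoryTheory CategoryTheory.Limits AlgebraicGeometry TopologicalSpace IsLocalRing

namespace K896.CompMeet

open Groth.Agent.CurvesC.CompGeom Groth.Agent.Divis.CartierBasic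

section Top

variable {T : Type u} [TopologicalSpace T]

/-- In a Noetherian space, the closure of the complement of a component is the union of the other components. -/
theorem mem_closure_compl_iff [NoetherianSpace T] {C : Set T} (hC : C ∈ irreducibleComponents T) (x : T) :
    x ∈ closure Cᶜ ↔ ∃ E ∈ irreducibleComponents T, E ≠ C ∧ x ∈ E := by
  constructor
  · intro hx
    have hfin := NoetherianSpace.finite_irreducibleComponents (α := T)
    have hW : IsClosed (⋃₀ (irreducibleComponents T \ {C})) := by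
      rw [Set.sUnion_eq_biUnion]
      exact hfin.sdiff.isClosed_biUnion fun W hW ↦ isClosed_of_mem_irreducibleComponents W hW.1
    have hsub : Cᶜ ⊆ ⋃₀ (irreducibleComponents T \ {C}) := by
      intro y hy
      have h3 : y ∈ ⋃₀ irreducibleComponents T := by
        rw [sUnion_irreducibleComponents]; trivial
      obtain ⟨W, hW1, hyW⟩ := h3
      refine ⟨W, ⟨hW1, ?_⟩, hyW⟩
      rintro rfl
      exact hy hyW
    obtain ⟨E, ⟨hE1, hE2⟩, hxE⟩ := hW.closure_subset_iff.mpr hsub hx
    exact ⟨E, hE1, hE2, hxE⟩
  · rintro ⟨E, hE, hne, hxE⟩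
    rw [mem_closure_iff]
    intro o ho hxo
    have hEC : ¬ E ⊆ C := fun h => hne ((h.antisymm (hE.2 hC.1 h)))
    obtain ⟨y, hyE, hyC⟩ := Set.not_subset.mp hEC
    obtain ⟨z, hzE, hzo, hzC⟩ := hE.1.2 o Cᶜ ho (isClosed_of_mem_irreducibleComponents C hC).isOpen_compl
      ⟨x, hxE, hxo⟩ ⟨y, hyE, hyC⟩
    exact ⟨z, hzo, hzC⟩

end Top

theorem meetPts_eq {X : Scheme.{u}} [NoetherianSpace X] {C : Set X}
    (hC : C ∈ irreducibleComponents (X : Type u)) : CurvSt.meetPts X C = C ∩ closure Cᶜ := by
  ext x
  rw [Set.mem_inter_iff, mem_closure_compl_iff hC]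
  rfl

section Stalk

variable {X : Scheme.{u}}

/-- The ideal of the closure of an open subscheme of a reduced scheme is radical. -/
theorem radical_ker_ι [IsReduced X] [IsLocallyNoetherian X] (U : X.Opens) :
    (Scheme.Opens.ι U).ker.radical = (Scheme.Opens.ι U).ker := by
  have : QuasiCompact U.ι := inferInstance
  apply Scheme.IdealSheafData.ext
  ext V : 1
  rw [Scheme.IdealSheafData.radical_ideal, Scheme.Hom.ker_apply]
  refine Ideal.radical_eq_iff.mpr ?_
  intro a ha
  obtain ⟨n, hn⟩ := ha
  rw [RingHom.mem_ker, map_pow] at hn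
  rw [RingHom.mem_ker]
  have hr : _root_.IsReduced Γ(U, U.ι ⁻¹ᵁ V) := inferInstance
  exact eq_zero_of_pow_eq_zero hn

/-- At every point, the ideals of a closed subset and of the closure of its complement have zero intersection
(reduced scheme). -/
theorem stalkIdeal_inf_eq_bot [IsReduced X] [IsLocallyNoetherian X] (I J : X.IdealSheafData)
    (hIJ : (I.support : Set X) ∪ (J.support : Set X) = Set.univ) (x : X) :
    stalkIdeal I x ⊓ stalkIdeal J x = ⊥ := by
  rw [eq_bot_iff]
  rintro a ⟨ha1, ha2⟩
  have hnil : a ∈ nilradical (X.presheaf.stalk x) := by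
    rw [nilradical_eq_sInf, Submodule.mem_sInf]
    intro q hq
    have hq' : Ideal.IsPrime q := hq
    have hmem : X.fromSpecStalk x ⟨q, hq'⟩ ∈ (I.support : Set X) ∪ (J.support : Set X) := by
      rw [hIJ]; trivial
    rcases hmem with h | h
    · exact (fromSpecStalk_mem_support_iff I x ⟨q, hq'⟩).mp h ha1
    · exact (fromSpecStalk_mem_support_iff J x ⟨q, hq'⟩).mp h ha2
  rw [nilradical_eq_zero] at hnil
  exact hnil

/-- If a generization of `x` is not in the support then the stalk ideal at `x` is nonzero. -/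
theorem stalkIdeal_ne_bot (I : X.IdealSheafData) {x z : X} (hz : z ⤳ x) (hzI : z ∉ (I.support : Set X)) :
    stalkIdeal I x ≠ ⊥ := by
  intro h
  have h2 : z ∈ Set.range (X.fromSpecStalk x) := by
    rw [Scheme.range_fromSpecStalk]
    exact hz
  obtain ⟨q, rfl⟩ := h2
  apply hzI
  rw [SetLike.mem_coe, fromSpecStalk_mem_support_iff, h]
  exact bot_le

/-- If a generization `z ≠ x` of `x` is in the support then the quotient by the stalk ideal is not a field. -/
theorem not_isField_quotient (I : X.IdealSheafData) {x z : X} (hz : z ⤳ x) (hzx : z ≠ x)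
    (hzI : z ∈ (I.support : Set X)) : ¬ IsField (X.presheaf.stalk x ⧸ stalkIdeal I x) := by
  intro h
  have h2 : z ∈ Set.range (X.fromSpecStalk x) := by
    rw [Scheme.range_fromSpecStalk]
    exact hz
  obtain ⟨q, rfl⟩ := h2
  rw [SetLike.mem_coe, fromSpecStalk_mem_support_iff] at hzI
  have h3 : (stalkIdeal I x).IsMaximal := Ideal.Quotient.maximal_of_isField _ h
  have h4 : q.asIdeal = stalkIdeal I x := (h3.eq_of_le q.2.ne_top hzI).symm
  have h5 : q = closedPoint (X.presheaf.stalk x) := by
    refine PrimeSpectrum.ext ?_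
    rw [h4]
    exact IsLocalRing.eq_maximalIdeal h3
  apply hzx
  rw [h5, Scheme.fromSpecStalk_closedPoint]

end Stalk

section Main

variable (k : Type u) [Field k] [IsAlgClosed k] (X : Scheme.{u}) [X.Over (Spec (CommRingCat.of k))]

open Groth.Agent.CurvesB

/-- Two closed subschemes of a nodal curve over an algebraically closed field, whose union is everything, which
have positive dimension at a closed point `x` and none of which contains a neighbourhood of `x`, meet
transversally at `x`. -/
theorem stalkIdeal_sup_eq [LocallyOfFiniteType (X ↘ Spec (CommRingCat.of k))] [IsReduced X]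
    (hX : Curv2.AtWorstNodal k X)
    (I J : X.IdealSheafData) (hI : I.radical = I) (hJ : J.radical = J)
    (hIJ : (I.support : Set X) ∪ (J.support : Set X) = Set.univ) (x : X) (hx : IsClosed ({x} : Set X))
    {z w : X} (hz : z ⤳ x) (hzx : z ≠ x) (hzI : z ∈ (I.support : Set X)) (hzJ : z ∉ (J.support : Set X))
    (hw : w ⤳ x) (hwx : w ≠ x) (hwI : w ∉ (I.support : Set X)) (hwJ : w ∈ (J.support : Set X)) :
    stalkIdeal I x ⊔ stalkIdeal J x = maximalIdeal (X.presheaf.stalk x) := by
  have hLN : IsLocallyNoetherian X := LocallyOfFiniteType.isLocallyNoetherian (X ↘ (Spec (CommRingCat.of k)))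
  have hI0 := stalkIdeal_ne_bot I hw hwI
  have hJ0 := stalkIdeal_ne_bot J hz hzJ
  have hinf := stalkIdeal_inf_eq_bot I J hIJ x
  have hxI : x ∈ I.support := hz.mem_closed I.support.isClosed hzI
  have hxJ : x ∈ J.support := hw.mem_closed J.support.isClosed hwJ
  have hItop : stalkIdeal I x ≠ ⊤ := (mem_support_iff_stalkIdeal_ne_top I x).mp hxI
  have hJtop : stalkIdeal J x ≠ ⊤ := (mem_support_iff_stalkIdeal_ne_top J x).mp hxJ
  rcases hX x hx with h | h
  · exfalso
    have hreg := NodeSch2.isRegularLocalRing_of_exists k x h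
    have hdom : IsDomain (X.presheaf.stalk x) := Groth.Agent.S0558.result _
    obtain ⟨a, ha, ha0⟩ := Submodule.exists_mem_ne_zero_of_ne_bot hI0
    obtain ⟨b, hb, hb0⟩ := Submodule.exists_mem_ne_zero_of_ne_bot hJ0
    have hab : a * b ∈ stalkIdeal I x ⊓ stalkIdeal J x :=
      ⟨Ideal.mul_mem_right _ _ ha, Ideal.mul_mem_left _ _ hb⟩
    rw [hinf, Submodule.mem_bot] at hab
    exact mul_ne_zero ha0 hb0 hab
  · rw [Node.isNode_iff_resFS, ← Node.isOrdDoublePt_iff] at h
    let _ := Curv2.stalkAlgebra k X x
    have h1 : Nontrivial (X.presheaf.stalk x ⧸ stalkIdeal I x) := Ideal.Quotient.nontrivial_iff.mpr hItop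
    have h2 : Nontrivial (X.presheaf.stalk x ⧸ stalkIdeal J x) := Ideal.Quotient.nontrivial_iff.mpr hJtop
    have h3 : _root_.IsReduced (X.presheaf.stalk x ⧸ stalkIdeal I x) :=
      (Ideal.isRadical_iff_quotient_reduced _).mp (Groth.Agent.Divis.RadStalk.stalkIdeal_isRadical I hI x)
    have h4 : _root_.IsReduced (X.presheaf.stalk x ⧸ stalkIdeal J x) :=
      (Ideal.isRadical_iff_quotient_reduced _).mp (Groth.Agent.Divis.RadStalk.stalkIdeal_isRadical J hJ x)
    exact NodeMeet.sup_eq_maximalIdeal (K := k) h (stalkIdeal I x) (stalkIdeal J x)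
      (not_isField_quotient I hz hzx hzI) (not_isField_quotient J hw hwx hwJ) hI0 hJ0 hinf

end Main

end K896.CompMeet
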