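import Groth.Agent.CurvSt.K896.NodeMeet
import Groth.Agent.CurvSt.K896.CompMeet

/-!
# Complementary branches at a node, over an arbitrary field
-/

set_option autoImplicit false
universe u
open CategoryTheory CategoryTheory.Limits AlgebraicGeometry TopologicalSpace IsLocalRing TensorProduct

namespace K896.NodeMeet

open Groth.Agent.CurvesB.NodeRing Groth.Agent.CurvesB.GorDimOne Groth.Agent.CurvesB.NodeSch
  Groth.Agent.CurvesB.NodeSub

section Alg

variable {K A R : Type u} [Field K] [CommRing R] [Algebra K R]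
    [IsLocalRing R] [IsNoetherianRing R] [CommRing A] [IsLocalRing A] [IsNoetherianRing A] [Algebra A R]
    [Module.Flat A R] [IsLocalHom (algebraMap A R)]

/-- Version of `map_cases` for a local ring dominated by an ordinary double point. -/
theorem map_cases' {φ ψ : AdicCompletion (maximalIdeal R) R →+* PowerSeries K}
    (hN : IsNodeRing K (AdicCompletion (maximalIdeal R) R) φ ψ)
    (J : Ideal A) [IsReduced (A ⧸ J)] [Nontrivial (A ⧸ J)] (hJ : ¬ IsField (A ⧸ J)) :
    J.map (algebraMap A (AdicCompletion (maximalIdeal R) R)) = ⊥ ∨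
    J.map (algebraMap A (AdicCompletion (maximalIdeal R) R)) = RingHom.ker ψ ∨
    J.map (algebraMap A (AdicCompletion (maximalIdeal R) R)) = RingHom.ker φ := by
  let B := AdicCompletion (maximalIdeal R) R
  have h1 : Module.Flat A B := Module.Flat.trans A R B
  have h2 : IsLocalHom (algebraMap A B) := by
    rw [IsScalarTower.algebraMap_eq A R]
    infer_instance
  have h3 : Module.FaithfullyFlat A B := Module.FaithfullyFlat.of_flat_of_isLocalHom
  have iloc : IsLocalRing (A ⧸ J) :=
    IsLocalRing.of_surjective' (Ideal.Quotient.mk J) Ideal.Quotient.mk_surjective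
  obtain ⟨f', hf'm, hf'⟩ : ∃ f ∈ maximalIdeal (A ⧸ J), f ∈ nonZeroDivisors (A ⧸ J) := by
    by_contra hcon
    push Not at hcon
    exact hJ (isField_of_disjoint hcon)
  obtain ⟨f, rfl⟩ := Ideal.Quotient.mk_surjective f'
  have hfm : f ∈ maximalIdeal A := by
    rw [mem_maximalIdeal, mem_nonunits_iff] at hf'm ⊢
    exact fun hu => hf'm (hu.map _)
  have hf : ∀ a, f * a ∈ J → a ∈ J := by
    intro a ha
    rw [← Ideal.Quotient.eq_zero_iff_mem, map_mul] at ha
    rw [← Ideal.Quotient.eq_zero_iff_mem]
    exact (mul_right_mem_nonZeroDivisors_eq_zero_iff hf').mp (by rwa [mul_comm] at ha)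
  have hJtop : J ≠ ⊤ := by
    rintro rfl
    exact not_nontrivial (A ⧸ (⊤ : Ideal A)) ‹_›
  have hJle : J ≤ maximalIdeal A := IsLocalRing.le_maximalIdeal hJtop
  have hJB : J.map (algebraMap A B) ≠ ⊤ := by
    intro htop
    have h4 := ((IsLocalRing.local_hom_TFAE (algebraMap A B)).out 0 2 rfl rfl).mp h2
    have h5 := (Ideal.map_mono hJle).trans h4
    rw [htop, top_le_iff] at h5
    exact (maximalIdeal.isMaximal B).ne_top h5
  have hf0 : PowerSeries.constantCoeff (φ (algebraMap A B f)) = 0 := by
    rw [← hN.mem_maximalIdeal_iff]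
    exact ((IsLocalRing.local_hom_TFAE (algebraMap A B)).out 0 2 rfl rfl).mp h2
      (Ideal.mem_map_of_mem _ hfm)
  exact hN.ideal_cases hJB hf0 (mem_map_of_flat J f hf)

omit [IsNoetherianRing R] [Algebra K R] [Field K] in
/-- Regularity of a quotient descends along flat local homomorphisms. -/
theorem isRegularLocalRing_quot [IsNoetherianRing R] (J : Ideal A) (hJ : J ≠ ⊤)
    (h : IsRegularLocalRing (R ⧸ J.map (algebraMap A R))) : IsRegularLocalRing (A ⧸ J) := by
  have : Nontrivial (A ⧸ J) := Ideal.Quotient.nontrivial_iff.mpr hJ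
  have iloc : IsLocalRing (A ⧸ J) :=
    IsLocalRing.of_surjective' (Ideal.Quotient.mk J) Ideal.Quotient.mk_surjective
  have hJle : J ≤ maximalIdeal A := IsLocalRing.le_maximalIdeal hJ
  have hJR : J.map (algebraMap A R) ≠ ⊤ := by
    intro htop
    have h4 := ((IsLocalRing.local_hom_TFAE (algebraMap A R)).out 0 2 rfl rfl).mp inferInstance
    have h5 := (Ideal.map_mono hJle).trans h4
    rw [htop, top_le_iff] at h5
    exact (maximalIdeal.isMaximal R).ne_top h5
  have hnt : Nontrivial (R ⧸ J.map (algebraMap A R)) := Ideal.Quotient.nontrivial_iff.mpr hJR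
  have : IsLocalRing (R ⧸ J.map (algebraMap A R)) :=
    IsLocalRing.of_surjective' (Ideal.Quotient.mk _) Ideal.Quotient.mk_surjective
  have : Module.Flat (A ⧸ J) (R ⧸ J.map (algebraMap A R)) :=
    Module.Flat.of_linearEquiv
      (Algebra.TensorProduct.quotIdealMapEquivQuotTensor R J).toLinearEquiv
  have : IsLocalHom (algebraMap (A ⧸ J) (R ⧸ J.map (algebraMap A R))) := by
    have hmk : IsLocalHom (Ideal.Quotient.mk (J.map (algebraMap A R))) :=
      IsLocalHom.of_surjective _ Ideal.Quotient.mk_surjective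
    refine ⟨fun r hr => ?_⟩
    obtain ⟨r, rfl⟩ := Ideal.Quotient.mk_surjective r
    have hr' : IsUnit (Ideal.Quotient.mk (J.map (algebraMap A R)) (algebraMap A R r)) := hr
    exact ((isUnit_of_map_unit (algebraMap A R) r
      (isUnit_of_map_unit (Ideal.Quotient.mk _) _ hr'))).map _
  exact Groth.Agent.CalgA.RegLoc.isRegularLocalRing_of_flat _ (R ⧸ J.map (algebraMap A R))

/-- Two nonzero ideals with zero intersection and reduced quotients of positive dimension in a local ring dominated
by an ordinary double point generate the maximal ideal, and the quotients are regular. -/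
theorem sup_eq_maximalIdeal' (h : Curv2.IsOrdDoublePt K R)
    (I J : Ideal A) [IsReduced (A ⧸ I)] [Nontrivial (A ⧸ I)] (hI : ¬ IsField (A ⧸ I))
    [IsReduced (A ⧸ J)] [Nontrivial (A ⧸ J)] (hJ : ¬ IsField (A ⧸ J))
    (hI0 : I ≠ ⊥) (hJ0 : J ≠ ⊥) (hIJ : I ⊓ J = ⊥) : I ⊔ J = maximalIdeal A ∧ IsRegularLocalRing (A ⧸ J) := by
  obtain ⟨φ, ψ, hN, -, -⟩ := exists_isNodeRing h
  let B := AdicCompletion (maximalIdeal R) R
  have h1 : Module.Flat A B := Module.Flat.trans A R B
  have h2 : IsLocalHom (algebraMap A B) := by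
    rw [IsScalarTower.algebraMap_eq A R]
    infer_instance
  have h3 : Module.FaithfullyFlat A B := Module.FaithfullyFlat.of_flat_of_isLocalHom
  have hcomap : ∀ I : Ideal A, (I.map (algebraMap A B)).comap (algebraMap A B) = I :=
    fun I => Ideal.comap_map_eq_self_of_faithfullyFlat I
  have hinj : Function.Injective (fun I : Ideal A => I.map (algebraMap A B)) := by
    intro I J hIJ
    rw [← hcomap I, ← hcomap J]
    exact congrArg _ hIJ
  have hne : ∀ I : Ideal A, I ≠ ⊥ → I.map (algebraMap A B) ≠ ⊥ := by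
    intro I hI0 hI
    apply hI0
    apply hinj
    change I.map (algebraMap A B) = (⊥ : Ideal A).map (algebraMap A B)
    rw [hI, Ideal.map_bot]
  have hIJne : I.map (algebraMap A B) ≠ J.map (algebraMap A B) := by
    intro hcon
    have := hinj hcon
    subst this
    rw [inf_idem] at hIJ
    exact hI0 hIJ
  have key : (I ⊔ J).map (algebraMap A B) = maximalIdeal B := by
    rw [Ideal.map_sup]
    rcases map_cases' (R := R) hN I hI with h1 | h1 | h1
    · exact absurd h1 (hne I hI0)
    · rcases map_cases' (R := R) hN J hJ with h2 | h2 | h2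
      · exact absurd h2 (hne J hJ0)
      · exact absurd (h1.trans h2.symm) hIJne
      · rw [h1, h2, sup_comm]
        exact ker_sup_ker hN
    · rcases map_cases' (R := R) hN J hJ with h2 | h2 | h2
      · exact absurd h2 (hne J hJ0)
      · rw [h1, h2]
        exact ker_sup_ker hN
      · exact absurd (h1.trans h2.symm) hIJne
  have hI1 : I ≠ ⊤ := Ideal.Quotient.nontrivial_iff.mp inferInstance
  have hJ1 : J ≠ ⊤ := Ideal.Quotient.nontrivial_iff.mp inferInstance
  constructor
  · apply le_antisymm
    · exact sup_le (IsLocalRing.le_maximalIdeal hI1) (IsLocalRing.le_maximalIdeal hJ1)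
    · rw [← hcomap (I ⊔ J), key]
      exact Ideal.map_le_iff_le_comap.mp
        (((IsLocalRing.local_hom_TFAE (algebraMap A B)).out 0 2 rfl rfl).mp h2)
  · refine isRegularLocalRing_quot (R := R) J hJ1 ?_
    rcases eq_bot_or_isRegularLocalRing h J hJ with h4 | h4
    · exact absurd h4 hJ0
    · exact h4

end Alg

section Sch

open Groth.Agent.Divis.CartierBasic Groth.Agent.CurvesB K896.CompMeet

variable (k : Type u) [Field k] (X : Scheme.{u}) [X.Over (Spec (CommRingCat.of k))]

/-- Two closed subschemes of a nodal curve over a field, whose union is everything, which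
have positive dimension at a closed point `x` and none of which contains a neighbourhood of `x`, meet
transversally at `x`, which is a node, and are regular there. -/
theorem transversal [LocallyOfFiniteType (X ↘ Spec (CommRingCat.of k))] [IsReduced X]
    (hX : Curv2.AtWorstNodal k X)
    (I J : X.IdealSheafData) (hI : I.radical = I) (hJ : J.radical = J)
    (hIJ : (I.support : Set X) ∪ (J.support : Set X) = Set.univ) (x : X) (hx : IsClosed ({x} : Set X))
    {z w : X} (hz : z ⤳ x) (hzx : z ≠ x) (hzI : z ∈ (I.support : Set X)) (hzJ : z ∉ (J.support : Set X))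
    (hw : w ⤳ x) (hwx : w ≠ x) (hwI : w ∉ (I.support : Set X)) (hwJ : w ∈ (J.support : Set X)) :
    Curv2.IsNode k X x ∧ stalkIdeal I x ⊔ stalkIdeal J x = maximalIdeal (X.presheaf.stalk x) ∧
      IsRegularLocalRing (X.presheaf.stalk x ⧸ stalkIdeal J x) := by
  have hLN : IsLocallyNoetherian X := LocallyOfFiniteType.isLocallyNoetherian (X ↘ (Spec (CommRingCat.of k)))
  have hI0 := stalkIdeal_ne_bot I hw hwI
  have hJ0 := stalkIdeal_ne_bot J hz hzJ
  have hinf := stalkIdeal_inf_eq_bot I J hIJ x
  have hxI : x ∈ I.support := hz.mem_closed I.support.isClosed hzI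
  have hxJ : x ∈ J.support := hw.mem_closed J.support.isClosed hwJ
  have hItop : stalkIdeal I x ≠ ⊤ := (mem_support_iff_stalkIdeal_ne_top I x).mp hxI
  have hJtop : stalkIdeal J x ≠ ⊤ := (mem_support_iff_stalkIdeal_ne_top J x).mp hxJ
  rcases hX x hx with h | h
  · exfalso
    have hreg := NodeSch2.isRegularLocalRing_of_exists k x h
    have hdom : IsDomain (X.presheaf.stalk x) := Groth.Agent.S0558.result _
    obtain ⟨a, ha, ha0⟩ := Submodule.exists_mem_ne_zero_of_ne_bot hI0
    obtain ⟨b, hb, hb0⟩ := Submodule.exists_mem_ne_zero_of_ne_bot hJ0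
    have hab : a * b ∈ stalkIdeal I x ⊓ stalkIdeal J x :=
      ⟨Ideal.mul_mem_right _ _ ha, Ideal.mul_mem_left _ _ hb⟩
    rw [hinf, Submodule.mem_bot] at hab
    exact mul_ne_zero ha0 hb0 hab
  · refine ⟨h, ?_⟩
    obtain ⟨-, xb, rfl, hodp⟩ := h
    have h1 : Nontrivial (X.presheaf.stalk _ ⧸ stalkIdeal I (Curv2.bcFst k X (AlgebraicClosure k) xb)) :=
      Ideal.Quotient.nontrivial_iff.mpr hItop
    have h2 : Nontrivial (X.presheaf.stalk _ ⧸ stalkIdeal J (Curv2.bcFst k X (AlgebraicClosure k) xb)) :=
      Ideal.Quotient.nontrivial_iff.mpr hJtop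
    have h3 : _root_.IsReduced (X.presheaf.stalk _ ⧸ stalkIdeal I (Curv2.bcFst k X (AlgebraicClosure k) xb)) :=
      (Ideal.isRadical_iff_quotient_reduced _).mp (Groth.Agent.Divis.RadStalk.stalkIdeal_isRadical I hI _)
    have h4 : _root_.IsReduced (X.presheaf.stalk _ ⧸ stalkIdeal J (Curv2.bcFst k X (AlgebraicClosure k) xb)) :=
      (Ideal.isRadical_iff_quotient_reduced _).mp (Groth.Agent.Divis.RadStalk.stalkIdeal_isRadical J hJ _)
    let _ : (Curv2.bc k X (AlgebraicClosure k)).Over (Spec (CommRingCat.of (AlgebraicClosure k))) :=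
      ⟨Curv2.bcSnd k X (AlgebraicClosure k)⟩
    let _ := Curv2.stalkAlgebra (AlgebraicClosure k) (Curv2.bc k X (AlgebraicClosure k)) xb
    have hlft : LocallyOfFiniteType (Curv2.bcSnd k X (AlgebraicClosure k)) := inferInstance
    have hLN' : IsLocallyNoetherian (Curv2.bc k X (AlgebraicClosure k)) :=
      LocallyOfFiniteType.isLocallyNoetherian (Curv2.bcSnd k X (AlgebraicClosure k))
    let _ : Algebra (X.presheaf.stalk (Curv2.bcFst k X (AlgebraicClosure k) xb))
        ((Curv2.bc k X (AlgebraicClosure k)).presheaf.stalk xb) :=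
      ((Curv2.bcFst k X (AlgebraicClosure k)).stalkMap xb).hom.toAlgebra
    have hflat : Flat (Curv2.bcFst k X (AlgebraicClosure k)) := inferInstance
    have h5 : Module.Flat (X.presheaf.stalk (Curv2.bcFst k X (AlgebraicClosure k) xb))
        ((Curv2.bc k X (AlgebraicClosure k)).presheaf.stalk xb) :=
      Flat.stalkMap (Curv2.bcFst k X (AlgebraicClosure k)) xb
    have h6 : IsLocalHom (algebraMap (X.presheaf.stalk (Curv2.bcFst k X (AlgebraicClosure k) xb))
        ((Curv2.bc k X (AlgebraicClosure k)).presheaf.stalk xb)) :=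
      inferInstanceAs (IsLocalHom ((Curv2.bcFst k X (AlgebraicClosure k)).stalkMap xb).hom)
    exact sup_eq_maximalIdeal' (K := AlgebraicClosure k)
      (R := (Curv2.bc k X (AlgebraicClosure k)).presheaf.stalk xb) hodp (stalkIdeal I _) (stalkIdeal J _)
      (not_isField_quotient I hz hzx hzI) (not_isField_quotient J hw hwx hwJ) hI0 hJ0 hinf

end Sch

end K896.NodeMeet
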