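import Mathlib.AlgebraicGeometry.AlgClosed.Basic
import Groth.Agent.AlgSt.K737.Chart
import Groth.Agent.AlgSt.K736.QC
import Groth.Agent.CurvSt.K902.SelfChart
import Groth.Agent.IsoNat.K862.Yon

/-!
# Families of objects of a stack and points

* `famPt h x : |T| ⟶ |𝒳|`, the map on points defined by an object `x` over `T`; `mk_eq_famPt`, `famPt_map`,
  `continuous_famPt`;
* `mem_connectedComponent_of_family` : all field-valued fibres of a family over a connected base lie in one connected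
  component of `|𝒳|`;
* `exists_kpt` : over an algebraically closed field every non-empty open of `|𝒳|` contains a `k`-object;
* `preconnectedSpace_of_kpts` : `|𝒳|` is connected if all `k`-objects lie in one component;
* `GluePts` : a relation between the objects of two stacks which is stable under base change, locally non-empty and
  unique over fields defines a continuous map on points.
-/

set_option autoImplicit false
set_option backward.isDefEq.respectTransparency false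
set_option backward.isDefEq.respectTransparency.types false

universe v₃ u₃ v₂ u₂ u

open CategoryTheory CategoryTheory.Limits AlgebraicGeometry Opposite AlgSp K862.Fib

namespace K896.StPts

variable {S : Scheme.{u}} {𝒳 : BasedCategory.{v₂, u₂} (Over S)}

/-- The map `|T| ⟶ |𝒳|` defined by an object over `T`. -/
noncomputable def famPt (h𝒳 : FibCat.IsFibGrpd 𝒳.p) (x : 𝒳.obj) (t : ↥(𝒳.p.obj x).left) : AlgSt.Points 𝒳 :=
  AlgSt.Points.ofChart (K735.Fp.yonF h𝒳 x rfl) t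

theorem mk_eq_famPt (h𝒳 : FibCat.IsFibGrpd 𝒳.p) (x : 𝒳.obj) (p : AlgSt.FPt 𝒳) (φ : p.obj ⟶ x) :
    AlgSt.Points.mk p =
      famPt h𝒳 x ((eqToHom p.lies.symm ≫ 𝒳.p.map φ).left (IsLocalRing.closedPoint p.K)) := by
  let y := K735.Fp.yonF h𝒳 x rfl
  let m : Over.mk p.str ⟶ 𝒳.p.obj x := eqToHom p.lies.symm ≫ 𝒳.p.map φ
  change _ = AlgSt.Points.ofChart y (m.left (IsLocalRing.closedPoint p.K))
  rw [K737.Chart.ofChart_eq_mk y (K := p.K) m]
  let i := (K735.Fp.yonFIso h𝒳 x rfl).hom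
  have hi : K735.Fib.Vert 𝒳.p i := K735.Fp.vert_yonFIso h𝒳 x rfl
  -- the canonical arrow over `m`
  let c : (Over.mk m : Over (𝒳.p.obj x)) ⟶ Over.mk (𝟙 _) := Over.homMk m (Category.comp_id _)
  have l1 : 𝒳.p.IsHomLift m (y.map c) := by
    have : (FibCat.overCat (𝒳.p.obj x)).p.IsHomLift m c := IsHomLift.map (Over.forget (𝒳.p.obj x)) c
    exact BasedFunctor.preserves_isHomLift y _ _
  have l2 : 𝒳.p.IsHomLift (𝟙 (𝒳.p.obj x)) i := hi.isHomLift (y.w_obj (Over.mk (𝟙 _)))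
  have l3 : 𝒳.p.IsHomLift m (y.map c ≫ i) := IsHomLift.comp_lift_id_right 𝒳.p m _ i
  have l4 : 𝒳.p.IsHomLift (𝒳.p.map φ) φ := IsHomLift.map 𝒳.p φ
  obtain ⟨e, -, -⟩ := @exists_fill _ _ _ _ 𝒳.p h𝒳 _ _ _ _ _ p.obj m (𝒳.p.map φ) (eqToHom p.lies)
    (by rw [← Category.assoc, eqToHom_trans, eqToHom_refl, Category.id_comp]) (y.map c ≫ i) φ l3 l4
  exact K735.Pts.mk_eq_of_hom (p := p) (q := K737.Chart.fpt y m) e

/-- The point at `t` in terms of any object over the residue field. -/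
theorem famPt_eq_mk (h𝒳 : FibCat.IsFibGrpd 𝒳.p) (x : 𝒳.obj) (t : ↥(𝒳.p.obj x).left) :
    ∃ (p : AlgSt.FPt 𝒳) (φ : p.obj ⟶ x), famPt h𝒳 x t = AlgSt.Points.mk p ∧
      (eqToHom p.lies.symm ≫ 𝒳.p.map φ).left (IsLocalRing.closedPoint p.K) = t := by
  let _ : FibCat.IsFibGrpd 𝒳.p := h𝒳
  let m : Over.mk ((𝒳.p.obj x).left.fromSpecResidueField t ≫ (𝒳.p.obj x).hom) ⟶ 𝒳.p.obj x :=
    Over.homMk ((𝒳.p.obj x).left.fromSpecResidueField t) rfl
  obtain ⟨z, φ, hφ⟩ := FibCat.IsFibGrpd.exists_lift (p := 𝒳.p) (x := x) m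
  let p : AlgSt.FPt 𝒳 := { K := (𝒳.p.obj x).left.residueField t
                           str := (𝒳.p.obj x).left.fromSpecResidueField t ≫ (𝒳.p.obj x).hom
                           obj := z
                           lies := IsHomLift.domain_eq 𝒳.p m φ }
  have h1 : eqToHom p.lies.symm ≫ 𝒳.p.map φ = m := by
    have := IsHomLift.fac' 𝒳.p m φ
    rw [this]
    simp [p]
  have h2 : (eqToHom p.lies.symm ≫ 𝒳.p.map φ).left (IsLocalRing.closedPoint p.K) = t := by
    rw [h1]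
    exact Scheme.fromSpecResidueField_apply _ _
  refine ⟨p, φ, ?_, h2⟩
  rw [mk_eq_famPt h𝒳 x p φ, h2]

theorem famPt_map (h𝒳 : FibCat.IsFibGrpd 𝒳.p) {x x' : 𝒳.obj} (ψ : x' ⟶ x) (t : ↥(𝒳.p.obj x').left) :
    famPt h𝒳 x' t = famPt h𝒳 x ((𝒳.p.map ψ).left t) := by
  obtain ⟨p, φ, h1, h2⟩ := famPt_eq_mk h𝒳 x' t
  rw [h1, mk_eq_famPt h𝒳 x p (φ ≫ ψ), ← h2, Functor.map_comp, ← Category.assoc, Over.comp_left,
    Scheme.Hom.comp_apply]

theorem continuous_famPt (h𝒳 : FibCat.IsFibGrpd 𝒳.p) (hat : AlgSt.HasAtlas (AlgSp.LocP @Smooth) 𝒳) (x : 𝒳.obj) :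
    Continuous (famPt h𝒳 x) :=
  K737.Chart.continuous_ofChart h𝒳 hat _

/-- All field-valued fibres of a family over a connected base lie in one connected component. -/
theorem mem_connectedComponent_of_family {K : Precoverage Scheme.{u}} (h𝒳 : AlgSt.IsAlgStack K 𝒳) (x : 𝒳.obj)
    [PreconnectedSpace ↥(𝒳.p.obj x).left] (p q : AlgSt.FPt 𝒳) (φ : p.obj ⟶ x) (ψ : q.obj ⟶ x) :
    AlgSt.Points.mk q ∈ connectedComponent (AlgSt.Points.mk p) := by
  have hf := h𝒳.isStack.1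
  have hc : IsPreconnected (Set.range (famPt hf x)) :=
    isPreconnected_range (continuous_famPt hf h𝒳.atlas x)
  refine hc.subset_connectedComponent ?_ ?_
  · exact ⟨_, (mk_eq_famPt hf x p φ).symm⟩
  · exact ⟨_, (mk_eq_famPt hf x q ψ).symm⟩

section kpts

variable {k : Type u} [Field k] {𝒴 : BasedCategory.{v₂, u₂} (Over (Spec (CommRingCat.of k)))}

/-- The point of `|𝒴|` of an object over `k`. -/
noncomputable def kpt (a : 𝒴.obj) (ha : 𝒴.p.obj a = Over.mk (𝟙 (Spec (CommRingCat.of k)))) : AlgSt.Points 𝒴 :=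
  AlgSt.Points.mk ⟨k, 𝟙 _, a, ha⟩

/-- A stack locally of finite type over `S` has a smooth surjective chart `U` locally of finite type over `S`. -/
theorem exists_atlas_lft {𝒳 : BasedCategory.{v₂, u₂} (Over S)}
    (h : AlgSt.LocQ (LocP @LocallyOfFiniteType) (FibCat.toSelf 𝒳)) :
    ∃ (U : Over S) (x : FibCat.overCat U ⥤ᵇ 𝒳), AlgSt.RepByAlgSpWith (LocP @Smooth) x ∧
      AlgSt.RepByAlgSpWith IsSurjectiveMor x ∧ LocallyOfFiniteType U.hom := by
  obtain ⟨U, V, x, y, g, -, hx, hxs, hy, hP⟩ := h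
  have h1 : LocallyOfFiniteType g.left := AlgSp.locP_yon_map hP
  have h2 : Smooth V.hom := K902.SelfChart.smooth_of_repByAlgSpWith hy
  refine ⟨U, x, hx, hxs, ?_⟩
  rw [← Over.w g]
  infer_instance

/-- Over an algebraically closed field every non-empty open of `|𝒴|` contains a `k`-object. -/
theorem exists_kpt [IsAlgClosed k] {K : Precoverage Scheme.{u}} (h𝒴 : AlgSt.IsAlgStack K 𝒴)
    (hft : AlgSt.LocQ (LocP @LocallyOfFiniteType) (FibCat.toSelf 𝒴)) (V : Set (AlgSt.Points 𝒴)) (hV : IsOpen V)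
    (hne : V.Nonempty) : ∃ (a : 𝒴.obj) (ha : 𝒴.p.obj a = Over.mk (𝟙 _)), kpt a ha ∈ V := by
  obtain ⟨U, x, hx, hxs, hU⟩ := exists_atlas_lft hft
  have hJ : JacobsonSpace U.left := LocallyOfFiniteType.jacobsonSpace U.hom
  have hc := K736.QC.continuous_ofChart h𝒴 x
  obtain ⟨v, hv⟩ := hne
  obtain ⟨t, rfl⟩ := K736.QC.surjective_ofChart h𝒴 hxs v
  obtain ⟨z, hz, hzc⟩ := nonempty_inter_closedPoints (Z := AlgSt.Points.ofChart x ⁻¹' V) ⟨t, hv⟩
    (hV.preimage hc).isLocallyClosed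
  let σ := ((pointEquivClosedPoint U.hom).symm ⟨z, hzc⟩).1
  have hσ : σ ≫ U.hom = 𝟙 _ := ((pointEquivClosedPoint U.hom).symm ⟨z, hzc⟩).2
  have hσz : σ (IsLocalRing.closedPoint k) = z := by
    have := congrArg Subtype.val ((pointEquivClosedPoint U.hom).apply_symm_apply ⟨z, hzc⟩)
    exact this
  let m : Over.mk (𝟙 (Spec (CommRingCat.of k))) ⟶ U := Over.homMk σ hσ
  refine ⟨x.obj (Over.mk m), x.w_obj _, ?_⟩
  have h1 := K737.Chart.ofChart_eq_mk x (K := k) m
  have h2 : m.left (IsLocalRing.closedPoint k) = z := hσz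
  rw [h2] at h1
  change AlgSt.Points.mk (K737.Chart.fpt x m) ∈ V
  rw [← h1]
  exact hz

/-- `|𝒴|` is connected if all `k`-objects lie in one connected component. -/
theorem preconnectedSpace_of_kpts [IsAlgClosed k] {K : Precoverage Scheme.{u}} (h𝒴 : AlgSt.IsAlgStack K 𝒴)
    (hft : AlgSt.LocQ (LocP @LocallyOfFiniteType) (FibCat.toSelf 𝒴))
    (h : ∀ (a : 𝒴.obj) (ha : 𝒴.p.obj a = Over.mk (𝟙 _)) (b : 𝒴.obj) (hb : 𝒴.p.obj b = Over.mk (𝟙 _)),
      kpt b hb ∈ connectedComponent (kpt a ha)) : PreconnectedSpace (AlgSt.Points 𝒴) := by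
  rw [preconnectedSpace_iff_clopen]
  intro s hs
  by_contra hcon
  rw [not_or] at hcon
  obtain ⟨h1, h2⟩ := hcon
  obtain ⟨a, ha, hab⟩ := exists_kpt h𝒴 hft s hs.2 (Set.nonempty_iff_ne_empty.2 h1)
  obtain ⟨b, hb, hbs⟩ := exists_kpt h𝒴 hft sᶜ hs.1.isOpen_compl (Set.nonempty_compl.2 h2)
  exact hbs (hs.connectedComponent_subset hab (h a ha b hb))

end kpts

end K896.StPts
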