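import Groth.Agent.CurvSt.K896.RatComp

/-!
# Rational tails and bridges of a nodal curve over an algebraically closed field: the component form
-/

set_option autoImplicit false
universe u
open CategoryTheory CategoryTheory.Limits AlgebraicGeometry TopologicalSpace IsLocalRing

namespace K896.TailBridge

open Groth.Agent Groth.Agent.CurvesC.CompGeom Groth.Agent.CurvesC.QuotZero Groth.Agent.CurvesC.NodalPos
  Groth.Agent.Divis.CartierBasic K896.RatComp

section P1

/-- First cohomology of a scheme isomorphic to a projective line vanishes. -/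
theorem subsingleton_of_iso_P1 {k : Type u} [Field k] {Y : Scheme.{u}} (e : CohB1.ProjSpace 1 k ≅ Y) :
    Subsingleton (Coh.HH Y (Coh.structureModule Y) 1) := by
  have h0 := Groth.Agent.S0023.result 1 k 1 one_pos
  have h1 : Subsingleton (Coh.HH (CohB1.ProjSpace 1 k)
      ((Scheme.Modules.pullback e.hom).obj (Coh.structureModule Y)) 1) :=
    (CurvesA.HHMap.equiv (CurvesA.HHMap.pullbackUnit e.hom) 1).toEquiv.subsingleton
  exact (Flat2H.ThickFibre.subsingleton_HH_pullback_iff e.hom (Coh.structureModule Y)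
    (Ega2.QCohLocal.isQCoh_structureModule Y) 1).1 h1

/-- An integral proper curve over an algebraically closed field with `H¹(O) = 0` is a projective line. -/
theorem exists_iso_P1 (k : Type u) [Field k] [IsAlgClosed k] (Y : Scheme.{u}) [Y.Over (Spec (CommRingCat.of k))]
    [IsIntegral Y] [IsProper (Y ↘ Spec (CommRingCat.of k))] (hdim : topologicalKrullDim Y = 1)
    (h1 : Subsingleton (Coh.HH Y (Coh.structureModule Y) 1)) :
    ∃ e : Y ≅ CohB1.ProjSpace 1 k, e.hom ≫ CohB1.ProjSpace.toSpec 1 k = Y ↘ Spec (CommRingCat.of k) := by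
  have hfp : LocallyOfFinitePresentation (Y ↘ Spec (CommRingCat.of k)) :=
    CurvesB.NodeSch2.locallyOfFinitePresentation_of_field _
  obtain ⟨hreg, hdense⟩ := Groth.Agent.S1561.result k Y
  have hjac := LocallyOfFiniteType.jacobsonSpace (Y ↘ Spec (CommRingCat.of k))
  obtain ⟨y, hy1, hy2⟩ : ∃ y : Y, y ∈ (Y ↘ (Spec (CommRingCat.of k))).smoothLocus ∧ IsClosed ({y} : Set Y) := by
    have hne : ((Y ↘ (Spec (CommRingCat.of k))).smoothLocus : Set Y).Nonempty := hdense.nonempty
    obtain ⟨y, hy1, hy2⟩ := (nonempty_inter_closedPoints hne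
      (Y ↘ (Spec (CommRingCat.of k))).smoothLocus.isOpen.isLocallyClosed)
    exact ⟨y, hy1, hy2⟩
  refine Groth.Agent.Models.H55.Recog.exists_iso_of_point k Y hdim
    (Groth.Agent.VarietyA.CurveFin.finrank_h0_structure k Y) ?_ y hy2 ((hreg y).mp hy1) ?_
  · exact Module.finrank_zero_of_subsingleton
  · intro c
    exact exists_const k (Y ↘ Spec (CommRingCat.of k)) y hy2 c

end P1

section Main

variable (k : Type u) [Field k] [IsAlgClosed k] (X : Scheme.{u}) [X.Over (Spec (CommRingCat.of k))]
  [IsProper (X ↘ (Spec (CommRingCat.of k)))] (C : Set X) (hC : C ∈ irreducibleComponents (X : Type u))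

/-- A component of dimension one without `H¹` is a smooth rational component. -/
theorem isSmRatComp_of_h1 (hC1 : topologicalKrullDim C = 1)
    (h1 : Subsingleton (Coh.HH (IC X C hC).subscheme (Coh.structureModule (IC X C hC).subscheme) 1)) :
    CurvSt.IsSmRatComp k X (X ↘ (Spec (CommRingCat.of k))) C := by
  let _ := Groth.Agent.CurvesC.TailNum.subOver k X (IC X C hC)
  have hP : IsProper ((IC X C hC).subscheme ↘ (Spec (CommRingCat.of k))) :=
    inferInstanceAs (IsProper ((IC X C hC).subschemeι ≫ (X ↘ (Spec (CommRingCat.of k)))))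
  have hdim : topologicalKrullDim (IC X C hC).subscheme = 1 := by
    have e : (IC X C hC).subscheme ≃ₜ Set.range (IC X C hC).subschemeι :=
      (IC X C hC).subschemeι.isEmbedding.toHomeomorph
    have h1 : topologicalKrullDim (IC X C hC).subscheme = topologicalKrullDim (Set.range (IC X C hC).subschemeι) :=
      IsHomeomorph.topologicalKrullDim_eq e e.isHomeomorph
    rw [h1, range_C X C hC, hC1]
  obtain ⟨e, he⟩ := exists_iso_P1 k (IC X C hC).subscheme hdim h1
  refine ⟨hC, e.inv ≫ (IC X C hC).subschemeι, inferInstance, ?_, ?_⟩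
  · rw [Category.assoc, Iso.inv_comp_eq]
    exact he.symm
  · have h2 : Function.Surjective e.inv := e.inv.surjective
    have h3 : ((e.inv ≫ (IC X C hC).subschemeι).base : _ → X) = (IC X C hC).subschemeι ∘ e.inv := by
      funext z
      rfl
    change Set.range ((e.inv ≫ (IC X C hC).subschemeι).base : _ → X) = C
    rw [h3, h2.range_comp, range_C]

/-- The reduced structure on a smooth rational component is a projective line. -/
theorem exists_iso_of_isSmRatComp (h : CurvSt.IsSmRatComp k X (X ↘ (Spec (CommRingCat.of k))) C) :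
    Nonempty (CohB1.ProjSpace 1 k ≅ (IC X C h.1).subscheme) := by
  obtain ⟨hC, e, he, -, hr⟩ := h
  have : IsReduced (CohB1.ProjSpace 1 k) := inferInstance
  obtain ⟨e', -⟩ := Groth.Agent.Ega1.ReducedSub.exists_iso_of_range_eq e (IC X C hC).subschemeι
    (by rw [range_C]; exact hr)
  exact ⟨e'⟩

theorem h1_of_isSmRatComp (h : CurvSt.IsSmRatComp k X (X ↘ (Spec (CommRingCat.of k))) C) :
    Subsingleton (Coh.HH (IC X C h.1).subscheme (Coh.structureModule (IC X C h.1).subscheme) 1) := by
  obtain ⟨e⟩ := exists_iso_of_isSmRatComp k X C h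
  exact subsingleton_of_iso_P1 e

variable (hdim : topologicalKrullDim X = 1) (hX : Curv2.AtWorstNodal k X)

include hdim hX in
theorem ncard_of_isRationalTail [IsReduced X] (h : Curv2.IsRationalTail X C hC) :
    (C ∩ closure Cᶜ).ncard = 1 := by
  have hN : IsNoetherian X := Groth.Agent.CurvesC.CurveCoh.noetherianSpace k X
  obtain ⟨-, h2, h3, -, -, -⟩ := h
  have h2' : Nonempty (IC X C hC ⊔ IX' X C hC).subscheme := h2
  have h3' : Subsingleton (IC X C hC ⊔ IX' X C hC).subscheme := h3
  have e2 : (IC X C hC ⊔ IX' X C hC).subscheme ≃ (C ∩ closure Cᶜ : Set X) :=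
      (Equiv.ofInjective _ (IC X C hC ⊔ IX' X C hC).subschemeι.isClosedEmbedding.injective).trans
        (Equiv.setCongr (range_T X C hC))
  rw [← Nat.card_coe_set_eq, ← Nat.card_congr e2, Nat.card_eq_one_iff_unique]
  exact ⟨h3', h2'⟩

include hdim hX in
theorem ncard_of_isRationalBridge [IsReduced X] (h : Curv2.IsRationalBridge k X C hC) :
    (C ∩ closure Cᶜ).ncard = 2 := by
  obtain ⟨-, h2, -⟩ := h
  have h3 := finrank_inter k X hdim hX C hC
  have h4 := finrank_comp k X C hC
  rw [← h3]
  exact h2.trans (by rw [h4])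

include hdim hX in
theorem isRationalTail_of_ncard [IsReduced X] (h : CurvSt.IsSmRatComp k X (X ↘ (Spec (CommRingCat.of k))) C)
    (hne : C ≠ Set.univ) (h1 : (C ∩ closure Cᶜ).ncard = 1) : Curv2.IsRationalTail X C h.1 := by
  refine Groth.Agent.CurvesC.TailGeom.isRationalTail k hdim.le C h.1 hne ?_ ?_
  · exact (finrank_inter k X hdim hX C h.1).trans (h1.trans (finrank_comp k X C h.1).symm)
  · let _ := Groth.Agent.CurvesC.TailNum.subOver k X (IC X C h.1)
    have h3 := h1_of_isSmRatComp k X C h
    have h4 := Groth.Agent.CurvesC.TailNum.finrank_quotMod k X (IC X C h.1) 1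
    refine h4.symm.trans ?_
    exact Module.finrank_zero_of_subsingleton

include hdim hX in
theorem isRationalBridge_of_ncard [IsReduced X] (h : CurvSt.IsSmRatComp k X (X ↘ (Spec (CommRingCat.of k))) C)
    (hne : C ≠ Set.univ) (h1 : (C ∩ closure Cᶜ).ncard = 2) : Curv2.IsRationalBridge k X C h.1 := by
  have hN : IsNoetherian X := Groth.Agent.CurvesC.CurveCoh.noetherianSpace k X
  refine ⟨support_IX'_nonempty X C h.1 hne, ?_, h1_of_isSmRatComp k X C h⟩
  have h4 := finrank_comp k X C h.1
  exact (finrank_inter k X hdim hX C h.1).trans (by rw [h1, h4])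

end Main

end K896.TailBridge
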