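import Groth.Agent.CurvSt.K896.CompMeet
import Groth.Agent.CurvesC.NodalPos2
import Groth.Agent.Models.H55.Recog
import Groth.Agent.VarietyA.CurveFin
import Groth.Agent.S1561
import Groth.Agent.S1589
import Groth.Agent.Flat2H.ThickFibre
import Groth.Agent.Ega2.QCohLocal
import Groth.Agent.CurvesA.HHMap
import Groth.Agent.S0023

/-!
# Smooth rational components, rational tails and rational bridges of a nodal curve over an algebraically closed field
-/

set_option autoImplicit false
universe u
open CategoryTheory CategoryTheory.Limits AlgebraicGeometry TopologicalSpace IsLocalRing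

namespace K896.RatComp

open Groth.Agent Groth.Agent.CurvesC.CompGeom Groth.Agent.CurvesC.QuotZero Groth.Agent.CurvesC.NodalPos
  Groth.Agent.Divis.CartierBasic

section Count

/-- A finite reduced algebra over an algebraically closed field: its dimension is the number of its points. -/
theorem finrank_eq_natCard (k A : Type u) [Field k] [IsAlgClosed k] [CommRing A] [Algebra k A] [Module.Finite k A]
    [_root_.IsReduced A] : Module.finrank k A = Nat.card (PrimeSpectrum A) := by
  have hart : IsArtinianRing A := IsArtinianRing.of_finite k A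
  let e1 : A ≃ₗ[k] (∀ I : MaximalSpectrum A, A ⧸ I.asIdeal) :=
    (IsArtinianRing.equivPi A).toLinearEquiv.restrictScalars k
  have hfin : Finite (MaximalSpectrum A) := inferInstance
  let _ := Fintype.ofFinite (MaximalSpectrum A)
  have h1 : ∀ I : MaximalSpectrum A, Module.finrank k (A ⧸ I.asIdeal) = 1 := by
    intro I
    have hI := I.isMaximal
    let _ := Ideal.Quotient.field I.asIdeal
    have hbij : Function.Bijective (algebraMap k (A ⧸ I.asIdeal)) :=
      IsAlgClosed.algebraMap_bijective_of_isIntegral
    exact (LinearEquiv.finrank_eq (LinearEquiv.ofBijective (Algebra.linearMap k (A ⧸ I.asIdeal)) hbij)).symm.trans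
      (Module.finrank_self k)
  rw [e1.finrank_eq, Module.finrank_pi_fintype]
  simp only [h1, Finset.sum_const, Finset.card_univ, smul_eq_mul, mul_one]
  rw [← Nat.card_eq_fintype_card]
  exact Nat.card_congr IsArtinianRing.primeSpectrumEquivMaximalSpectrum.symm

end Count

section Res

variable (k : Type u) [Field k] [IsAlgClosed k]

/-- The residue field at a closed point. -/
theorem exists_const {X : Scheme.{u}} (f : X ⟶ Spec (CommRingCat.of k)) [LocallyOfFiniteType f] (x : X)
    (hx : IsClosed ({x} : Set X)) (c : X.presheaf.stalk x) :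
    ∃ a : k, c - X.presheaf.germ ⊤ x trivial (glob f a) ∈ maximalIdeal (X.presheaf.stalk x) := by
  have h1 := (Groth.Agent.CurvesB.Node.isClosed_iff_finite f x).mp hx
  let _ := @Curv2.resAlgebra k _ X ⟨f⟩ x
  have h2 : Module.Finite k (X.residueField x) := h1
  have h3 : Function.Surjective (algebraMap k (X.residueField x)) :=
    (IsAlgClosed.algebraMap_bijective_of_isIntegral (k := k) (K := X.residueField x)).2
  obtain ⟨a, ha⟩ := h3 ((X.residue x).hom c)
  refine ⟨a, ?_⟩
  rw [← IsLocalRing.residue_eq_zero_iff, map_sub, sub_eq_zero]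
  exact ha.symm

end Res

section Main

variable (k : Type u) [Field k] [IsAlgClosed k] (X : Scheme.{u}) [X.Over (Spec (CommRingCat.of k))]
  [IsProper (X ↘ (Spec (CommRingCat.of k)))] (hdim : topologicalKrullDim X = 1) (hX : Curv2.AtWorstNodal k X)
  (C : Set X) (hC : C ∈ irreducibleComponents (X : Type u))

include hdim hX in
/-- At every point of the intersection of a component with the rest of the curve the two ideals generate the
maximal ideal. -/
theorem stalkIdeal_eq [IsReduced X] (x : X) (hx : x ∈ C ∩ closure Cᶜ) :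
    stalkIdeal (IC X C hC ⊔ IX' X C hC) x = maximalIdeal (X.presheaf.stalk x) := by
  have hN : IsNoetherian X := Groth.Agent.CurvesC.CurveCoh.noetherianSpace k X
  have hCcl := isClosed_of_mem_irreducibleComponents C hC
  have hxcl : IsClosed ({x} : Set X) := (Groth.Agent.CurvesC.TailGeom.finite_inter hdim.le hC).2 x hx
  obtain ⟨y, hyC, hy⟩ := exists_mem_notMem_closure X C hC
  obtain ⟨z, hz⟩ := QuasiSober.sober hC.1 hCcl
  obtain ⟨E, hE, hEC, hxE⟩ := (CompMeet.mem_closure_compl_iff hC x).mp hx.2
  obtain ⟨w, hw⟩ := QuasiSober.sober hE.1 (isClosed_of_mem_irreducibleComponents E hE)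
  have hzx : z ⤳ x := hz.specializes hx.1
  have hwx : w ⤳ x := hw.specializes hxE
  have hznot : z ∉ closure Cᶜ := fun h => hy ((hz.specializes hyC).mem_closed isClosed_closure h)
  have hwC : w ∉ C := by
    intro h
    apply hEC
    have h1 : E ⊆ C := by
      intro v hv
      exact (hw.specializes hv).mem_closed hCcl h
    exact h1.antisymm (hE.2 hC.1 h1)
  rw [stalkIdeal_sup]
  refine CompMeet.stalkIdeal_sup_eq k X hX (IC X C hC) (IX' X C hC) ?_ (CompMeet.radical_ker_ι _) ?_ x hxcl
    hzx ?_ ?_ ?_ hwx ?_ ?_ ?_
  · have h := Groth.Agent.Ega1.ReducedSub.radical_ker_eq (IC X C hC).subschemeι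
    rwa [Scheme.IdealSheafData.ker_subschemeι] at h
  · rw [support_IC, support_IX']
    rw [Set.eq_univ_iff_forall]
    intro v
    by_cases hv : v ∈ C
    · exact Or.inl hv
    · exact Or.inr (subset_closure hv)
  · rintro rfl
    exact hznot hx.2
  · rw [support_IC]; exact hz.mem
  · rw [support_IX']; exact hznot
  · rintro rfl
    exact hwC hx.1
  · rw [support_IC]; exact hwC
  · rw [support_IX']
    exact subset_closure hwC

include hdim hX in
/-- The scheme theoretic intersection of a component with the rest of the curve: discrete, finite and reduced. -/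
theorem inter_props [IsReduced X] :
    Finite (IC X C hC ⊔ IX' X C hC).subscheme ∧ DiscreteTopology (IC X C hC ⊔ IX' X C hC).subscheme ∧
      IsReduced (IC X C hC ⊔ IX' X C hC).subscheme := by
  have hN : IsNoetherian X := Groth.Agent.CurvesC.CurveCoh.noetherianSpace k X
  have hemb := (IC X C hC ⊔ IX' X C hC).subschemeι.isClosedEmbedding
  obtain ⟨hfin, hcl⟩ := Groth.Agent.CurvesC.TailGeom.finite_inter hdim.le hC
  have hrange := range_T X C hC
  refine ⟨?_, ?_, ?_⟩
  · have : Finite (Set.range (IC X C hC ⊔ IX' X C hC).subschemeι) := by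
      rw [hrange]; exact hfin
    exact Finite.of_injective_finite_range hemb.injective
  · rw [discreteTopology_iff_forall_isClosed]
    exact fun S => isClosed_T X C hC hdim.le S
  · have hst : ∀ d : (IC X C hC ⊔ IX' X C hC).subscheme,
        _root_.IsReduced ((IC X C hC ⊔ IX' X C hC).subscheme.presheaf.stalk d) := by
      intro d
      have hd : (IC X C hC ⊔ IX' X C hC).subschemeι d ∈ C ∩ closure Cᶜ := by
        rw [← hrange]; exact ⟨d, rfl⟩
      let e := Groth.Agent.Divis.CartierStalk.stalkQuotEquiv (IC X C hC ⊔ IX' X C hC) d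
      have h1 := stalkIdeal_eq k X hdim hX C hC _ hd
      have h2 : _root_.IsReduced (X.presheaf.stalk ((IC X C hC ⊔ IX' X C hC).subschemeι d) ⧸
          stalkIdeal (IC X C hC ⊔ IX' X C hC) ((IC X C hC ⊔ IX' X C hC).subschemeι d)) := by
        rw [h1]
        let _ := Ideal.Quotient.field (maximalIdeal (X.presheaf.stalk ((IC X C hC ⊔ IX' X C hC).subschemeι d)))
        infer_instance
      exact isReduced_of_injective e.symm.toRingHom e.symm.injective
    exact isReduced_of_isReduced_stalk _

include hdim hX in
/-- The number of points where a component meets the rest of the curve. -/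
theorem finrank_inter [IsReduced X] :
    Module.finrank k (Coh.HH X (ClSub.quotMod (IC X C hC ⊔ IX' X C hC)) 0) = (C ∩ closure Cᶜ).ncard := by
  have hN : IsNoetherian X := Groth.Agent.CurvesC.CurveCoh.noetherianSpace k X
  obtain ⟨h1, h2, h3⟩ := inter_props k X hdim hX C hC
  set D := (IC X C hC ⊔ IX' X C hC).subscheme with hD
  have hfin := Groth.Agent.CurvesC.TailNum.finite_quotMod k X (IC X C hC ⊔ IX' X C hC) 0
  rw [finrank_quot]
  let φ := glob ((IC X C hC ⊔ IX' X C hC).subschemeι ≫ (X ↘ Spec (CommRingCat.of k)))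
  have hfin' : @Module.Finite k Γ(D, ⊤) _ _ (Module.compHom _ φ) :=
    finite_of_addEquiv φ (addQuot (IC X C hC ⊔ IX' X C hC)) (addQuot_smul (IC X C hC ⊔ IX' X C hC))
  let _ : Algebra k Γ(D, ⊤) := φ.toAlgebra
  have hfin'' : Module.Finite k Γ(D, ⊤) := hfin'
  have hcard := finrank_eq_natCard k Γ(D, ⊤)
  refine Eq.trans ?_ (hcard.trans ?_)
  · rfl
  · have hA : IsAffine D := inferInstance
    have e1 : D ≃ PrimeSpectrum Γ(D, ⊤) := D.isoSpec.hom.homeomorph.toEquiv
    have e2 : D ≃ (C ∩ closure Cᶜ : Set X) :=
      (Equiv.ofInjective _ (IC X C hC ⊔ IX' X C hC).subschemeι.isClosedEmbedding.injective).trans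
        (Equiv.setCongr (range_T X C hC))
    rw [Nat.card_congr e1.symm, Nat.card_congr e2, Nat.card_coe_set_eq]

/-- Global functions of a component. -/
theorem finrank_comp : Module.finrank k (Coh.HH X (ClSub.quotMod (IC X C hC)) 0) = 1 := by
  rw [← Groth.Agent.CurvesC.TailNum.finrank_quotMod]
  let _ := Groth.Agent.CurvesC.TailNum.subOver k X (IC X C hC)
  have : IsProper ((IC X C hC).subscheme ↘ (Spec (CommRingCat.of k))) :=
    inferInstanceAs (IsProper ((IC X C hC).subschemeι ≫ (X ↘ (Spec (CommRingCat.of k)))))
  exact Groth.Agent.VarietyA.CurveFin.finrank_h0_structure k (IC X C hC).subscheme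

end Main

end K896.RatComp
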