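import Groth.Agent.CurvSt.K896.Contr
import Groth.Agent.Pinch.K838.FerrBC
import Groth.Agent.S15944
import Groth.Agent.CurvesC.TailNum

/-!
# Contraction of a closed subscheme without higher cohomology
-/

set_option autoImplicit false
universe u
open CategoryTheory CategoryTheory.Limits AlgebraicGeometry TopologicalSpace

namespace K896.Contract

open K838.Ferr K896.Ferr K896.Contr Groth.Agent

/-- The inclusion of the intersection into `V(J)`. -/
noncomputable abbrev iX {X : Scheme.{u}} (I J : X.IdealSheafData) : (I ⊔ J).subscheme ⟶ J.subscheme :=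
  Scheme.IdealSheafData.inclusion (le_sup_right : J ≤ I ⊔ J)

/-- The inclusion of the intersection into `V(I)`. -/
noncomputable abbrev iC {X : Scheme.{u}} (I J : X.IdealSheafData) : (I ⊔ J).subscheme ⟶ I.subscheme :=
  Scheme.IdealSheafData.inclusion (le_sup_left : I ≤ I ⊔ J)

instance {X : Scheme.{u}} (I J : X.IdealSheafData) : IsClosedImmersion (iX I J) :=
  MorphismProperty.of_isPullback (P := @IsClosedImmersion) (isPullback_sup I J).flip inferInstance

instance {X : Scheme.{u}} (I J : X.IdealSheafData) : IsClosedImmersion (iC I J) :=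
  MorphismProperty.of_isPullback (P := @IsClosedImmersion) (isPullback_sup I J) inferInstance

/-- `c : X ⟶ Y` contracts the closed subscheme `V(I)` to `b : Spec Γ(V(I), O) ⟶ Y`. -/
structure IsContraction {X Y : Scheme.{u}} (I J : X.IdealSheafData) (c : X ⟶ Y)
    (b : Spec Γ(I.subscheme, ⊤) ⟶ Y) : Prop where
  w : I.subschemeι ≫ c = I.subscheme.toSpecΓ ≫ b
  closed : IsClosedImmersion b
  ferr : IsFerr (iX I J) (iC I J ≫ I.subscheme.toSpecΓ) (J.subschemeι ≫ c) b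
  pb : IsPullback (iX I J) (iC I J ≫ I.subscheme.toSpecΓ) (J.subschemeι ≫ c) b
  surj : ∀ y : Y, (∃ x, (J.subschemeι ≫ c) x = y) ∨ ∃ s, b s = y
  fin : IsFinite (iC I J ≫ I.subscheme.toSpecΓ)

section Opens

theorem opens_eq {S : Scheme.{u}} [Subsingleton S] (O : S.Opens) : O = ⊤ ∨ O = ⊥ := by
  by_cases h : ∃ x : S, x ∈ O
  · obtain ⟨x, hx⟩ := h
    left
    ext y
    rw [Subsingleton.elim y x]
    simpa using hx
  · right
    ext y
    simp only [Opens.coe_bot, Set.mem_empty_iff_false, iff_false]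
    exact fun hy => h ⟨y, hy⟩

theorem bijective_toSpecΓ_app (C : Scheme.{u}) [Subsingleton (Spec Γ(C, ⊤))] (O : (Spec Γ(C, ⊤)).Opens) :
    Function.Bijective (C.toSpecΓ.app O) := by
  rcases opens_eq O with rfl | rfl
  · have h1 : IsIso (C.toSpecΓ.app ⊤) := by
      have h2 : C.toSpecΓ.appTop = (Scheme.ΓSpecIso Γ(C, ⊤)).hom := Scheme.toSpecΓ_appTop C
      change IsIso C.toSpecΓ.appTop
      rw [h2]
      infer_instance
    exact (ConcreteCategory.isIso_iff_bijective _).mp h1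
  · have h1 : Subsingleton Γ(Spec Γ(C, ⊤), ⊥) := Ferr.subsingleton_of_eq_bot rfl
    have h2 : Subsingleton Γ(C, C.toSpecΓ ⁻¹ᵁ ⊥) := Ferr.subsingleton_of_eq_bot rfl
    exact ⟨fun _ _ _ => Subsingleton.elim _ _, fun y => ⟨0, Subsingleton.elim _ _⟩⟩

end Opens

section Restrict

variable {X X' C T : Scheme.{u}} {i : T ⟶ X'} {iC : T ⟶ C} {α : X' ⟶ X} {β : C ⟶ X}
  [IsClosedImmersion α] [IsClosedImmersion β]

theorem exists_restrict (h : IsFerr i iC α β) (W : X.Opens) :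
    ∃ iC' : ((i ⁻¹ᵁ (α ⁻¹ᵁ W)).toScheme) ⟶ (β ⁻¹ᵁ W).toScheme,
      IsFerr (i ∣_ (α ⁻¹ᵁ W)) iC' (α ∣_ W) (β ∣_ W) := by
  have hi := h.closed
  have hY := (isPullback_morphismRestrict β W).flip
  have hX := (isPullback_morphismRestrict α W).flip
  have hZ := (isPullback_morphismRestrict i (α ⁻¹ᵁ W)).flip
  let iC' : ((i ⁻¹ᵁ (α ⁻¹ᵁ W)).toScheme) ⟶ (β ⁻¹ᵁ W).toScheme :=
    hY.lift ((i ⁻¹ᵁ (α ⁻¹ᵁ W)).ι ≫ iC) (i ∣_ (α ⁻¹ᵁ W) ≫ α ∣_ W) (by
      rw [Category.assoc, Category.assoc, ← h.w, ← hX.w, ← Category.assoc, hZ.w, Category.assoc])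
  have h1 : iC' ≫ (β ⁻¹ᵁ W).ι = (i ⁻¹ᵁ (α ⁻¹ᵁ W)).ι ≫ iC := hY.lift_fst _ _ _
  have h2 : iC' ≫ β ∣_ W = i ∣_ (α ⁻¹ᵁ W) ≫ α ∣_ W := hY.lift_snd _ _ _
  have hW : IsPullback W.ι (𝟙 (W : Scheme.{u})) (𝟙 X) W.ι := IsPullback.of_vert_isIso ⟨by simp⟩
  have hpo := K838.FerrBC.isPushout_flat_baseChange h hW hX hY hZ h1 h2.symm
  have hc1 : IsClosedImmersion (α ∣_ W) := MorphismProperty.of_isPullback (P := @IsClosedImmersion) hX inferInstance
  have hc2 : IsClosedImmersion (β ∣_ W) := MorphismProperty.of_isPullback (P := @IsClosedImmersion) hY inferInstance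
  have hc3 : IsClosedImmersion (i ∣_ (α ⁻¹ᵁ W)) := MorphismProperty.of_isPullback (P := @IsClosedImmersion) hZ inferInstance
  exact ⟨iC', isFerr_of_isPushout hpo⟩

end Restrict

section Main

variable {X Y : Scheme.{u}} {I J : X.IdealSheafData} {c : X ⟶ Y} {b : Spec Γ(I.subscheme, ⊤) ⟶ Y}

/-- A contraction of a closed subscheme without higher cohomology has no higher direct images. -/
theorem IsContraction.isCon (h : IsContraction I J c b) (hIJ : I ⊓ J = ⊥) [Subsingleton (Spec Γ(I.subscheme, ⊤))]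
    (hvan : ∀ q : ℕ, Subsingleton (Coh.HH I.subscheme (Coh.structureModule I.subscheme) (q + 1))) : IsCon c where
  bij O := Ferr.bijective_app (isFerr_sup hIJ) h.ferr h.w O (bijective_toSpecΓ_app _ _)
  van V hV q := by
    rw [HHon_iff_open]
    obtain ⟨iC', hF⟩ := exists_restrict (isFerr_sup hIJ) (c ⁻¹ᵁ V)
    have haff := h.ferr.affine_left
    have h1 : IsAffineOpen ((J.subschemeι ≫ c) ⁻¹ᵁ V) := hV.preimage (J.subschemeι ≫ c)
    have h2 : IsAffine (J.subschemeι ⁻¹ᵁ (c ⁻¹ᵁ V)).toScheme := h1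
    have hc1 : IsClosedImmersion (J.subschemeι ∣_ (c ⁻¹ᵁ V)) :=
      MorphismProperty.of_isPullback (P := @IsClosedImmersion) (isPullback_morphismRestrict _ _).flip inferInstance
    have hc2 : IsClosedImmersion (I.subschemeι ∣_ (c ⁻¹ᵁ V)) :=
      MorphismProperty.of_isPullback (P := @IsClosedImmersion) (isPullback_morphismRestrict _ _).flip inferInstance
    refine ConH.subsingleton_HH hF q ?_
    have h3 : I.subschemeι ⁻¹ᵁ (c ⁻¹ᵁ V) = I.subscheme.toSpecΓ ⁻¹ᵁ (b ⁻¹ᵁ V) := by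
      have h4 : (I.subschemeι ≫ c) ⁻¹ᵁ V = (I.subscheme.toSpecΓ ≫ b) ⁻¹ᵁ V := by rw [h.w]
      exact h4
    rw [h3, ← HHon_iff_open]
    rcases opens_eq (b ⁻¹ᵁ V) with h5 | h5
    · rw [h5]
      exact (Flat2G.StructHH.HHon_top_iff I.subscheme (q + 1)).mpr (hvan q)
    · rw [h5, HHon_iff_open]
      have h6 : IsAffine (I.subscheme.toSpecΓ ⁻¹ᵁ ⊥).toScheme :=
        (isAffineOpen_bot I.subscheme : IsAffineOpen (⊥ : I.subscheme.Opens))
      have h7 := Ega2.QCohLocal.isQCoh_structureModule (I.subscheme.toSpecΓ ⁻¹ᵁ ⊥).toScheme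
      exact CohqA.AffineVanish.HH_subsingleton _ _ (q + 1) (Nat.succ_pos q)

/-- The contraction is an isomorphism away from the image of `V(I)`. -/
theorem IsContraction.isIso_restrict (h : IsContraction I J c b) (hIJ : I ⊓ J = ⊥) (O : Y.Opens)
    (hO : b ⁻¹ᵁ O = ⊥) : IsIso (c ∣_ O) :=
  Ferr.isIso_contract_restrict (isFerr_sup hIJ) h.ferr h.w O hO

theorem toSpecΓ_comp {k : CommRingCat.{u}} {C : Scheme.{u}} (g : C ⟶ Spec k) :
    C.toSpecΓ ≫ Spec.map ((Scheme.ΓSpecIso k).inv ≫ g.appTop) = g := by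
  rw [Spec.map_comp, ← Category.assoc, ← Scheme.toSpecΓ_naturality, Category.assoc]
  have h : (Spec k).toSpecΓ ≫ Spec.map (Scheme.ΓSpecIso k).inv = 𝟙 _ := by
    simp
  rw [h, Category.comp_id]

open Groth.Agent.CurvesC Groth.Agent.CurvesC.CurveNum in
attribute [local instance] topMod in
theorem finite_top (k : Type u) [Field k] (X : Scheme.{u}) [X.Over (Spec (CommRingCat.of k))]
    [IsProper (X ↘ (Spec (CommRingCat.of k)))] : Module.Finite k (Coh.Γtop X) := by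
  have h := Groth.Agent.S0002.result k X _ (Groth.Agent.CurvesB.UnitCoh.isCoh_structureModule X) 0
  exact Module.Finite.equiv (hZeroTop k X)

theorem isFinite_map {k : Type u} [Field k] {C : Scheme.{u}} (g : C ⟶ Spec (CommRingCat.of k)) [IsProper g] :
    IsFinite (Spec.map ((Scheme.ΓSpecIso (CommRingCat.of k)).inv ≫ g.appTop)) := by
  rw [IsFinite.SpecMap_iff]
  let : C.Over (Spec (CommRingCat.of k)) := ⟨g⟩
  have : IsProper (C ↘ Spec (CommRingCat.of k)) := ‹IsProper g›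
  have h := finite_top k C
  exact h

/-- **Existence of contractions.** -/
theorem exists_contraction (k : Type u) [Field k] (X : Scheme.{u}) (q : X ⟶ Spec (CommRingCat.of k)) [IsProper q]
    (I J : X.IdealSheafData) (hIJ : I ⊓ J = ⊥) [Subsingleton (Spec Γ(I.subscheme, ⊤))]
    [IsFinite ((I ⊔ J).subschemeι ≫ q)]
    (U : J.subscheme.Opens) (hU : IsAffineOpen U) (hTU : ∀ t : (I ⊔ J).subscheme, iX I J t ∈ U) :
    ∃ (Y : Scheme.{u}) (qY : Y ⟶ Spec (CommRingCat.of k)) (c : X ⟶ Y) (b : Spec Γ(I.subscheme, ⊤) ⟶ Y),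
      c ≫ qY = q ∧ IsProper qY ∧ IsContraction I J c b := by
  let C := I.subscheme
  let π := C.toSpecΓ
  -- structure morphism of `Spec Γ(C)`
  let ρ : Spec Γ(C, ⊤) ⟶ Spec (CommRingCat.of k) :=
    Spec.map ((Scheme.ΓSpecIso (CommRingCat.of k)).inv ≫ (I.subschemeι ≫ q).appTop)
  have hρ : π ≫ ρ = I.subschemeι ≫ q := toSpecΓ_comp _
  have hfin : IsFinite ρ := isFinite_map _
  let j : (I ⊔ J).subscheme ⟶ Spec Γ(C, ⊤) := iC I J ≫ π
  have hj1 : j ≫ ρ = (I ⊔ J).subschemeι ≫ q := by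
    change (iC I J ≫ π) ≫ ρ = _
    rw [Category.assoc, hρ, ← Category.assoc]
    congr 1
    exact Scheme.IdealSheafData.inclusion_subschemeι _
  have hj : IsFinite j := by
    have : IsFinite (j ≫ ρ) := by rw [hj1]; infer_instance
    exact IsFinite.of_comp j ρ
  have hsq : iX I J ≫ J.subschemeι ≫ q = j ≫ ρ := by
    rw [hj1, ← Category.assoc]
    congr 1
    exact Scheme.IdealSheafData.inclusion_subschemeι _
  have hstd : ∀ y : (Spec (CommRingCat.of k) : Scheme.{u}), ∃ U : (Spec (CommRingCat.of k)).Opens,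
      IsAffineOpen U ∧ y ∈ U ∧ ∃ V : J.subscheme.Opens, IsAffineOpen V ∧
      V ≤ (J.subschemeι ≫ q) ⁻¹ᵁ U ∧ ∀ z : (I ⊔ J).subscheme, (j ≫ ρ).base z ∈ U → (iX I J).base z ∈ V :=
    fun y => ⟨⊤, isAffineOpen_top _, trivial, U, hU, fun _ _ => trivial, fun z _ => hTU z⟩
  have hA : Adapted (iX I J) j := fun y => by
    have hjρ : IsAffineHom (j ≫ ρ) := inferInstance
    obtain ⟨U, V, hU, hV, hy, h, -⟩ := K838.Pairs.exists_pair (J.subschemeι ≫ q) ρ j (iX I J) hsq hstd y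
    exact ⟨U, V, hU, hV, hy, h⟩
  obtain ⟨Y, a, b, hPO, hFe, hPB, hb, -, hsurj, -⟩ := exists_isFerr hA
  let qY : Y ⟶ Spec (CommRingCat.of k) := hPO.desc (J.subschemeι ≫ q) ρ hsq
  have ha : a ≫ qY = J.subschemeι ≫ q := hPO.inl_desc _ _ _
  have hbq : b ≫ qY = ρ := hPO.inr_desc _ _ _
  have hsup : IsPushout (iX I J) (iC I J) J.subschemeι I.subschemeι := isPushout_sup hIJ
  let c : X ⟶ Y := hsup.desc a (π ≫ b) (by rw [hPO.w]; rfl)
  have hc1 : J.subschemeι ≫ c = a := hsup.inl_desc _ _ _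
  have hc2 : I.subschemeι ≫ c = π ≫ b := hsup.inr_desc _ _ _
  refine ⟨Y, qY, c, b, ?_, ?_, ⟨hc2, hb, hc1 ▸ hFe, hc1 ▸ hPB, hc1 ▸ hsurj, hj⟩⟩
  · apply hsup.hom_ext
    · rw [← Category.assoc, hc1, ha]
    · rw [← Category.assoc, hc2, Category.assoc, hbq, hρ]
  · exact (Groth.Agent.S15944.result (J.subschemeι ≫ q) ρ j (iX I J) hsq hstd a b hPO qY ha hbq).2
      inferInstance inferInstance

end Main

end K896.Contract
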