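import Groth.Agent.CurvSt.K896.NodeMeetG
import Groth.Agent.CurvSt.K896.Contract
import Groth.Agent.CurvesC.NodalPos2
import Groth.Agent.CurvesC.TailMain
import Groth.Agent.CurvesC.GenusOne512
import Groth.Agent.CurvesA.DimOne
import Groth.Agent.Ega43.DedekindOpen
import Groth.Agent.S0217
import Groth.Agent.S0023

/-!
# A component of a nodal curve over any field, the rest of the curve and their intersection
-/

set_option autoImplicit false
universe u
open CategoryTheory CategoryTheory.Limits AlgebraicGeometry TopologicalSpace IsLocalRing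

namespace K896.CompG

open Groth.Agent Groth.Agent.CurvesC.CompGeom Groth.Agent.CurvesC.QuotZero Groth.Agent.CurvesC.NodalPos
  Groth.Agent.Divis.CartierBasic

variable (k : Type u) [Field k] (X : Scheme.{u}) [X.Over (Spec (CommRingCat.of k))]
  [IsProper (X ↘ (Spec (CommRingCat.of k)))] (hdim : topologicalKrullDim X = 1) (hX : Curv2.AtWorstNodal k X)
  (C : Set X) (hC : C ∈ irreducibleComponents (X : Type u))

include hdim hX in
theorem local_props [IsReduced X] (x : X) (hx : x ∈ C ∩ closure Cᶜ) :
    Curv2.IsNode k X x ∧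
    stalkIdeal (IC X C hC ⊔ IX' X C hC) x = maximalIdeal (X.presheaf.stalk x) ∧
    IsRegularLocalRing (X.presheaf.stalk x ⧸ stalkIdeal (IX' X C hC) x) ∧
    ¬ IsField (X.presheaf.stalk x ⧸ stalkIdeal (IX' X C hC) x) := by
  have hN : IsNoetherian X := Groth.Agent.CurvesC.CurveCoh.noetherianSpace k X
  have hCcl := isClosed_of_mem_irreducibleComponents C hC
  have hxcl : IsClosed ({x} : Set X) := (Groth.Agent.CurvesC.TailGeom.finite_inter hdim.le hC).2 x hx
  obtain ⟨y, hyC, hy⟩ := exists_mem_notMem_closure X C hC
  obtain ⟨z, hz⟩ := QuasiSober.sober hC.1 hCcl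
  obtain ⟨E, hE, hEC, hxE⟩ := (CompMeet.mem_closure_compl_iff hC x).mp hx.2
  obtain ⟨w, hw⟩ := QuasiSober.sober hE.1 (isClosed_of_mem_irreducibleComponents E hE)
  have hzx : z ⤳ x := hz.specializes hx.1
  have hwx : w ⤳ x := hw.specializes hxE
  have hznot : z ∉ closure Cᶜ := fun h => hy ((hz.specializes hyC).mem_closed isClosed_closure h)
  have hwC : w ∉ C := by
    intro h
    apply hEC
    have h1 : E ⊆ C := by
      intro v hv
      exact (hw.specializes hv).mem_closed hCcl h
    exact h1.antisymm (hE.2 hC.1 h1)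
  have hwne : w ≠ x := by
    rintro rfl
    exact hwC hx.1
  have hwX : w ∈ ((IX' X C hC).support : Set X) := by
    rw [support_IX']
    exact subset_closure hwC
  have key := NodeMeet.transversal k X hX (IC X C hC) (IX' X C hC) (by
    have h := Groth.Agent.Ega1.ReducedSub.radical_ker_eq (IC X C hC).subschemeι
    rwa [Scheme.IdealSheafData.ker_subschemeι] at h) (CompMeet.radical_ker_ι _) (by
    rw [support_IC, support_IX']
    rw [Set.eq_univ_iff_forall]
    intro v
    by_cases hv : v ∈ C
    · exact Or.inl hv
    · exact Or.inr (subset_closure hv)) x hxcl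
    hzx (by rintro rfl; exact hznot hx.2) (by rw [support_IC]; exact hz.mem) (by rw [support_IX']; exact hznot) hwx
    hwne (by rw [support_IC]; exact hwC) hwX
  rw [stalkIdeal_sup]
  exact ⟨key.1, key.2.1, key.2.2, CompMeet.not_isField_quotient (IX' X C hC) hwx hwne hwX⟩

include hdim hX in
/-- The scheme theoretic intersection of a component with the rest of the curve: discrete, finite and reduced. -/
theorem inter_props [IsReduced X] :
    Finite (IC X C hC ⊔ IX' X C hC).subscheme ∧ DiscreteTopology (IC X C hC ⊔ IX' X C hC).subscheme ∧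
      IsReduced (IC X C hC ⊔ IX' X C hC).subscheme := by
  have hN : IsNoetherian X := Groth.Agent.CurvesC.CurveCoh.noetherianSpace k X
  have hemb := (IC X C hC ⊔ IX' X C hC).subschemeι.isClosedEmbedding
  obtain ⟨hfin, hcl⟩ := Groth.Agent.CurvesC.TailGeom.finite_inter hdim.le hC
  have hrange := range_T X C hC
  refine ⟨?_, ?_, ?_⟩
  · have : Finite (Set.range (IC X C hC ⊔ IX' X C hC).subschemeι) := by
      rw [hrange]; exact hfin
    exact Finite.of_injective_finite_range hemb.injective
  · rw [discreteTopology_iff_forall_isClosed]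
    exact fun S => isClosed_T X C hC hdim.le S
  · have hst : ∀ d : (IC X C hC ⊔ IX' X C hC).subscheme,
        _root_.IsReduced ((IC X C hC ⊔ IX' X C hC).subscheme.presheaf.stalk d) := by
      intro d
      have hd : (IC X C hC ⊔ IX' X C hC).subschemeι d ∈ C ∩ closure Cᶜ := by
        rw [← hrange]; exact ⟨d, rfl⟩
      let e := Groth.Agent.Divis.CartierStalk.stalkQuotEquiv (IC X C hC ⊔ IX' X C hC) d
      have h1 := (local_props k X hdim hX C hC _ hd).2.1
      have h2 : _root_.IsReduced (X.presheaf.stalk ((IC X C hC ⊔ IX' X C hC).subschemeι d) ⧸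
          stalkIdeal (IC X C hC ⊔ IX' X C hC) ((IC X C hC ⊔ IX' X C hC).subschemeι d)) := by
        rw [h1]
        let _ := Ideal.Quotient.field (maximalIdeal (X.presheaf.stalk ((IC X C hC ⊔ IX' X C hC).subschemeι d)))
        infer_instance
      exact isReduced_of_injective e.symm.toRingHom e.symm.injective
    exact isReduced_of_isReduced_stalk _

include hdim hX in
theorem isFinite_T [IsReduced X] : IsFinite ((IC X C hC ⊔ IX' X C hC).subschemeι ≫ (X ↘ (Spec (CommRingCat.of k)))) := by
  obtain ⟨h1, h2, h3⟩ := inter_props k X hdim hX C hC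
  have hA : IsAffine (IC X C hC ⊔ IX' X C hC).subscheme := inferInstance
  rw [IsFinite.iff_isProper_and_isAffineHom]
  exact ⟨inferInstance, inferInstance⟩

theorem isSeparated_scheme_of_over (k : Type u) [Field k] (X : Scheme.{u}) [X.Over (Spec (CommRingCat.of k))]
    [IsSeparated (X ↘ (Spec (CommRingCat.of k)))] : X.IsSeparated := by
  have h1 : IsSeparated (terminal.from (Spec (CommRingCat.of k))) := inferInstance
  have h2 : IsSeparated ((X ↘ (Spec (CommRingCat.of k))) ≫ terminal.from _) := inferInstance
  rw [terminal.comp_from] at h2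
  exact ⟨h2⟩

include k in
theorem inf_eq_bot [IsReduced X] : IC X C hC ⊓ IX' X C hC = ⊥ := by
  have hN : IsNoetherian X := Groth.Agent.CurvesC.CurveCoh.noetherianSpace k X
  have h1 : IX' X C hC = Scheme.IdealSheafData.vanishingIdeal (IX' X C hC).support := by
    rw [Scheme.IdealSheafData.vanishingIdeal_support, CompMeet.radical_ker_ι]
  have h2 : (⟨C, isClosed_of_mem_irreducibleComponents C hC⟩ : Closeds X) ⊔ (IX' X C hC).support = ⊤ := by
    apply SetLike.coe_injective
    rw [Closeds.coe_sup]
    change C ∪ ((IX' X C hC).support : Set X) = Set.univ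
    rw [support_IX', Set.eq_univ_iff_forall]
    intro v
    by_cases hv : v ∈ C
    · exact Or.inl hv
    · exact Or.inr (subset_closure hv)
  rw [h1, ← Scheme.IdealSheafData.vanishingIdeal_sup, h2, Scheme.IdealSheafData.vanishingIdeal_top]
  exact Scheme.nilradical_eq_bot

include hdim in
theorem dim_X'_le : topologicalKrullDim (IX' X C hC).subscheme ≤ 1 :=
  ((IX' X C hC).subschemeι.isEmbedding.isInducing.topologicalKrullDim_le).trans hdim.le

include hdim hX in
/-- An affine open of the rest of the curve containing the intersection. -/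
theorem exists_affine [IsReduced X] : ∃ U : (IX' X C hC).subscheme.Opens, IsAffineOpen U ∧
    ∀ t : (IC X C hC ⊔ IX' X C hC).subscheme, Contract.iX (IC X C hC) (IX' X C hC) t ∈ U := by
  have hN : IsNoetherian X := Groth.Agent.CurvesC.CurveCoh.noetherianSpace k X
  let _ : (IX' X C hC).subscheme.Over (Spec (CommRingCat.of k)) :=
    ⟨(IX' X C hC).subschemeι ≫ (X ↘ (Spec (CommRingCat.of k)))⟩
  have hP : IsProper ((IX' X C hC).subscheme ↘ (Spec (CommRingCat.of k))) :=
    inferInstanceAs (IsProper ((IX' X C hC).subschemeι ≫ (X ↘ (Spec (CommRingCat.of k)))))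
  have hN' : IsNoetherian (IX' X C hC).subscheme :=
    CurvesC.CurveCoh.noetherianSpace k (IX' X C hC).subscheme
  have hsep : (IX' X C hC).subscheme.IsSeparated := isSeparated_scheme_of_over k _
  obtain ⟨h1, h2, h3⟩ := inter_props k X hdim hX C hC
  classical
  let _ := Fintype.ofFinite (IC X C hC ⊔ IX' X C hC).subscheme
  obtain ⟨U, hU, hs⟩ := Groth.Agent.S0217.result (IX' X C hC).subscheme (fun U _ => by
    have : NoetherianSpace (U : Set (IX' X C hC).subscheme) := inferInstance
    exact NoetherianSpace.finite_irreducibleComponents)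
    (Finset.univ.image (Contract.iX (IC X C hC) (IX' X C hC))) (fun x _ => ⟨inferInstance,
      (CurvesA.DimOne.ringKrullDim_stalk_le _ x).trans (dim_X'_le X hdim C hC)⟩)
  exact ⟨U, hU, fun t => hs _ (Finset.mem_image_of_mem _ (Finset.mem_univ t))⟩

include k in
/-- No higher cohomology on a component of genus zero. -/
theorem vanishing (X : Scheme.{u}) [X.Over (Spec (CommRingCat.of k))]
    [IsProper (X ↘ (Spec (CommRingCat.of k)))] (hdim : topologicalKrullDim X = 1)
    (C : Set X) (hC : C ∈ irreducibleComponents (X : Type u)) (h1 : Subsingleton (Coh.HH (IC X C hC).subscheme (Coh.structureModule (IC X C hC).subscheme) 1))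
    (q : ℕ) : Subsingleton (Coh.HH (IC X C hC).subscheme (Coh.structureModule (IC X C hC).subscheme) (q + 1)) := by
  rcases Nat.eq_zero_or_pos q with rfl | hq
  · exact h1
  · have hN : IsNoetherian X := Groth.Agent.CurvesC.CurveCoh.noetherianSpace k X
    have hN' : NoetherianSpace (IC X C hC).subscheme :=
      (IC X C hC).subschemeι.isEmbedding.isInducing.noetherianSpace
    exact Groth.Agent.S0458.result 1 (dim_C_le X C hC hdim.le) (Coh.toAb _) (q + 1) (by omega)

include k in
theorem subsingleton_specΓ : Subsingleton (Spec Γ((IC X C hC).subscheme, ⊤)) := by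
  let _ := overC k X C hC
  have hP : IsProper ((IC X C hC).subscheme ↘ (Spec (CommRingCat.of k))) := inferInstanceAs (IsProper (gC k X C hC))
  have hK := isField_mm k (IC X C hC).subscheme
  let _ := hK.toField
  exact inferInstanceAs (Subsingleton (PrimeSpectrum Γ((IC X C hC).subscheme, ⊤)))

end K896.CompG
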