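import Groth.Agent.CurvSt.K896.MbarLfp
import Groth.Agent.CurvSt.K316.MbarAlg
import Groth.Agent.CurvSt.K740.CurvAlgFin
import Groth.Agent.CurvSt.K310.ExistsCurve
import Groth.Agent.S6826
import Groth.Agent.S16733

/-!
# The stack of stable pointed curves is smooth (unconditional)
-/

set_option autoImplicit false
set_option backward.isDefEq.respectTransparency false
set_option backward.isDefEq.respectTransparency.types false

universe u

open CategoryTheory CategoryTheory.Limits AlgebraicGeometry Opposite CurvSt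

namespace K896.MbarFinal

variable (S : Scheme.{u}) {g n : ℕ}

/-- `Mbar_{g,n}` is locally of finite presentation over `S`. -/
theorem locQ_lfp_mbar (hg : 3 ≤ 2 * g + n) :
    AlgSt.LocQ (AlgSp.LocP @LocallyOfFinitePresentation) (FibCat.toSelf (Mbar S g n)) := by
  have := (K740.CurvAlg.isAlgStack_curves S n).isStack.1
  exact (K738.Sep.locQ_toSelf_iff (K316.MbarAlg.isEquivOver_mbar S hg)).2
    (K896.MbarLfp.locQ_lfp_fullSub (K316.MbarAlg.openLocus_stable S g n) (K740.CurvAlg.locQ_lfp_toSelf S n))

/-- `Mbar_{g,n}` is smooth over `S`. -/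
theorem locQ_smooth_mbar (hg : 3 ≤ 2 * g + n) :
    AlgSt.LocQ (AlgSp.LocP @Smooth) (FibCat.toSelf (Mbar S g n)) :=
  K896.MbarSmooth.locQ_smooth (fun I _ _ h => Groth.Agent.S6826.result I h)
    (fun {_ _} f _ _ _ hdim s => Groth.Agent.S16733.result f hdim s)
    (K316.MbarAlg.isAlgStack_mbar S hg) (locQ_lfp_mbar S hg)

end K896.MbarFinal
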