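import Groth.Prelude.Def_StCurv

/-!
# Gluing sections of families of curves: definitions for the boundary part of S16728

* `IsGlue f f₁ a b ν` : `ν : C ⟶ X` over `T` is the coequalizer (in schemes) of the sections `a`, `b`.
* `UnivGlue f f₁ a b ν` : it is so after every base change.
* `UnivPush f₁ f₂ f a b ν₁ ν₂` : `X` is the pushout of `C₁ ⟵ T ⟶ C₂` after every base change.
-/

set_option autoImplicit false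

universe u

open CategoryTheory CategoryTheory.Limits AlgebraicGeometry

namespace K896.Glue

/-- `ν : C ⟶ X` over `T` is the coequalizer of the sections `a`, `b : T ⟶ C`. -/
def IsGlue {C X T : Scheme.{u}} (f : C ⟶ T) (f₁ : X ⟶ T) (a b : T ⟶ C) (ν : C ⟶ X) : Prop :=
  ν ≫ f₁ = f ∧ a ≫ ν = b ≫ ν ∧ ∀ (Z : Scheme.{u}) (w : C ⟶ Z), a ≫ w = b ≫ w → ∃! v : X ⟶ Z, ν ≫ v = w

/-- `ν : C ⟶ X` over `T` is the coequalizer of the sections `a`, `b : T ⟶ C` after every base change `t : T' ⟶ T`: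
for all cartesian squares with vertices `C'`, `X'` over `t` and the induced `a'`, `b'`, `ν'`. -/
def UnivGlue {C X T : Scheme.{u}} (f : C ⟶ T) (f₁ : X ⟶ T) (a b : T ⟶ C) (ν : C ⟶ X) : Prop :=
  ∀ (T' C' X' : Scheme.{u}) (t : T' ⟶ T) (c : C' ⟶ C) (x : X' ⟶ X) (f' : C' ⟶ T') (f₁' : X' ⟶ T')
    (a' b' : T' ⟶ C') (ν' : C' ⟶ X'), IsPullback c f' f t → IsPullback x f₁' f₁ t → a' ≫ f' = 𝟙 T' → b' ≫ f' = 𝟙 T' →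
    a' ≫ c = t ≫ a → b' ≫ c = t ≫ b → ν' ≫ x = c ≫ ν → ν' ≫ f₁' = f' → IsGlue f' f₁' a' b' ν'

/-- `X` is the pushout of `a : T ⟶ C₁`, `b : T ⟶ C₂` after every base change. -/
def UnivPush {C₁ C₂ X T : Scheme.{u}} (f₁ : C₁ ⟶ T) (f₂ : C₂ ⟶ T) (f : X ⟶ T) (a : T ⟶ C₁) (b : T ⟶ C₂) (ν₁ : C₁ ⟶ X)
    (ν₂ : C₂ ⟶ X) : Prop :=
  ∀ (T' C₁' C₂' X' : Scheme.{u}) (t : T' ⟶ T) (c₁ : C₁' ⟶ C₁) (c₂ : C₂' ⟶ C₂) (x : X' ⟶ X) (f₁' : C₁' ⟶ T')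
    (f₂' : C₂' ⟶ T') (f' : X' ⟶ T') (a' : T' ⟶ C₁') (b' : T' ⟶ C₂') (ν₁' : C₁' ⟶ X') (ν₂' : C₂' ⟶ X'),
    IsPullback c₁ f₁' f₁ t → IsPullback c₂ f₂' f₂ t → IsPullback x f' f t → a' ≫ f₁' = 𝟙 T' → b' ≫ f₂' = 𝟙 T' →
    a' ≫ c₁ = t ≫ a → b' ≫ c₂ = t ≫ b → ν₁' ≫ x = c₁ ≫ ν₁ → ν₂' ≫ x = c₂ ≫ ν₂ → ν₁' ≫ f' = f₁' → ν₂' ≫ f' = f₂' →
    IsPushout a' b' ν₁' ν₂'

end K896.Glue
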