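import Groth.Agent.CurvSt.K896.Pinch2
import Groth.Agent.CurvSt.K896.Ferr

/-!
# The local ring of a Ferrand pushout at a pinched point
-/

set_option autoImplicit false
universe u
open CategoryTheory CategoryTheory.Limits AlgebraicGeometry TopologicalSpace IsLocalRing

namespace K896.PinchNode

open K838.Ferr K896.Ferr Groth.Agent.CurvesB.Node K896.Pinch

section Sec

variable {X' S T Y : Scheme.{u}} {i : T ⟶ X'} {j : T ⟶ S} {a : X' ⟶ Y} {b : S ⟶ Y}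

theorem map_map_eq {Z : Scheme.{u}} {U V : Z.Opens} (h : U = V) (x : Γ(Z, U)) :
    Z.presheaf.map (homOfLE h.le).op (Z.presheaf.map (homOfLE h.ge).op x) = x := by
  subst h
  rw [← ConcreteCategory.comp_apply, ← Functor.map_comp]
  simp

theorem appLE_top_eq {A B : Scheme.{u}} (f : A ⟶ B) (O : B.Opens) (h : (⊤ : A.Opens) ≤ f ⁻¹ᵁ O) (x : Γ(B, O)) :
    f.appLE O ⊤ h x = A.presheaf.map (homOfLE h).op (f.app O x) := by
  rw [Scheme.Hom.appLE]
  rfl

/-- The square of sections of a Ferrand square over an open containing the image of the right corner. -/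
theorem sec_top (h : IsFerr i j a b) (O : Y.Opens) (hbO : b ⁻¹ᵁ O = ⊤) (hi : (⊤ : T.Opens) ≤ i ⁻¹ᵁ (a ⁻¹ᵁ O)) :
    (∀ r : Γ(Y, O), i.appLE (a ⁻¹ᵁ O) ⊤ hi (a.app O r) = j.appTop (b.appLE O ⊤ hbO.ge r)) ∧
    (∀ (s : Γ(X', a ⁻¹ᵁ O)) (t : Γ(S, ⊤)), i.appLE (a ⁻¹ᵁ O) ⊤ hi s = j.appTop t →
      ∃ r : Γ(Y, O), a.app O r = s ∧ b.appLE O ⊤ hbO.ge r = t) ∧
    (∀ r : Γ(Y, O), a.app O r = 0 → b.appLE O ⊤ hbO.ge r = 0 → r = 0) := by
  obtain ⟨h1, h2⟩ := (secSq_iff h.w O).mp (h.sec O)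
  have hWtop : i ⁻¹ᵁ (a ⁻¹ᵁ O) = ⊤ := top_le_iff.mp hi
  refine ⟨fun r => ?_, fun s t hst => ?_, fun r hr1 hr2 => ?_⟩
  · have e1 : i.appLE (a ⁻¹ᵁ O) ⊤ hi (a.app O r) = (i ≫ a).appLE O ⊤ hi r := by
      rw [Scheme.Hom.app_eq_appLE]
      exact appLE_appLE_apply i a O (a ⁻¹ᵁ O) ⊤ le_rfl hi hi r
    have e2 : j.appTop (b.appLE O ⊤ hbO.ge r) = (j ≫ b).appLE O ⊤ (by rw [← h.w]; exact hi) r := by
      have : j.appTop = j.appLE ⊤ ⊤ le_rfl := Scheme.Hom.app_eq_appLE _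
      rw [this]
      exact appLE_appLE_apply j b O ⊤ ⊤ hbO.ge le_rfl _ r
    rw [e1, e2]
    exact appLE_congr_hom h.w O ⊤ _ _ r
  · obtain ⟨r, hr1, hr2⟩ := h1 s (S.presheaf.map (homOfLE hbO.le).op t) (by
      have e1 := map_map_eq hWtop (i.app (a ⁻¹ᵁ O) s)
      have e2 := map_map_eq hWtop (j.appLE (b ⁻¹ᵁ O) (i ⁻¹ᵁ a ⁻¹ᵁ O) (preimage_eq h.w O).le
        (S.presheaf.map (homOfLE hbO.le).op t))
      rw [← e1, ← e2]
      congr 1
      have e3 := appLE_top_eq i (a ⁻¹ᵁ O) hi s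
      refine e3.symm.trans (hst.trans ?_)
      have e4 : j.appTop = j.appLE ⊤ ⊤ le_rfl := Scheme.Hom.app_eq_appLE _
      rw [e4]
      have e5 : S.presheaf.map (homOfLE hbO.le).op ≫ j.appLE (b ⁻¹ᵁ O) (i ⁻¹ᵁ a ⁻¹ᵁ O) (preimage_eq h.w O).le ≫
          T.presheaf.map (homOfLE hi).op = j.appLE ⊤ ⊤ le_rfl := by
        rw [Scheme.Hom.appLE_map, Scheme.Hom.map_appLE]
      exact (congr($e5 t)).symm)
    refine ⟨r, hr1, ?_⟩
    rw [appLE_top_eq, hr2]
    exact map_map_eq hbO.symm t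
  · apply h2 r 0 (by rw [hr1, map_zero])
    rw [map_zero, ← map_map_eq hbO (b.app O r), ← appLE_top_eq b O hbO.ge, hr2, map_zero]

theorem surjective_appLE_top [IsClosedImmersion i] {U : X'.Opens} (hU : IsAffineOpen U) (hi : (⊤ : T.Opens) ≤ i ⁻¹ᵁ U) :
    Function.Surjective (i.appLE U ⊤ hi) := by
  intro t
  have hWtop : i ⁻¹ᵁ U = ⊤ := top_le_iff.mp hi
  obtain ⟨s, hs⟩ := Scheme.Hom.app_surjective i U hU (T.presheaf.map (homOfLE le_top).op t)
  refine ⟨s, ?_⟩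
  rw [appLE_top_eq, hs]
  exact map_map_eq hWtop.symm t

theorem exists_of_ker_le [IsAffine T] [IsClosedImmersion i] {U : X'.Opens} (hU : IsAffineOpen U)
    (hi : (⊤ : T.Opens) ≤ i ⁻¹ᵁ U) (n : Ideal Γ(X', U)) [hnp : n.IsPrime]
    (hn : RingHom.ker (i.appLE U ⊤ hi).hom ≤ n) : ∃ t : T, i t = hU.fromSpec ⟨n, hnp⟩ := by
  have h1 : (⟨n, hnp⟩ : PrimeSpectrum Γ(X', U)) ∈ Set.range (PrimeSpectrum.comap (i.appLE U ⊤ hi).hom) := by
    rw [range_comap_of_surjective _ _ (surjective_appLE_top hU hi)]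
    exact hn
  obtain ⟨n', hn'⟩ := h1
  refine ⟨(isAffineOpen_top T).fromSpec n', ?_⟩
  rw [← Scheme.Hom.comp_apply, ← hU.SpecMap_appLE_fromSpec i (isAffineOpen_top T) hi, Scheme.Hom.comp_apply]
  exact congrArg _ hn'

end Sec

section Alg

/-- A local domain with nonzero principal maximal ideal. -/
def PR (R : Type*) [CommRing R] [IsLocalRing R] : Prop :=
  IsDomain R ∧ (maximalIdeal R).IsPrincipal ∧ maximalIdeal R ≠ ⊥

theorem PR.of_ringEquiv {R R' : Type*} [CommRing R] [IsLocalRing R] [CommRing R'] [IsLocalRing R'] (e : R ≃+* R')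
    (h : PR R) : PR R' := by
  have hm : maximalIdeal R' = (maximalIdeal R).map (e : R →+* R') := by
    rw [← IsLocalRing.map_ringEquiv_maximalIdeal e]
    rfl
  obtain ⟨h1, ⟨a, ha⟩, h3⟩ := h
  refine ⟨MulEquiv.isDomain R e.symm.toMulEquiv, ⟨e a, ?_⟩, ?_⟩
  · rw [hm, ha, Ideal.submodule_span_eq, Ideal.map_span, Set.image_singleton]
    rfl
  · rw [hm]
    intro h
    exact h3 ((Ideal.map_eq_bot_iff_of_injective (f := (e : R →+* R')) e.injective).mp h)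

end Alg

section Node

variable {X' S T Y : Scheme.{u}} {i : T ⟶ X'} {j : T ⟶ S} {a : X' ⟶ Y} {b : S ⟶ Y}

theorem preimage_eq_top [Subsingleton S] (O : Y.Opens) (s : S) (hs : b s ∈ O) : b ⁻¹ᵁ O = ⊤ := by
  ext y
  rw [Subsingleton.elim y s]
  simpa using hs

theorem mem_maximalIdeal_iff [Subsingleton S] (hS : IsField Γ(S, ⊤)) (O : Y.Opens) (s : S) (hs : b s ∈ O)
    (r : Γ(Y, O)) : Y.presheaf.germ O (b s) hs r ∈ maximalIdeal (Y.presheaf.stalk (b s)) ↔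
      b.appLE O ⊤ (preimage_eq_top O s hs).ge r = 0 := by
  have h1 : ∀ x : Γ(S, ⊤), S.presheaf.germ ⊤ s trivial x ∈ maximalIdeal (S.presheaf.stalk s) ↔ x = 0 := by
    intro x
    constructor
    · intro hx
      by_contra hx0
      obtain ⟨y, hy⟩ := hS.mul_inv_cancel hx0
      have hu : IsUnit x := IsUnit.of_mul_eq_one y hy
      exact hx (hu.map (S.presheaf.germ ⊤ s trivial).hom)
    · rintro rfl
      rw [map_zero]
      exact Ideal.zero_mem _
  rw [← h1]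
  have h2 : (b.stalkMap s) (Y.presheaf.germ O (b s) hs r) =
      S.presheaf.germ ⊤ s trivial (b.appLE O ⊤ (preimage_eq_top O s hs).ge r) := by
    rw [Scheme.Hom.germ_stalkMap_apply, appLE_top_eq, TopCat.Presheaf.germ_res_apply]
  rw [← h2, mem_maximalIdeal, mem_maximalIdeal, mem_nonunits_iff, mem_nonunits_iff,
    isUnit_map_iff (b.stalkMap s).hom]

/-- **The local ring at a pinched point** for an unramified Ferrand square of degree two at regular points. -/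
theorem nodeLike (h : IsFerr i j a b) [IsAffine S] [IsAffine T] [Subsingleton S] [IsClosedImmersion b]
    (hS : IsField Γ(S, ⊤)) [IsReduced T] [IsLocallyNoetherian X']
    (hur : @Algebra.FormallyUnramified Γ(S, ⊤) Γ(T, ⊤) _ _ j.appTop.hom.toAlgebra)
    (hdim : @Module.finrank Γ(S, ⊤) Γ(T, ⊤) _ _ j.appTop.hom.toAlgebra.toModule = 2)
    (hreg : ∀ t : T, PR (X'.presheaf.stalk (i t))) (s : S) : NodeLike (Y.presheaf.stalk (b s)) := by
  have hcl := h.closed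
  have haff := h.affine_left
  obtain ⟨O, hO, hs, -⟩ := exists_isAffineOpen_mem_and_subset (X := Y) (x := b s) (U := ⊤) trivial
  have hbO := preimage_eq_top O s hs
  have hi : (⊤ : T.Opens) ≤ i ⁻¹ᵁ (a ⁻¹ᵁ O) := by
    rw [preimage_eq h.w O, hbO]
    exact le_rfl
  have hU : IsAffineOpen (a ⁻¹ᵁ O) := hO.preimage a
  obtain ⟨h1, h2, h3⟩ := sec_top h O hbO hi
  have hNoeth : IsNoetherianRing Γ(X', a ⁻¹ᵁ O) := IsLocallyNoetherian.component_noetherian ⟨_, hU⟩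
  let fS : Field Γ(S, ⊤) := hS.toField
  let _ : Algebra Γ(S, ⊤) Γ(T, ⊤) := j.appTop.hom.toAlgebra
  let y : O := ⟨b s, hs⟩
  let _ : Algebra Γ(Y, O) (Y.presheaf.stalk (b s)) := TopCat.Presheaf.algebra_section_stalk Y.presheaf y
  have hloc : IsLocalization.AtPrime (Y.presheaf.stalk (b s)) (hO.primeIdealOf y).asIdeal :=
    hO.isLocalization_stalk y
  have hredT : _root_.IsReduced Γ(T, ⊤) := inferInstance
  have hp : Function.Surjective (b.appLE O ⊤ hbO.ge) := surjective_appLE_top hO hbO.ge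
  refine nodeLike_of_milnor (A := Γ(Y, O)) (B := Γ(X', a ⁻¹ᵁ O)) (R := Γ(T, ⊤)) (κ := Γ(S, ⊤)) (a.app O).hom
    (b.appLE O ⊤ hbO.ge).hom (i.appLE (a ⁻¹ᵁ O) ⊤ hi).hom h1 hp (surjective_appLE_top hU hi) h2 h3 hdim
    (IsNoetherian.noetherian _) ?_ (hO.primeIdealOf y).asIdeal ?_ (Y.presheaf.stalk (b s))
  · intro n hn hker
    have hnp : n.IsPrime := hn.isPrime
    obtain ⟨t, ht⟩ := exists_of_ker_le hU hi n hker
    have hmem : hU.fromSpec ⟨n, hnp⟩ ∈ a ⁻¹ᵁ O := by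
      rw [← ht]
      exact hi (trivial : t ∈ (⊤ : T.Opens))
    have e1 : PR (X'.presheaf.stalk (hU.fromSpec ⟨n, hnp⟩)) := ht ▸ hreg t
    let _ := TopCat.Presheaf.algebra_section_stalk X'.presheaf (⟨hU.fromSpec ⟨n, hnp⟩, hmem⟩ : (a ⁻¹ᵁ O : X'.Opens))
    have hloc' : IsLocalization n.primeCompl (X'.presheaf.stalk (hU.fromSpec ⟨n, hnp⟩)) :=
      hU.isLocalization_stalk' ⟨n, hnp⟩ hmem
    exact PR.of_ringEquiv (IsLocalization.algEquiv n.primeCompl (X'.presheaf.stalk (hU.fromSpec ⟨n, hnp⟩))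
      (Localization.AtPrime n)).toRingEquiv e1
  · intro r
    rw [← IsLocalization.AtPrime.to_map_mem_maximal_iff (Y.presheaf.stalk (b s)) (hO.primeIdealOf y).asIdeal r]
    exact mem_maximalIdeal_iff hS O s hs r

end Node

end K896.PinchNode
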