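import Groth.Agent.Curves.K315.NodeEtale

/-!
# The at-worst-nodal condition at a point, along open immersions
-/

set_option autoImplicit false
universe u
open CategoryTheory CategoryTheory.Limits AlgebraicGeometry TopologicalSpace IsLocalRing

namespace K896.Trans

open Groth.Agent.CurvesB.Node

variable {k : Type u} [Field k]

/-- A scheme over `k` is smooth near `x`. -/
def SmAt {X : Scheme.{u}} (q : X ⟶ Spec (CommRingCat.of k)) (x : X) : Prop :=
  ∃ U : X.Opens, x ∈ U ∧ Smooth (U.ι ≫ q)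

theorem smAt_iff {W X : Scheme.{u}} (u : W ⟶ X) [IsOpenImmersion u] (q : X ⟶ Spec (CommRingCat.of k)) (w : W) :
    SmAt (u ≫ q) w ↔ SmAt q (u w) := by
  constructor
  · rintro ⟨U, hw, hU⟩
    refine ⟨u ''ᵁ U, ⟨w, hw, rfl⟩, ?_⟩
    have h1 : (u.isoImage U).hom ≫ (u ''ᵁ U).ι ≫ q = U.ι ≫ u ≫ q := by
      rw [← Category.assoc, Scheme.Hom.isoImage_hom_ι, Category.assoc]
    have h2 : (u ''ᵁ U).ι ≫ q = (u.isoImage U).inv ≫ U.ι ≫ u ≫ q := by
      rw [← h1, Iso.inv_hom_id_assoc]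
    rw [h2]
    infer_instance
  · rintro ⟨U, hw, hU⟩
    refine ⟨u ⁻¹ᵁ U, hw, ?_⟩
    have h1 : (u ⁻¹ᵁ U).ι ≫ u ≫ q = (u ∣_ U) ≫ U.ι ≫ q := by
      rw [← Category.assoc, ← morphismRestrict_ι, Category.assoc]
    rw [h1]
    infer_instance

theorem good_iff {W X : Scheme.{u}} (u : W ⟶ X) [IsOpenImmersion u] [X.Over (Spec (CommRingCat.of k))]
    [LocallyOfFiniteType (X ↘ (Spec (CommRingCat.of k)))] (w : W) :
    (SmAt (u ≫ (X ↘ (Spec (CommRingCat.of k)))) w ∨
      @Curv2.IsNode k _ W ⟨u ≫ (X ↘ (Spec (CommRingCat.of k)))⟩ w) ↔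
    (SmAt (X ↘ (Spec (CommRingCat.of k))) (u w) ∨ Curv2.IsNode k X (u w)) := by
  rw [smAt_iff, K315.NodeEtale.isNode_iff_of_etale k X u w]

/-- Finite separable residue fields pass to images. -/
theorem resFS_of_map {X Y : Scheme.{u}} (f : X ⟶ Y) (q : Y ⟶ Spec (CommRingCat.of k)) (x : X)
    (h : ResFS (f ≫ q) x) : ResFS q (f x) := by
  let _ := @Curv2.resAlgebra k _ Y ⟨q⟩ (f x)
  let _ := @Curv2.resAlgebra k _ X ⟨f ≫ q⟩ x
  have hc : ∀ c : k, (f.residueFieldMap x).hom (algebraMap k (Y.residueField (f x)) c) =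
      algebraMap k (X.residueField x) c := fun c =>
    K315.NodeEtale.residueFieldMap_resMap f (f ≫ q) q (RingHom.id k) (by
      rw [show CommRingCat.ofHom (RingHom.id k) = 𝟙 _ from rfl, Spec.map_id, Category.comp_id]) x c
  let φ : Y.residueField (f x) →ₐ[k] X.residueField x := { (f.residueFieldMap x).hom with commutes' := hc }
  obtain ⟨h1, h2⟩ := h
  have hinj : Function.Injective φ := (f.residueFieldMap x).hom.injective
  exact ⟨Module.Finite.of_injective φ.toLinearMap hinj, Algebra.IsSeparable.of_algHom k _ φ⟩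

end K896.Trans
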