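import Groth.Agent.CurvSt.K896.Bdry
import Groth.Agent.CurvSt.K310.ExistsCurve
import Groth.Agent.AlgSt.K735.Lift

/-!
# Connectedness of `Mbar_{g,0}` from the connectedness of `Mbar_{h,n}`, `h < g`

Over an algebraically closed field `k`.  Inputs (as propositions): `G1Fam`, `G2Fam` (glueing families), `G1Pt`, `G2Pt`
(glueing marked curves over `k`), `NodeStmt` (a singular stable curve is a glueing), `DegStmt` (a smooth curve
degenerates to a singular stable curve: S16736).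
-/

set_option autoImplicit false
set_option backward.isDefEq.respectTransparency false
set_option backward.isDefEq.respectTransparency.types false

universe u

open CategoryTheory CategoryTheory.Limits AlgebraicGeometry Opposite CurvSt

namespace K896.BdryConn

open K896.Glue K896.GluePts K896.MbarFam K896.MbarSmooth K896.Bdry K896.StPts

section stmts

variable (k : Type u) [Field k]

/-- Gluing the last two of three marks. -/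
def G1Pt : Prop :=
  ∀ {C : Scheme.{u}} (f : C ⟶ Spec (CommRingCat.of k)) (h : ℕ) (σ : Fin 3 → (Spec (CommRingCat.of k) ⟶ C))
    (hσ : ∀ i, σ i ≫ f = 𝟙 _), IsStableFam f σ hσ h → ∃ (X : Scheme.{u}) (f₁ : X ⟶ Spec (CommRingCat.of k))
    (ν : C ⟶ X) (τ : Fin 1 → (Spec (CommRingCat.of k) ⟶ X)) (hτ : ∀ i, τ i ≫ f₁ = 𝟙 _), ν ≫ f₁ = f ∧
      UnivGlue f f₁ (σ 1) (σ 2) ν ∧ τ 0 = σ 0 ≫ ν ∧ IsStableFam f₁ τ hτ (h + 1)

/-- Gluing a 1-pointed curve to the first mark of a 3-pointed curve. -/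
def G2Pt : Prop :=
  ∀ {C₁ C₂ : Scheme.{u}} (f₁ : C₁ ⟶ Spec (CommRingCat.of k)) (f₂ : C₂ ⟶ Spec (CommRingCat.of k)) (h₁ h₂ : ℕ)
    (σ₁ : Fin 3 → (Spec (CommRingCat.of k) ⟶ C₁)) (hσ₁ : ∀ i, σ₁ i ≫ f₁ = 𝟙 _)
    (σ₂ : Fin 1 → (Spec (CommRingCat.of k) ⟶ C₂)) (hσ₂ : ∀ i, σ₂ i ≫ f₂ = 𝟙 _),
    IsStableFam f₁ σ₁ hσ₁ h₁ → IsStableFam f₂ σ₂ hσ₂ h₂ → ∃ (X : Scheme.{u}) (f : X ⟶ Spec (CommRingCat.of k))
      (ν₁ : C₁ ⟶ X) (ν₂ : C₂ ⟶ X) (τ : Fin 2 → (Spec (CommRingCat.of k) ⟶ X)) (hτ : ∀ i, τ i ≫ f = 𝟙 _),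
      ν₁ ≫ f = f₁ ∧ ν₂ ≫ f = f₂ ∧ UnivPush f₁ f₂ f (σ₁ 0) (σ₂ 0) ν₁ ν₂ ∧ τ 0 = σ₁ 1 ≫ ν₁ ∧ τ 1 = σ₁ 2 ≫ ν₁ ∧
      IsStableFam f τ hτ (h₁ + h₂)

/-- A singular stable curve is obtained by gluing. -/
def NodeStmt : Prop :=
  ∀ {X : Scheme.{u}} (q : X ⟶ Spec (CommRingCat.of k)) (g : ℕ) (σ : Fin 0 → (Spec (CommRingCat.of k) ⟶ X))
    (hσ : ∀ i, σ i ≫ q = 𝟙 _), IsStableFam q σ hσ g → 2 ≤ g → ¬ Smooth q →
    (∃ (C : Scheme.{u}) (f : C ⟶ Spec (CommRingCat.of k)) (τ : Fin 2 → (Spec (CommRingCat.of k) ⟶ C))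
      (hτ : ∀ i, τ i ≫ f = 𝟙 _) (ν : C ⟶ X), IsStableFam f τ hτ (g - 1) ∧ ν ≫ q = f ∧
      UnivGlue f q (τ 0) (τ 1) ν) ∨
    (∃ (g₁ g₂ : ℕ) (C₁ C₂ : Scheme.{u}) (f₁ : C₁ ⟶ Spec (CommRingCat.of k)) (f₂ : C₂ ⟶ Spec (CommRingCat.of k))
      (τ₁ : Fin 1 → (Spec (CommRingCat.of k) ⟶ C₁)) (hτ₁ : ∀ i, τ₁ i ≫ f₁ = 𝟙 _)
      (τ₂ : Fin 1 → (Spec (CommRingCat.of k) ⟶ C₂)) (hτ₂ : ∀ i, τ₂ i ≫ f₂ = 𝟙 _) (ν₁ : C₁ ⟶ X) (ν₂ : C₂ ⟶ X),
      1 ≤ g₁ ∧ 1 ≤ g₂ ∧ g = g₁ + g₂ ∧ IsStableFam f₁ τ₁ hτ₁ g₁ ∧ IsStableFam f₂ τ₂ hτ₂ g₂ ∧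
      ν₁ ≫ q = f₁ ∧ ν₂ ≫ q = f₂ ∧ UnivPush f₁ f₂ q (τ₁ 0) (τ₂ 0) ν₁ ν₂)

/-- A smooth curve of genus `g ≥ 2` degenerates to a singular stable curve (S16736). -/
def DegStmt : Prop :=
  ∀ (X : Scheme.{u}) (q : X ⟶ Spec (CommRingCat.of k)) [Smooth q] [IsProper q] [ConnectedSpace X]
    (_ : topologicalKrullDim X = 1) (g : ℕ) (_ : @Curv2.genus k _ X ⟨q⟩ = g) (_ : 2 ≤ g),
    ∃ (T : Scheme.{u}) (p : T ⟶ Spec (CommRingCat.of k)) (s t : Spec (CommRingCat.of k) ⟶ T)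
      (C : Scheme.{u}) (f : C ⟶ T) (i : X ⟶ C),
      Smooth p ∧ ConnectedSpace T ∧ topologicalKrullDim T = 1 ∧ s ≫ p = 𝟙 _ ∧ t ≫ p = 𝟙 _ ∧
      CurvSt.IsStableFam f (fun j : Fin 0 => j.elim0) (fun j : Fin 0 => j.elim0) g ∧
      IsPullback i q f s ∧
      ∀ (Y : Scheme.{u}) (j : Y ⟶ C) (r : Y ⟶ Spec (CommRingCat.of k)), IsPullback j r f t → ¬ Smooth r

end stmts

section obj

variable {k : Type u} [Field k]

/-- Marked curves over `k` as objects of the stack. -/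
noncomputable def ko {n g : ℕ} {C : Scheme.{u}} (f : C ⟶ Spec (CommRingCat.of k))
    (σ : Fin n → (Spec (CommRingCat.of k) ⟶ C)) (hσ : ∀ i, σ i ≫ f = 𝟙 _) (h : IsStableFam f σ hσ g) :
    (Mbar (Spec (CommRingCat.of k)) g n).obj :=
  ⟨⟨Over.mk (𝟙 _), C, f, σ, hσ⟩, h⟩

/-- The point of a marked curve over `k`. -/
noncomputable def kp {n g : ℕ} {C : Scheme.{u}} (f : C ⟶ Spec (CommRingCat.of k))
    (σ : Fin n → (Spec (CommRingCat.of k) ⟶ C)) (hσ : ∀ i, σ i ≫ f = 𝟙 _) (h : IsStableFam f σ hσ g) :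
    AlgSt.Points (Mbar (Spec (CommRingCat.of k)) g n) :=
  kpt (ko f σ hσ h) rfl

theorem exists_ko {n g : ℕ} (a : (Mbar (Spec (CommRingCat.of k)) g n).obj)
    (ha : (Mbar (Spec (CommRingCat.of k)) g n).p.obj a = Over.mk (𝟙 _)) :
    ∃ (C : Scheme.{u}) (f : C ⟶ Spec (CommRingCat.of k)) (σ : Fin n → (Spec (CommRingCat.of k) ⟶ C))
      (hσ : ∀ i, σ i ≫ f = 𝟙 _) (h : IsStableFam f σ hσ g), kpt a ha = kp f σ hσ h := by
  obtain ⟨⟨B, C, f, σ, hσ⟩, h⟩ := a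
  change B = Over.mk (𝟙 _) at ha
  subst ha
  exact ⟨C, f, σ, hσ, h, rfl⟩

/-- A stable curve over `k` which is projective after an etale base change is projective. -/
theorem isHProjective_of_projLoc [IsAlgClosed k] (HP : ProjLoc.{u}) {n g : ℕ} {C : Scheme.{u}}
    (f : C ⟶ Spec (CommRingCat.of k)) (σ : Fin n → (Spec (CommRingCat.of k) ⟶ C)) (hσ : ∀ i, σ i ≫ f = 𝟙 _)
    (h : IsStableFam f σ hσ g) : RelProj.IsHProjective f := by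
  obtain ⟨i1, i2, i3, -⟩ := id h
  have hG := K898.StabFam.geoGenus_of_isStableFam h
  obtain ⟨T, e, hT, he, ⟨t, -⟩, hproj⟩ := HP f (fun s => (K898.StabFam.dim_fiber f hG s).le)
    (IsLocalRing.closedPoint k)
  obtain ⟨s, hs⟩ := K735.Lift.exists_rational_section t e
  have hpb := (IsPullback.of_hasPullback (pullback.snd f e) s).paste_horiz (IsPullback.of_hasPullback f e)
  obtain ⟨m, i, hi, hi'⟩ := Groth.Agent.S9693.result _ hproj s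
  let a := pullback.fst (pullback.snd f e) s ≫ pullback.fst f e
  have hw : a ≫ f = pullback.snd (pullback.snd f e) s := by
    rw [hpb.w, hs, Category.comp_id]
  have ha : IsIso a := by
    rw [hs] at hpb
    exact hpb.isIso_fst_of_isIso
  refine ⟨m, inv a ≫ i, inferInstance, ?_⟩
  rw [Category.assoc, hi', ← hw, IsIso.inv_hom_id_assoc]

end obj

section main

variable {k : Type u} [Field k] [IsAlgClosed k]

/-- A smooth stable curve lies in the component of a singular one. -/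
theorem exists_singular (hD : DegStmt.{u} k) {K : Precoverage Scheme.{u}} {g : ℕ} (hg : 2 ≤ g)
    (halg : AlgSt.IsAlgStack K (Mbar (Spec (CommRingCat.of k)) g 0)) {C : Scheme.{u}}
    (f : C ⟶ Spec (CommRingCat.of k)) (σ : Fin 0 → (Spec (CommRingCat.of k) ⟶ C)) (hσ : ∀ i, σ i ≫ f = 𝟙 _)
    (h : IsStableFam f σ hσ g) (hs : Smooth f) :
    ∃ (C' : Scheme.{u}) (f' : C' ⟶ Spec (CommRingCat.of k)) (σ' : Fin 0 → (Spec (CommRingCat.of k) ⟶ C'))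
      (hσ' : ∀ i, σ' i ≫ f' = 𝟙 _) (h' : IsStableFam f' σ' hσ' g), ¬ Smooth f' ∧
      kp f' σ' hσ' h' ∈ connectedComponent (kp f σ hσ h) := by
  have i2 : IsProper f := h.2.1
  obtain ⟨h1, h2, h3, ⟨-, h4⟩, -⟩ := h.2.2.2 k (𝟙 _) C (𝟙 C) f (IsPullback.of_horiz_isIso ⟨by simp⟩)
  obtain ⟨T, p, s, t, X, F, i, hp, hT, -, hsp, htp, hF, sq, hns⟩ := hD C f h3 g h4 hg
  let y : (Mbar (Spec (CommRingCat.of k)) g 0).obj := ⟨⟨Over.mk p, X, F, fun j => j.elim0, fun j => j.elim0⟩, hF⟩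
  have hpb := IsPullback.of_hasPullback F t
  have hst : IsStableFam (pullback.snd F t) (fun j : Fin 0 => j.elim0) (fun j => j.elim0) g :=
    isStableFam_of_isPullback _ hF hpb (fun j => j.elim0)
  refine ⟨_, pullback.snd F t, fun j => j.elim0, fun j => j.elim0, hst, hns _ _ _ hpb, ?_⟩
  have : PreconnectedSpace ↥((Mbar (Spec (CommRingCat.of k)) g 0).p.obj y).left :=
    inferInstanceAs (PreconnectedSpace T)
  let a : (ko f σ hσ h).obj ⟶ y.obj := ⟨Over.homMk s hsp, i, sq, fun j => j.elim0⟩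
  let b : (ko (pullback.snd F t) (fun j : Fin 0 => j.elim0) (fun j => j.elim0) hst).obj ⟶ y.obj :=
    ⟨Over.homMk t htp, pullback.fst F t, hpb, fun j => j.elim0⟩
  exact mem_connectedComponent_of_family halg y ⟨k, 𝟙 _, ko f σ hσ h, rfl⟩ ⟨k, 𝟙 _, ko _ _ _ hst, rfl⟩
    (ObjectProperty.homMk a) (ObjectProperty.homMk b)

/-- A curve with a separating node lies in the component of a glueing of a 2-pointed curve. -/
theorem sep_case (G1 : G1Fam.{u}) (G2 : G2Fam.{u}) (G1' : G1Pt.{u} k) (G2' : G2Pt.{u} k) (HP : ProjLoc.{u})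
    {K : Precoverage Scheme.{u}} {h g₂ : ℕ}
    (halg₁ : AlgSt.IsAlgStack K (Mbar (Spec (CommRingCat.of k)) (h + 1) 1))
    (hft₁ : AlgSt.LocQ (AlgSp.LocP @LocallyOfFiniteType) (FibCat.toSelf (Mbar (Spec (CommRingCat.of k)) (h + 1) 1)))
    (hpc : PreconnectedSpace (AlgSt.Points (Mbar (Spec (CommRingCat.of k)) (h + 1) 1)))
    (halg : AlgSt.IsAlgStack K (Mbar (Spec (CommRingCat.of k)) (h + 1 + g₂) 0))
    {C₁ C₂ X : Scheme.{u}} (f₁ : C₁ ⟶ Spec (CommRingCat.of k)) (f₂ : C₂ ⟶ Spec (CommRingCat.of k))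
    (τ₁ : Fin 1 → (Spec (CommRingCat.of k) ⟶ C₁)) (hτ₁ : ∀ i, τ₁ i ≫ f₁ = 𝟙 _)
    (τ₂ : Fin 1 → (Spec (CommRingCat.of k) ⟶ C₂)) (hτ₂ : ∀ i, τ₂ i ≫ f₂ = 𝟙 _)
    (q : X ⟶ Spec (CommRingCat.of k)) (σ : Fin 0 → (Spec (CommRingCat.of k) ⟶ X)) (hσ : ∀ i, σ i ≫ q = 𝟙 _)
    (ν₁ : C₁ ⟶ X) (ν₂ : C₂ ⟶ X) (hst₁ : IsStableFam f₁ τ₁ hτ₁ (h + 1)) (hst₂ : IsStableFam f₂ τ₂ hτ₂ g₂)
    (hX : IsStableFam q σ hσ (h + 1 + g₂)) (hν₁ : ν₁ ≫ q = f₁) (hν₂ : ν₂ ≫ q = f₂)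
    (hU : UnivPush f₁ f₂ q (τ₁ 0) (τ₂ 0) ν₁ ν₂) :
    ∃ (C : Scheme.{u}) (f : C ⟶ Spec (CommRingCat.of k)) (τ : Fin 2 → (Spec (CommRingCat.of k) ⟶ C))
      (hτ : ∀ i, τ i ≫ f = 𝟙 _) (X' : Scheme.{u}) (q' : X' ⟶ Spec (CommRingCat.of k))
      (σ' : Fin 0 → (Spec (CommRingCat.of k) ⟶ X')) (hσ' : ∀ i, σ' i ≫ q' = 𝟙 _) (ν : C ⟶ X')
      (_ : IsStableFam f τ hτ (h + g₂)) (hX' : IsStableFam q' σ' hσ' (h + 1 + g₂)), ν ≫ q' = f ∧
      UnivGlue f q' (τ 0) (τ 1) ν ∧ kp q' σ' hσ' hX' ∈ connectedComponent (kp q σ hσ hX) := by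
  -- a three-pointed curve of genus `h`
  obtain ⟨⟨w, hw⟩⟩ := K310.ExistsCurve.nonempty_Mbar_fiber (k := k) (𝟙 (Spec (CommRingCat.of k))) h 3 (by omega)
  obtain ⟨W, fW, ρ, hρ, hW, -⟩ := exists_ko w hw
  -- glue the last two marks
  obtain ⟨Y₁, y₁, α, η, hη, hα, hαU, hη0, hY₁⟩ := G1' fW h ρ hρ hW
  have hp₁ := isHProjective_of_projLoc HP y₁ η hη hY₁
  have hp₂ := isHProjective_of_projLoc HP f₂ τ₂ hτ₂ hst₂
  obtain ⟨X', q', μ₁, μ₂, hμ₁, hμ₂, hμU, hX'⟩ := G2 y₁ f₂ (h + 1) g₂ η hη τ₂ hτ₂ hY₁ hst₂ hp₁ hp₂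
  -- the two pointed curve
  obtain ⟨V, fV, κ₁, κ₂, θ, hθ, hκ₁, hκ₂, hκU, hθ0, hθ1, hV⟩ := G2' fW f₂ h g₂ ρ hρ τ₂ hτ₂ hW hst₂
  obtain ⟨X'', q'', l, hl, hlU, hX''⟩ := G1 fV (h + g₂) θ hθ hV (isHProjective_of_projLoc HP fV θ hθ hV)
  have hX''g : IsStableFam q'' (fun i : Fin 0 => i.elim0) (fun i => i.elim0) (h + 1 + g₂) := by
    have : h + g₂ + 1 = h + 1 + g₂ := by omega
    rwa [this] at hX''
  refine ⟨V, fV, θ, hθ, X'', q'', fun i => i.elim0, fun i => i.elim0, l, hV, hX''g, hl, hlU, ?_⟩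
  -- the two glued curves are isomorphic
  obtain ⟨a1, a2, a3⟩ := UnivGlue.isGlue hαU (hρ 1) (hρ 2) hα
  have P' := UnivPush.isPushout hμU (hη 0) (hτ₂ 0) hμ₁ hμ₂
  have PV := UnivPush.isPushout hκU (hρ 0) (hτ₂ 0) hκ₁ hκ₂
  obtain ⟨l1, l2, l3⟩ := UnivGlue.isGlue hlU (hθ 0) (hθ 1) hl
  let A : V ⟶ X' := PV.desc (α ≫ μ₁) μ₂ (by rw [← Category.assoc, ← hη0, P'.w])
  have hA1 : κ₁ ≫ A = α ≫ μ₁ := PV.inl_desc _ _ _
  have hA2 : κ₂ ≫ A = μ₂ := PV.inr_desc _ _ _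
  obtain ⟨B, hB, -⟩ := l3 X' A (by
    rw [hθ0, hθ1, Category.assoc, Category.assoc, hA1, ← Category.assoc, ← Category.assoc, a2])
  obtain ⟨Γ, hΓ, -⟩ := a3 X'' (κ₁ ≫ l) (by
    rw [← Category.assoc, ← Category.assoc, ← hθ0, ← hθ1, l2])
  let D : X' ⟶ X'' := P'.desc Γ (κ₂ ≫ l) (by
    rw [hη0, Category.assoc, hΓ, ← Category.assoc, ← Category.assoc, PV.w])
  have hD1 : μ₁ ≫ D = Γ := P'.inl_desc _ _ _
  have hD2 : μ₂ ≫ D = κ₂ ≫ l := P'.inr_desc _ _ _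
  have hBD : B ≫ D = 𝟙 _ := by
    obtain ⟨_, -, hu⟩ := l3 X'' l l2
    refine (hu (B ≫ D) ?_).trans (hu (𝟙 _) (Category.comp_id _)).symm
    simp only
    rw [← Category.assoc, hB]
    apply PV.hom_ext
    · rw [← Category.assoc, hA1, Category.assoc, hD1, hΓ]
    · rw [← Category.assoc, hA2, hD2]
  have hDB : D ≫ B = 𝟙 _ := by
    apply P'.hom_ext
    · rw [← Category.assoc, hD1, Category.comp_id]
      obtain ⟨_, -, hu⟩ := a3 X' (α ≫ μ₁) (by rw [← Category.assoc, ← Category.assoc, a2])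
      refine (hu (Γ ≫ B) ?_).trans (hu μ₁ rfl).symm
      simp only
      rw [← Category.assoc, hΓ, Category.assoc, hB, hA1]
    · rw [← Category.assoc, hD2, Category.assoc, hB, hA2, Category.comp_id]
  have hBq : B ≫ q' = q'' := by
    obtain ⟨_, -, hu⟩ := l3 _ fV (by rw [hθ, hθ])
    refine (hu (B ≫ q') ?_).trans (hu q'' hl).symm
    simp only
    rw [← Category.assoc, hB]
    apply PV.hom_ext
    · rw [← Category.assoc, hA1, Category.assoc, hμ₁, hα, hκ₁]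
    · rw [← Category.assoc, hA2, hμ₂, hκ₂]
  have hBi : IsIso B := ⟨D, hBD, hDB⟩
  obtain ⟨m⟩ := nonempty_hom_of_iso (A := Over.mk (𝟙 (Spec (CommRingCat.of k))))
    (x := ko q'' (fun i : Fin 0 => i.elim0) (fun i => i.elim0) hX''g)
    (x' := ko q' (fun i : Fin 0 => i.elim0) (fun i => i.elim0) hX') rfl rfl B (by
      simp only [eqToHom_refl, Over.id_left, Category.comp_id]
      exact hBq)
  have e1 : kp q'' (fun i : Fin 0 => i.elim0) (fun i => i.elim0) hX''g =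
      kp q' (fun i : Fin 0 => i.elim0) (fun i => i.elim0) hX' := K735.Pts.mk_eq_of_hom m
  rw [e1]
  -- both are glueings of the fixed curve `C₂`
  let Fx : Fixed (Spec (CommRingCat.of k)) g₂ := ⟨C₂, f₂, τ₂, hτ₂, hst₂⟩
  have H := glueRel_RSEP Fx G2 HP (h + 1)
  have hid : ∀ {C : Scheme.{u}} (f : C ⟶ Spec (CommRingCat.of k)), IsPullback (𝟙 C) f f (𝟙 _) :=
    fun f => IsPullback.of_horiz_isIso ⟨by simp⟩
  have R1 : RSEP Fx (h + 1 + g₂) (h + 1) (ko f₁ τ₁ hτ₁ hst₁) (ko q σ hσ hX) rfl := by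
    refine ⟨C₂, 𝟙 _, f₂, τ₂ 0, ν₁, ν₂, hid f₂, hτ₂ 0, ?_, ?_, ?_, ?_⟩
    · change τ₂ 0 ≫ 𝟙 _ = 𝟙 _ ≫ τ₂ 0
      rw [Category.id_comp, Category.comp_id]
    · simp only [eqToHom_refl, Over.id_left, Category.comp_id]
      exact hν₁
    · simp only [eqToHom_refl, Over.id_left, Category.comp_id]
      exact hν₂
    · simp only [eqToHom_refl, Over.id_left, Category.comp_id]
      exact hU
  have R2 : RSEP Fx (h + 1 + g₂) (h + 1) (ko y₁ η hη hY₁)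
      (ko q' (fun i : Fin 0 => i.elim0) (fun i => i.elim0) hX') rfl := by
    refine ⟨C₂, 𝟙 _, f₂, τ₂ 0, μ₁, μ₂, hid f₂, hτ₂ 0, ?_, ?_, ?_, ?_⟩
    · change τ₂ 0 ≫ 𝟙 _ = 𝟙 _ ≫ τ₂ 0
      rw [Category.id_comp, Category.comp_id]
    · simp only [eqToHom_refl, Over.id_left, Category.comp_id]
      exact hμ₁
    · simp only [eqToHom_refl, Over.id_left, Category.comp_id]
      exact hμ₂
    · simp only [eqToHom_refl, Over.id_left, Category.comp_id]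
      exact hμU
  exact GlueRel.mem_connectedComponent H halg₁ halg hft₁ ⟨k, 𝟙 _, ko f₁ τ₁ hτ₁ hst₁, rfl⟩
    ⟨k, 𝟙 _, ko y₁ η hη hY₁, rfl⟩ _ _ rfl rfl R1 R2

/-- `x` is the class of a curve obtained by gluing the two marks of a 2-pointed curve of genus `h`. -/
def IsNS (k : Type u) [Field k] (g h : ℕ) (x : AlgSt.Points (Mbar (Spec (CommRingCat.of k)) g 0)) : Prop :=
  ∃ (C : Scheme.{u}) (f : C ⟶ Spec (CommRingCat.of k)) (τ : Fin 2 → (Spec (CommRingCat.of k) ⟶ C))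
    (hτ : ∀ i, τ i ≫ f = 𝟙 _) (X : Scheme.{u}) (q : X ⟶ Spec (CommRingCat.of k))
    (σ : Fin 0 → (Spec (CommRingCat.of k) ⟶ X)) (hσ : ∀ i, σ i ≫ q = 𝟙 _) (ν : C ⟶ X)
    (_ : IsStableFam f τ hτ h) (hX : IsStableFam q σ hσ g), ν ≫ q = f ∧
    UnivGlue f q (τ 0) (τ 1) ν ∧ kp q σ hσ hX = x

theorem isNS_connected (G1 : G1Fam.{u}) (HP : ProjLoc.{u}) {K : Precoverage Scheme.{u}} {h : ℕ}
    (halg₂ : AlgSt.IsAlgStack K (Mbar (Spec (CommRingCat.of k)) h 2))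
    (hft₂ : AlgSt.LocQ (AlgSp.LocP @LocallyOfFiniteType) (FibCat.toSelf (Mbar (Spec (CommRingCat.of k)) h 2)))
    (hpc : PreconnectedSpace (AlgSt.Points (Mbar (Spec (CommRingCat.of k)) h 2)))
    (halg : AlgSt.IsAlgStack K (Mbar (Spec (CommRingCat.of k)) (h + 1) 0))
    {x y : AlgSt.Points (Mbar (Spec (CommRingCat.of k)) (h + 1) 0)} (hx : IsNS k (h + 1) h x)
    (hy : IsNS k (h + 1) h y) : y ∈ connectedComponent x := by
  obtain ⟨C, f, τ, hτ, X, q, σ, hσ, ν, hC, hX, hν, hU, rfl⟩ := hx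
  obtain ⟨C', f', τ', hτ', X', q', σ', hσ', ν', hC', hX', hν', hU', rfl⟩ := hy
  have H := glueRel_RNS (S := Spec (CommRingCat.of k)) G1 HP h
  have R1 : RNS (Spec (CommRingCat.of k)) (h + 1) h (ko f τ hτ hC) (ko q σ hσ hX) rfl := by
    refine ⟨ν, ?_, ?_⟩
    · simp only [eqToHom_refl, Over.id_left, Category.comp_id]
      exact hν
    · simp only [eqToHom_refl, Over.id_left, Category.comp_id]
      exact hU
  have R2 : RNS (Spec (CommRingCat.of k)) (h + 1) h (ko f' τ' hτ' hC') (ko q' σ' hσ' hX') rfl := by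
    refine ⟨ν', ?_, ?_⟩
    · simp only [eqToHom_refl, Over.id_left, Category.comp_id]
      exact hν'
    · simp only [eqToHom_refl, Over.id_left, Category.comp_id]
      exact hU'
  exact GlueRel.mem_connectedComponent H halg₂ halg hft₂ ⟨k, 𝟙 _, ko f τ hτ hC, rfl⟩
    ⟨k, 𝟙 _, ko f' τ' hτ' hC', rfl⟩ _ _ rfl rfl R1 R2

/-- Every curve over `k` lies in the component of a glueing of a 2-pointed curve. -/
theorem exists_isNS (G1 : G1Fam.{u}) (G2 : G2Fam.{u}) (G1' : G1Pt.{u} k) (G2' : G2Pt.{u} k) (HP : ProjLoc.{u})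
    (hN : NodeStmt.{u} k) (hD : DegStmt.{u} k) {K : Precoverage Scheme.{u}} {h : ℕ} (hh : 1 ≤ h)
    (halg : ∀ g n, 3 ≤ 2 * g + n → AlgSt.IsAlgStack K (Mbar (Spec (CommRingCat.of k)) g n))
    (hft : ∀ g n, 3 ≤ 2 * g + n →
      AlgSt.LocQ (AlgSp.LocP @LocallyOfFiniteType) (FibCat.toSelf (Mbar (Spec (CommRingCat.of k)) g n)))
    (hpc : ∀ g ≤ h, 1 ≤ g → PreconnectedSpace (AlgSt.Points (Mbar (Spec (CommRingCat.of k)) g 1)))
    {C : Scheme.{u}}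
    (f : C ⟶ Spec (CommRingCat.of k)) (σ : Fin 0 → (Spec (CommRingCat.of k) ⟶ C)) (hσ : ∀ i, σ i ≫ f = 𝟙 _)
    (hC : IsStableFam f σ hσ (h + 1)) :
    ∃ y, IsNS k (h + 1) h y ∧ y ∈ connectedComponent (kp f σ hσ hC) := by
  -- reduction to the singular case
  have key : ∀ {C : Scheme.{u}} (f : C ⟶ Spec (CommRingCat.of k)) (σ : Fin 0 → (Spec (CommRingCat.of k) ⟶ C))
      (hσ : ∀ i, σ i ≫ f = 𝟙 _) (hC : IsStableFam f σ hσ (h + 1)), ¬ Smooth f →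
      ∃ y, IsNS k (h + 1) h y ∧ y ∈ connectedComponent (kp f σ hσ hC) := by
    intro C f σ hσ hC hs
    rcases hN f (h + 1) σ hσ hC (by omega) hs with ⟨D, d, τ, hτ, ν, hD, hν, hU⟩ |
      ⟨g₁, g₂, C₁, C₂, f₁, f₂, τ₁, hτ₁, τ₂, hτ₂, ν₁, ν₂, hg₁, hg₂, hgg, hst₁, hst₂, hν₁, hν₂, hU⟩
    · exact ⟨_, ⟨D, d, τ, hτ, C, f, σ, hσ, ν, hD, hC, hν, hU, rfl⟩, mem_connectedComponent⟩
    · obtain ⟨h', rfl⟩ : ∃ h', g₁ = h' + 1 := ⟨g₁ - 1, by omega⟩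
      have hh' : h = h' + g₂ := by omega
      subst hh'
      have hgg' : h' + g₂ + 1 = h' + 1 + g₂ := by omega
      -- transport along the equality of genera
      have tr : ∀ (m : ℕ) (_ : h' + g₂ + 1 = m) (hC' : IsStableFam f σ hσ m),
          (∃ y, IsNS k m (h' + g₂) y ∧ y ∈ connectedComponent (kp f σ hσ hC')) →
          ∃ y, IsNS k (h' + g₂ + 1) (h' + g₂) y ∧ y ∈ connectedComponent (kp f σ hσ hC) := by
        intro m hm hC' H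
        subst hm
        exact H
      have hC' : IsStableFam f σ hσ (h' + 1 + g₂) := by rwa [hgg'] at hC
      refine tr _ hgg' hC' ?_
      obtain ⟨V, v, τ, hτ, X', q', σ', hσ', ν, hV, hX', hν, hU', hcc⟩ := sep_case G1 G2 G1' G2' HP (h := h')
        (g₂ := g₂) (halg _ _ (by omega)) (hft _ _ (by omega)) (hpc _ (by omega) (by omega)) (halg _ _ (by omega))
        f₁ f₂ τ₁ hτ₁ τ₂ hτ₂ f σ hσ ν₁ ν₂ hst₁ hst₂ hC' hν₁ hν₂ hU
      exact ⟨_, ⟨V, v, τ, hτ, X', q', σ', hσ', ν, hV, hX', hν, hU', rfl⟩, hcc⟩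
  by_cases hs : Smooth f
  · obtain ⟨C', f', σ', hσ', hC', hs', hcc⟩ := exists_singular hD (by omega) (halg _ _ (by omega)) f σ hσ hC hs
    obtain ⟨y, hy, hyc⟩ := key f' σ' hσ' hC' hs'
    refine ⟨y, hy, ?_⟩
    rw [connectedComponent_eq hcc]
    exact hyc
  · exact key f σ hσ hC hs

/-- **Connectedness of the stack of stable curves of genus `h + 1` without marks from lower genera.** -/
theorem preconnectedSpace_zero (G1 : G1Fam.{u}) (G2 : G2Fam.{u}) (G1' : G1Pt.{u} k) (G2' : G2Pt.{u} k)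
    (HP : ProjLoc.{u}) (hN : NodeStmt.{u} k) (hD : DegStmt.{u} k) {K : Precoverage Scheme.{u}} {h : ℕ} (hh : 1 ≤ h)
    (halg : ∀ g n, 3 ≤ 2 * g + n → AlgSt.IsAlgStack K (Mbar (Spec (CommRingCat.of k)) g n))
    (hft : ∀ g n, 3 ≤ 2 * g + n →
      AlgSt.LocQ (AlgSp.LocP @LocallyOfFiniteType) (FibCat.toSelf (Mbar (Spec (CommRingCat.of k)) g n)))
    (hpc : ∀ g ≤ h, ∀ n, 3 ≤ 2 * g + n → PreconnectedSpace (AlgSt.Points (Mbar (Spec (CommRingCat.of k)) g n))) :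
    PreconnectedSpace (AlgSt.Points (Mbar (Spec (CommRingCat.of k)) (h + 1) 0)) := by
  refine preconnectedSpace_of_kpts (halg _ _ (by omega)) (hft _ _ (by omega)) fun a ha b hb => ?_
  obtain ⟨C, f, σ, hσ, hC, e1⟩ := exists_ko a ha
  obtain ⟨C', f', σ', hσ', hC', e2⟩ := exists_ko b hb
  rw [e1, e2]
  obtain ⟨x, hx, hxc⟩ := exists_isNS G1 G2 G1' G2' HP hN hD hh halg hft (fun g hg hg1 => hpc g hg 1 (by omega))
    f σ hσ hC
  obtain ⟨y, hy, hyc⟩ := exists_isNS G1 G2 G1' G2' HP hN hD hh halg hft (fun g hg hg1 => hpc g hg 1 (by omega))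
    f' σ' hσ' hC'
  have hxy := isNS_connected G1 HP (halg _ _ (by omega)) (hft _ _ (by omega)) (hpc h le_rfl 2 (by omega))
    (halg _ _ (by omega)) hx hy
  rw [connectedComponent_eq hxc, connectedComponent_eq hxy, ← connectedComponent_eq hyc]
  exact mem_connectedComponent

end main

end K896.BdryConn
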