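import Groth.Agent.CurvSt.K896.NdGeo
import Groth.Agent.CurvSt.K896.BdryConn

/-!
# A singular stable curve is a glueing: assembly

`nodeStmt`: `K896.BdryConn.NodeStmt` from the second half `OfGl`.
-/

set_option autoImplicit false
universe u
open CategoryTheory CategoryTheory.Limits AlgebraicGeometry TopologicalSpace CurvSt

namespace K896.NodeFinal

open K896.Glue K896.Trans K312.Gl

/-- A singular at-worst-nodal curve over a field has a node. -/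
theorem exists_node {k : Type u} [Field k] {X : Scheme.{u}} (q : X ⟶ Spec (CommRingCat.of k)) [LocallyOfFiniteType q]
    (hX : @Curv2.AtWorstNodal k _ X ⟨q⟩) (hq : ¬ Smooth q) : ∃ x, @Curv2.IsNode k _ X ⟨q⟩ x := by
  let _ : X.Over (Spec (CommRingCat.of k)) := ⟨q⟩
  by_contra hcon
  push Not at hcon
  apply hq
  have hfp : LocallyOfFinitePresentation q := inferInstance
  have h1 : q.smoothLocus = ⊤ := by
    by_contra hne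
    have hJ : JacobsonSpace X := LocallyOfFiniteType.jacobsonSpace q
    have h2 : ((q.smoothLocus : Set X)ᶜ).Nonempty := by
      rw [Set.nonempty_compl]
      intro h3
      exact hne (TopologicalSpace.Opens.ext h3)
    obtain ⟨x, hx1, hx2⟩ := nonempty_inter_closedPoints h2 q.smoothLocus.2.isClosed_compl.isLocallyClosed
    rcases hX x hx2 with ⟨U, hxU, hU⟩ | h4
    · have hU' : Smooth (U.ι ≫ q) := hU
      exact hx1 (Groth.Agent.VarietyA.SmoothLocusSch.le_smoothLocus q U hxU)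
    · exact hcon x h4
  have h5 := Groth.Agent.VarietyA.SmoothLocusSch.smooth_smoothLocus_ι q
  rw [h1] at h5
  have h6 : q = (Scheme.topIso X).inv ≫ (⊤ : X.Opens).ι ≫ q := by simp
  rw [h6]
  infer_instance

/-- The second half of `NodeStmt`. -/
def OfGl (k : Type u) [Field k] : Prop :=
  ∀ {X Y : Scheme.{u}} (q : X ⟶ Spec (CommRingCat.of k)) (g : ℕ) (σ : Fin 0 → (Spec (CommRingCat.of k) ⟶ X))
    (hσ : ∀ i, σ i ≫ q = 𝟙 _), IsStableFam q σ hσ g → 2 ≤ g →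
    ∀ (a b : Spec (CommRingCat.of k) ⟶ Y) (ν : Y ⟶ X), IsGl a b ν → a ≫ ν ≫ q = 𝟙 _ → b ≫ ν ≫ q = 𝟙 _ →
    (∀ d, SmAt (ν ≫ q) (a d)) → (∀ d, SmAt (ν ≫ q) (b d)) → (∀ d, ¬ Gen (a d) ∧ ¬ Gen (b d)) →
    (∃ (C : Scheme.{u}) (f : C ⟶ Spec (CommRingCat.of k)) (τ : Fin 2 → (Spec (CommRingCat.of k) ⟶ C))
      (hτ : ∀ i, τ i ≫ f = 𝟙 _) (ν : C ⟶ X), IsStableFam f τ hτ (g - 1) ∧ ν ≫ q = f ∧
      UnivGlue f q (τ 0) (τ 1) ν) ∨
    (∃ (g₁ g₂ : ℕ) (C₁ C₂ : Scheme.{u}) (f₁ : C₁ ⟶ Spec (CommRingCat.of k)) (f₂ : C₂ ⟶ Spec (CommRingCat.of k))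
      (τ₁ : Fin 1 → (Spec (CommRingCat.of k) ⟶ C₁)) (hτ₁ : ∀ i, τ₁ i ≫ f₁ = 𝟙 _)
      (τ₂ : Fin 1 → (Spec (CommRingCat.of k) ⟶ C₂)) (hτ₂ : ∀ i, τ₂ i ≫ f₂ = 𝟙 _) (ν₁ : C₁ ⟶ X) (ν₂ : C₂ ⟶ X),
      1 ≤ g₁ ∧ 1 ≤ g₂ ∧ g = g₁ + g₂ ∧ IsStableFam f₁ τ₁ hτ₁ g₁ ∧ IsStableFam f₂ τ₂ hτ₂ g₂ ∧
      ν₁ ≫ q = f₁ ∧ ν₂ ≫ q = f₂ ∧ UnivPush f₁ f₂ q (τ₁ 0) (τ₂ 0) ν₁ ν₂)

/-- **A singular stable curve is a glueing.** -/
theorem nodeStmt (k : Type u) [Field k] [IsAlgClosed k] (H : OfGl.{u} k) : K896.BdryConn.NodeStmt.{u} k := by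
  intro X q g σ hσ hX hg hq
  have i2 : IsProper q := hX.2.1
  obtain ⟨-, -, -, ⟨h5, -⟩, -⟩ := hX.2.2.2 k (𝟙 _) X (𝟙 X) q (IsPullback.of_horiz_isIso ⟨by simp⟩)
  obtain ⟨x, hx⟩ := exists_node q h5 hq
  have hred : IsReduced X := K898.StabFam.isReduced q h5
  obtain ⟨Y, a, b, ν, hgl, ha, hb, hsa, hsb, hgen, -⟩ := K896.NdGeo.exists_isGl q x hx
  exact H q g σ hσ hX hg a b ν hgl ha hb hsa hsb hgen

end K896.NodeFinal
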