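import Groth.Agent.CurvSt.K896.ConH
import Groth.Agent.Flat2G.StructHH
import Groth.Agent.Ega4B.RpushCompare
import Groth.Agent.CohqA.HDIZero
import Groth.Agent.CohqA.LerayBasis
import Groth.Agent.PosLin.K931.UnitInv
import Groth.Agent.CurvesA.HHMap
import Groth.Agent.S1525
import Groth.Agent.CurvesC.CurveCoh
import Groth.Agent.Fga.EulerIso
import Groth.Agent.VarietyB.ClosedInter
import Groth.Agent.Dcoh.DerSch
import Groth.Agent.CurvesB.UnitCoh


/-!
# Contractions: `O_Y = c_* O_X` and no higher direct images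
-/

set_option autoImplicit false
universe u
open CategoryTheory CategoryTheory.Limits AlgebraicGeometry TopologicalSpace

namespace K896.Contr

open Groth.Agent Groth.Agent.Flat2G.StructHH Groth.Agent.Flat2D.LocalGlobalH

/-- `O_Y = c_* O_X` and `R^q c_* O_X = 0` for `q > 0`, on affine opens. -/
structure IsCon {X Y : Scheme.{u}} (c : X ⟶ Y) : Prop where
  bij : ∀ U : Y.Opens, Function.Bijective (c.app U)
  van : ∀ V : Y.Opens, IsAffineOpen V → ∀ q : ℕ,
    Subsingleton (Coh.HHon X (Coh.structureModule X) (c ⁻¹ᵁ V) (q + 1))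

variable {X Y Z : Scheme.{u}} {f : X ⟶ Y}

theorem IsCon.isIso_unit (h : IsCon f) : IsIso (ClSub.unitToPush f) :=
  _root_.K931.UnitInv.isIso_unitToPush_of_bijective f h.bij

theorem IsCon.nonempty_equiv (h : IsCon f) (n : ℕ) :
    Nonempty (Coh.HH X (Coh.structureModule X) n ≃+ Coh.HH Y (Coh.structureModule Y) n) := by
  have h1 := h.isIso_unit
  obtain ⟨e⟩ := CohqA.LerayBasis.nonempty_equiv f.base {V | IsAffineOpen V}
    Y.isBasis_affineOpens (Coh.toAb (Coh.structureModule X)) (fun V hV q hq => by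
      obtain ⟨q, rfl⟩ := Nat.exists_eq_add_of_le' hq
      exact (HU_iff_HHon (Coh.structureModule X) (f ⁻¹ᵁ V) (q + 1)).mpr (h.van V hV q)) n
  have e1 : Coh.HH X (Coh.structureModule X) n ≃+ Coh.HH Y ((Coh.push f).obj (Coh.structureModule X)) n := e
  exact ⟨e1.trans (CurvesA.HHMap.equiv (asIso (ClSub.unitToPush f)) n).symm.toAddEquiv⟩

theorem IsCon.restrict (h : IsCon f) (W : Y.Opens) : IsCon (f ∣_ W) where
  bij V := by
    rw [morphismRestrict_app]
    have h1 : IsIso (f.app (W.ι ''ᵁ V)) := (ConcreteCategory.isIso_iff_bijective _).mpr (h.bij _)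
    have h2 : ∀ (V V' : X.Opens) (e : V = V'), IsIso (X.presheaf.map (eqToHom e).op) := by
      rintro V _ rfl
      infer_instance
    exact (ConcreteCategory.isIso_iff_bijective _).mp (@IsIso.comp_isIso _ _ _ _ _ _ _ h1 (h2 _ _ _))
  van V hV q := by
    have h1 : f ⁻¹ᵁ (W.ι ''ᵁ V) = (f ⁻¹ᵁ W).ι ''ᵁ ((f ∣_ W) ⁻¹ᵁ V) := (image_morphismRestrict_preimage f W V).symm
    rw [← HHon_iff_image (f ⁻¹ᵁ W).ι ((f ∣_ W) ⁻¹ᵁ V) _ h1]
    exact h.van _ (hV.image_of_isOpenImmersion W.ι) q

theorem HHon_iff_open (U : X.Opens) (n : ℕ) :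
    Subsingleton (Coh.HHon X (Coh.structureModule X) U n) ↔
      Subsingleton (Coh.HH U.toScheme (Coh.structureModule U.toScheme) n) :=
  HHon_iff U.ι U (by simp) n

/-- Contractions compose. -/
theorem IsCon.comp {g : Y ⟶ Z} (h : IsCon f) (h' : IsCon g) : IsCon (f ≫ g) where
  bij U := by
    have h1 : (f ≫ g).app U = g.app U ≫ f.app (g ⁻¹ᵁ U) := Scheme.Hom.comp_app _ _ _
    rw [h1]
    exact (h.bij _).comp (h'.bij U)
  van V hV q := by
    have h1 := h'.van V hV q
    rw [HHon_iff_open] at h1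
    obtain ⟨e⟩ := (h.restrict (g ⁻¹ᵁ V)).nonempty_equiv (q + 1)
    change Subsingleton (Coh.HHon X (Coh.structureModule X) (f ⁻¹ᵁ (g ⁻¹ᵁ V)) (q + 1))
    rw [HHon_iff_open]
    exact e.toEquiv.subsingleton

theorem isCon_of_isIso (f : X ⟶ Y) [IsIso f] : IsCon f where
  bij U := (ConcreteCategory.isIso_iff_bijective _).mp inferInstance
  van V hV q := by
    have h1 : IsAffineOpen (f ⁻¹ᵁ V) := hV.preimage f
    rw [HHon_iff_open]
    have h2 : IsAffine (f ⁻¹ᵁ V).toScheme := h1
    have h3 := Ega2.QCohLocal.isQCoh_structureModule (f ⁻¹ᵁ V).toScheme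
    exact CohqA.AffineVanish.HH_subsingleton _ _ (q + 1) (Nat.succ_pos q)

/-- Higher direct images vanish. -/
theorem IsCon.isZero_Rpush (h : IsCon f) [HasInjectiveResolutions X.Modules] (q : ℕ) (hq : 0 < q) :
    IsZero ((Coh.Rpush f q).obj (Coh.structureModule X)) := by
  obtain ⟨q, rfl⟩ := Nat.exists_eq_add_of_le' hq
  rw [Ega4B.RpushCompare.isZero_rpush_iff]
  refine CohqA.HDIZero.isZero_RpushAb f _ (q + 1) {V | IsAffineOpen V} Y.isBasis_affineOpens fun V hV => ?_
  exact (HU_iff_HHon (Coh.structureModule X) (f ⁻¹ᵁ V) (q + 1)).mpr (h.van V hV q)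

section Euler

variable (k : Type u) [Field k] [X.Over (Spec (CommRingCat.of k))] [Y.Over (Spec (CommRingCat.of k))]
  [IsProper (X ↘ Spec (CommRingCat.of k))] [IsProper (Y ↘ Spec (CommRingCat.of k))]

include k in
/-- The Euler characteristic is preserved. -/
theorem IsCon.euler (h : IsCon f) (hf : f ≫ (Y ↘ Spec (CommRingCat.of k)) = X ↘ Spec (CommRingCat.of k)) :
    Curv2.euler k X (Coh.structureModule X) = Curv2.euler k Y (Coh.structureModule Y) := by
  have hinj := Dcoh.DerSch.hasInjectiveResolutions X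
  have hiso := h.isIso_unit
  rw [S1525.result k Y X f hf (Coh.structureModule X) (CurvesB.UnitCoh.isCoh_structureModule X),
    finsum_eq_single _ 0]
  · rw [pow_zero, one_mul]
    have e0 : (Coh.Rpush f 0).obj (Coh.structureModule X) ≅ (Coh.push f).obj (Coh.structureModule X) :=
      (Functor.rightDerivedZeroIsoSelf (Coh.push f)).app _
    have e := (asIso (ClSub.unitToPush f)).trans e0.symm
    unfold Curv2.euler
    refine finsum_congr fun i => ?_
    rw [(Fga.EulerIso.HHequiv k e i).finrank_eq]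
  · intro i hi
    rw [VarietyA.LerayEuler.euler_eq_zero_of_isZero k Y (h.isZero_Rpush i (Nat.pos_of_ne_zero hi)), mul_zero]

theorem IsCon.finrank_zero (h : IsCon f) (hf : f ≫ (Y ↘ Spec (CommRingCat.of k)) = X ↘ Spec (CommRingCat.of k)) :
    Module.finrank k (Coh.HH X (Coh.structureModule X) 0) = Module.finrank k (Coh.HH Y (Coh.structureModule Y) 0) := by
  have hiso := h.isIso_unit
  rw [← VarietyB.ClosedInter.finrank_hZero_push k f hf (Coh.structureModule X),
    (Fga.EulerIso.HHequiv k (asIso (ClSub.unitToPush f)) 0).finrank_eq]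

/-- The genus is preserved. -/
theorem IsCon.genus (h : IsCon f) (hf : f ≫ (Y ↘ Spec (CommRingCat.of k)) = X ↘ Spec (CommRingCat.of k))
    (hdX : topologicalKrullDim X = 1) (hdY : topologicalKrullDim Y = 1) :
    Curv2.genus k X = Curv2.genus k Y := by
  have h1 := h.euler k hf
  rw [CurvesC.CurveCoh.euler_eq k X hdX, CurvesC.CurveCoh.euler_eq k Y hdY, h.finrank_zero k hf] at h1
  have h2 : (Module.finrank k (Coh.HH X (Coh.structureModule X) 1) : ℤ) =
      Module.finrank k (Coh.HH Y (Coh.structureModule Y) 1) := by linarith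
  exact_mod_cast h2

end Euler

end K896.Contr
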