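import Groth.Agent.CurvSt.K896.ConNodal
import Groth.Agent.CurvSt.K896.TailBridge
import Groth.Prelude.Def_StCurv

/-!
# Stabilization of a prestable pointed curve over an algebraically closed field
-/

set_option autoImplicit false
universe u
open CategoryTheory CategoryTheory.Limits AlgebraicGeometry TopologicalSpace IsLocalRing

namespace K896.Stabil

open Groth.Agent Groth.Agent.CurvesC.CompGeom K896.Contract K896.Trans K896.Contr K896.ConNodal

/-- A prestable pointed curve. -/
structure Pre (k : Type u) [Field k] {X : Scheme.{u}} (q : X ⟶ Spec (CommRingCat.of k)) (g n : ℕ)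
    (x : Fin n → X) : Prop where
  proper : IsProper q
  conn : ConnectedSpace X
  dim : topologicalKrullDim X = 1
  nodal : @Curv2.AtWorstNodal k _ X ⟨q⟩
  genus : @Curv2.genus k _ X ⟨q⟩ = g
  inj : Function.Injective x
  closed : ∀ i, IsClosed ({x i} : Set X)
  sm : ∀ i, SmAt q (x i)

section Comp

variable {k : Type u} [Field k] {X : Scheme.{u}} [X.Over (Spec (CommRingCat.of k))]
  [IsProper (X ↘ (Spec (CommRingCat.of k)))]
  {C : Set X} {hC : C ∈ irreducibleComponents (X : Type u)}
  {Y : Scheme.{u}} {c : X ⟶ Y} {b : Spec Γ((IC X C hC).subscheme, ⊤) ⟶ Y} {qY : Y ⟶ Spec (CommRingCat.of k)}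

theorem surjective_c [IsNoetherian X] (h : IsContraction (IC X C hC) (IX' X C hC) c b)
    (hs : Subsingleton (Spec Γ((IC X C hC).subscheme, ⊤))) : Function.Surjective c := by
  intro y
  by_cases hy : y ∈ Set.range b
  · obtain ⟨s, rfl⟩ := hy
    obtain ⟨x, hx⟩ := hC.1.nonempty
    obtain ⟨s', hs'⟩ := apply_mem h hx
    exact ⟨x, by rw [← hs', Subsingleton.elim s' s]⟩
  · exact exists_eq h hy

/-- Contracting a component which meets the rest of the curve decreases the number of components. -/
theorem ncard_lt [IsNoetherian X] [IsNoetherian Y] (h : IsContraction (IC X C hC) (IX' X C hC) c b)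
    (hs : Subsingleton (Spec Γ((IC X C hC).subscheme, ⊤))) (hcl : IsClosedMap c)
    (hne : (C ∩ closure Cᶜ).Nonempty) :
    (irreducibleComponents (Y : Type u)).ncard < (irreducibleComponents (X : Type u)).ncard := by
  have hfin : (irreducibleComponents (X : Type u)).Finite := NoetherianSpace.finite_irreducibleComponents
  have hsub : irreducibleComponents (Y : Type u) ⊆ (fun Z : Set X => c '' Z) '' (irreducibleComponents (X : Type u) \ {C}) := by
    intro D hD
    have key : ∀ Z ∈ irreducibleComponents (X : Type u), D ⊆ c '' Z → D = c '' Z := fun Z hZ hle =>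
      hle.antisymm (hD.2 (hZ.1.image c c.continuous.continuousOn) hle)
    obtain ⟨η, hη⟩ := QuasiSober.sober hD.1 (isClosed_of_mem_irreducibleComponents D hD)
    obtain ⟨x, hx⟩ := surjective_c h hs η
    have h1 : ∀ Z ∈ irreducibleComponents (X : Type u), η ∈ c '' Z → D ⊆ c '' Z := by
      intro Z hZ hηZ v hv
      exact (hη.specializes hv).mem_closed (hcl _ (isClosed_of_mem_irreducibleComponents Z hZ)) hηZ
    by_cases hxC : x ∈ C
    · obtain ⟨p, hp, hp'⟩ := hne
      obtain ⟨E, hE, hEC, hpE⟩ := (CompMeet.mem_closure_compl_iff hC p).mp hp'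
      refine ⟨E, ⟨hE, hEC⟩, (key E hE (h1 E hE ?_)).symm⟩
      refine ⟨p, hpE, ?_⟩
      rw [← hx]
      exact subsingleton_image h hs ⟨p, hp, rfl⟩ ⟨x, hxC, rfl⟩
    · refine ⟨irreducibleComponent x, ⟨irreducibleComponent_mem_irreducibleComponents x, ?_⟩,
        (key _ (irreducibleComponent_mem_irreducibleComponents x) (h1 _
          (irreducibleComponent_mem_irreducibleComponents x) ⟨x, mem_irreducibleComponent, hx⟩)).symm⟩
      intro h2
      apply hxC
      rw [Set.mem_singleton_iff] at h2
      rw [← h2]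
      exact mem_irreducibleComponent
  calc (irreducibleComponents (Y : Type u)).ncard
      ≤ ((fun Z : Set X => c '' Z) '' (irreducibleComponents (X : Type u) \ {C})).ncard :=
        Set.ncard_le_ncard hsub ((hfin.subset Set.sdiff_subset).image _)
    _ ≤ (irreducibleComponents (X : Type u) \ {C}).ncard := Set.ncard_image_le (hfin.subset Set.sdiff_subset)
    _ < (irreducibleComponents (X : Type u)).ncard := Set.ncard_sdiff_singleton_lt_of_mem hC hfin

end Comp

section Step

variable (k : Type u) [Field k] [IsAlgClosed k]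

theorem henc {X : Scheme.{u}} [IsNoetherian X] (hdim : topologicalKrullDim X = 1) (C : Set X)
    (hC : C ∈ irreducibleComponents (X : Type u)) :
    (CurvSt.meetPts X C).encard = ((C ∩ closure Cᶜ).ncard : ℕ∞) := by
  rw [CompMeet.meetPts_eq hC]
  exact ((Groth.Agent.CurvesC.TailGeom.finite_inter hdim.le hC).1.cast_ncard_eq).symm

theorem nonempty_inter {X : Scheme.{u}} [IsNoetherian X] [ConnectedSpace X] (C : Set X)
    (hC : C ∈ irreducibleComponents (X : Type u)) (hne : C ≠ Set.univ) : (C ∩ closure Cᶜ).Nonempty := by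
  obtain ⟨x⟩ := nonempty_T X C hC hne
  exact ⟨_, mem_inter X C hC x⟩

/-- One contraction step. -/
theorem step {X : Scheme.{u}} (q : X ⟶ Spec (CommRingCat.of k)) (g n : ℕ) (x : Fin n → X) (h : Pre k q g n x)
    (hgn : 3 ≤ 2 * g + n) (E : Set X) (hE : CurvSt.IsSmRatComp k X q E)
    (hlt : (CurvSt.meetPts X E).encard + (Nat.card {i : Fin n // x i ∈ E} : ℕ∞) < 3) :
    ∃ (Y : Scheme.{u}) (qY : Y ⟶ Spec (CommRingCat.of k)) (c : X ⟶ Y), c ≫ qY = q ∧
      Pre k qY g n (fun i => c (x i)) ∧ IsCon c ∧
      (irreducibleComponents (Y : Type u)).ncard < (irreducibleComponents (X : Type u)).ncard := by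
  let _ : X.Over (Spec (CommRingCat.of k)) := ⟨q⟩
  have hP : IsProper (X ↘ (Spec (CommRingCat.of k))) := h.proper
  have hconn := h.conn
  have hdim := h.dim
  have hX : Curv2.AtWorstNodal k X := h.nodal
  have hR : IsReduced X := Groth.Agent.CurvesC.GenusOne512.isReduced_of_atWorstNodal k X hX
  have hN : IsNoetherian X := Groth.Agent.CurvesC.CurveCoh.noetherianSpace k X
  have hC := hE.1
  rw [henc hdim E hC] at hlt
  have hlt' : (E ∩ closure Eᶜ).ncard + Nat.card {i : Fin n // x i ∈ E} < 3 := by exact_mod_cast hlt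
  have hfin := (Groth.Agent.CurvesC.TailGeom.finite_inter hdim.le hC).1
  have hne : E ≠ Set.univ := by
    intro hu
    have h5 := Groth.Agent.CurvesC.NodalPos2.finrank_quot_univ k X E hE.1 hu 1
    let _ := Groth.Agent.CurvesC.TailNum.subOver k X (IC X E hE.1)
    have h6 := TailBridge.h1_of_isSmRatComp k X E hE
    have h7 := Groth.Agent.CurvesC.TailNum.finrank_quotMod k X (IC X E hE.1) 1
    have h8 : Module.finrank k (Coh.HH (IC X E hE.1).subscheme
        (Coh.structureModule (IC X E hE.1).subscheme) 1) = 0 :=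
      Module.finrank_zero_of_subsingleton
    have h9 : Curv2.genus k X = 0 := h5.symm.trans (h7.symm.trans h8)
    have h10 : Curv2.genus k X = g := h.genus
    have h11 : Nat.card {i : Fin n // x i ∈ E} = n := by
      rw [hu]
      have e : {i : Fin n // x i ∈ (Set.univ : Set X)} ≃ Fin n := Equiv.subtypeUnivEquiv fun i => Set.mem_univ _
      rw [Nat.card_congr e, Nat.card_eq_fintype_card, Fintype.card_fin]
    omega
  have hne' := nonempty_inter E hC hne
  have hM : 0 < (E ∩ closure Eᶜ).ncard := (Set.ncard_pos hfin).mpr hne'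
  have htb : Curv2.IsRationalTail X E hC ∨ Curv2.IsRationalBridge k X E hC := by
    rcases (show (E ∩ closure Eᶜ).ncard = 1 ∨ (E ∩ closure Eᶜ).ncard = 2 by omega) with h1 | h1
    · exact Or.inl (TailBridge.isRationalTail_of_ncard k X E hdim hX hE hne h1)
    · exact Or.inr (TailBridge.isRationalBridge_of_ncard k X E hdim hX hE hne h1)
  obtain ⟨Y, qY, c, b, hq, hPY, hcon, hcon', hdY, hnY, -, htail⟩ := exists_main k (hC := hC) hdim hX htb
  have hs := CompG.subsingleton_specΓ k X E hC
  have hIJ := CompG.inf_eq_bot k X E hC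
  have hcP : IsProper c := by
    have : IsProper (c ≫ qY) := by rw [hq]; exact hP
    exact IsProper.of_comp c qY
  have hcl : IsClosedMap c := c.isClosedMap
  let _ : Y.Over (Spec (CommRingCat.of k)) := ⟨qY⟩
  have hPY' : IsProper (Y ↘ (Spec (CommRingCat.of k))) := hPY
  have hNY : IsNoetherian Y := Groth.Agent.CurvesC.CurveCoh.noetherianSpace k Y
  have hsurj := surjective_c hcon hs
  refine ⟨Y, qY, c, hq, ⟨hPY, ?_, hdY, hnY, ?_, ?_, ?_, ?_⟩, hcon', ncard_lt hcon hs hcl hne'⟩
  · exact hsurj.connectedSpace c.continuous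
  · exact (hcon'.genus k hq hdim hdY).symm.trans h.genus
  · intro i j hij
    by_cases hi : c (x i) ∈ Set.range b
    · have h1 := mem_of_apply hcon hi
      have h2 : x j ∈ E := mem_of_apply hcon (by
        have : c (x i) = c (x j) := hij
        rwa [← this])
      have h3 : Nat.card {i : Fin n // x i ∈ E} ≤ 1 := by omega
      have h4 := Finite.card_le_one_iff_subsingleton.mp h3
      exact congrArg Subtype.val (Subsingleton.elim (⟨i, h1⟩ : {i : Fin n // x i ∈ E}) ⟨j, h2⟩)
    · exact h.inj (injective_off hIJ hcon hi hij.symm).symm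
  · intro i
    have h1 := hcl _ (h.closed i)
    rwa [Set.image_singleton] at h1
  · intro i
    by_cases hi : c (x i) ∈ Set.range b
    · have h1 := mem_of_apply hcon hi
      have h2 : 0 < Nat.card {i : Fin n // x i ∈ E} := by
        have : Nonempty {i : Fin n // x i ∈ E} := ⟨⟨i, h1⟩⟩
        exact Nat.card_pos
      have h3 : (E ∩ closure Eᶜ).ncard = 1 := by omega
      obtain ⟨s, hs'⟩ := hi
      have h4 := htail (TailBridge.isRationalTail_of_ncard k X E hdim hX hE hne h3) s
      rwa [hs'] at h4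
    · exact (good_off k hIJ hcon hq (x i) hi).1.mp (h.sm i)

/-- **Stabilization.** -/
theorem main {X : Scheme.{u}} (q : X ⟶ Spec (CommRingCat.of k)) (g n : ℕ) (x : Fin n → X) (h : Pre k q g n x)
    (hgn : 3 ≤ 2 * g + n) : ∃ (Y : Scheme.{u}) (qY : Y ⟶ Spec (CommRingCat.of k)) (c : X ⟶ Y), c ≫ qY = q ∧
      CurvSt.IsStablePtd k Y qY g (fun i => c.base (x i)) ∧ IsCon c := by
  obtain ⟨N, hN⟩ : ∃ N, (irreducibleComponents (X : Type u)).ncard ≤ N := ⟨_, le_rfl⟩
  induction N generalizing X with
  | zero =>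
    exfalso
    let _ : X.Over (Spec (CommRingCat.of k)) := ⟨q⟩
    have hP : IsProper (X ↘ (Spec (CommRingCat.of k))) := h.proper
    have hNX : IsNoetherian X := Groth.Agent.CurvesC.CurveCoh.noetherianSpace k X
    have hconn := h.conn
    have hfin : (irreducibleComponents (X : Type u)).Finite := NoetherianSpace.finite_irreducibleComponents
    have h1 : irreducibleComponents (X : Type u) = ∅ := (Set.ncard_eq_zero hfin).mp (by omega)
    obtain ⟨y⟩ := (inferInstance : Nonempty X)
    have h2 := irreducibleComponent_mem_irreducibleComponents y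
    rw [h1] at h2
    exact h2
  | succ N ih =>
    by_cases hst : ∀ E : Set X, CurvSt.IsSmRatComp k X q E →
        (3 : ℕ∞) ≤ (CurvSt.meetPts X E).encard + (Nat.card {i : Fin n // x i ∈ E} : ℕ∞)
    · exact ⟨X, q, 𝟙 X, Category.id_comp _, ⟨h.proper, h.conn, h.dim, ⟨h.nodal, h.genus⟩, h.inj,
        fun i => ⟨h.closed i, h.sm i⟩, hst, hgn⟩, isCon_of_isIso _⟩
    · push Not at hst
      obtain ⟨E, hE, hlt⟩ := hst
      obtain ⟨Y, qY, c, hq, hpre, hcon, hcard⟩ := step k q g n x h hgn E hE hlt
      obtain ⟨Z, qZ, c', hq', hst', hcon'⟩ := ih qY (fun i => c (x i)) hpre (by omega)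
      refine ⟨Z, qZ, c ≫ c', by rw [Category.assoc, hq', hq], ?_, hcon.comp hcon'⟩
      exact hst'

end Step

end K896.Stabil
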