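import Groth.Agent.AlgSt.K737.Chart
import Groth.Agent.AlgSt.K736.QC
import Groth.Agent.CurvSt.K902.SelfChart
import Groth.Agent.S14401
import Groth.Agent.S0558
import Groth.Agent.Dual.H375.LciLocus

/-!
# Smooth connected algebraic stacks over a field are irreducible

* `isOpen_closure` : closures of open subsets are open in the quotient of a locally irreducible space by an open map.
* `irreducibleSpace_points` : the space of points of a smooth algebraic stack over a field is irreducible if it is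
  connected and non-empty.
-/

set_option autoImplicit false

universe v₂ u₂ u

open CategoryTheory CategoryTheory.Limits AlgebraicGeometry Opposite AlgSp

namespace K896.IrrTop

section top

variable {X Y : Type*} [TopologicalSpace X] [TopologicalSpace Y]

theorem isOpen_closure_of_locIrr (hY : ∀ y : Y, ∃ N : Set Y, IsOpen N ∧ y ∈ N ∧ IsPreirreducible N) (W : Set Y)
    (hW : IsOpen W) : IsOpen (closure W) := by
  rw [isOpen_iff_forall_mem_open]
  intro y hy
  obtain ⟨N, hN, hyN, hirr⟩ := hY y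
  refine ⟨N, ?_, hN, hyN⟩
  intro z hz
  rw [mem_closure_iff]
  intro O hO hzO
  obtain ⟨w, hwN, hwW⟩ := mem_closure_iff.1 hy N hN hyN
  obtain ⟨v, -, hv1, hv2⟩ := hirr O W hO hW ⟨z, hz, hzO⟩ ⟨w, hwN, hwW⟩
  exact ⟨v, hv1, hv2⟩

theorem isOpen_closure (p : Y → X) (hc : Continuous p) (ho : IsOpenMap p) (hs : Function.Surjective p)
    (hY : ∀ y : Y, ∃ N : Set Y, IsOpen N ∧ y ∈ N ∧ IsPreirreducible N) (V : Set X) (hV : IsOpen V) :
    IsOpen (closure V) := by
  have h1 : p ⁻¹' closure V = closure (p ⁻¹' V) := ho.preimage_closure_eq_closure_preimage hc V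
  have h2 : IsOpen (p ⁻¹' closure V) := by
    rw [h1]
    exact isOpen_closure_of_locIrr hY _ (hV.preimage hc)
  rw [← Set.image_preimage_eq (closure V) hs]
  exact ho _ h2

/-- Connected and closures of opens are open: every two nonempty opens meet. -/
theorem preirreducibleSpace_of (h : ∀ V : Set X, IsOpen V → IsOpen (closure V)) [PreconnectedSpace X] :
    PreirreducibleSpace X := by
  refine ⟨fun V W hV hW hV1 hW1 => ?_⟩
  obtain ⟨v, -, hv⟩ := hV1
  obtain ⟨w, -, hw⟩ := hW1
  have h2 : IsClopen (closure V) := ⟨isClosed_closure, h V hV⟩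
  have h1 : closure V = Set.univ := h2.eq_univ ⟨v, subset_closure hv⟩
  have h3 : w ∈ closure V := by rw [h1]; trivial
  obtain ⟨z, hz1, hz2⟩ := mem_closure_iff.1 h3 W hW hw
  exact ⟨z, trivial, hz2, hz1⟩

end top

section sch

/-- Schemes with integral local rings are locally irreducible. -/
theorem exists_irr_nhd {X : Scheme.{u}} [IsLocallyNoetherian X] (h : ∀ x : X, IsDomain (X.presheaf.stalk x)) (x : X) :
    ∃ N : Set X, IsOpen N ∧ x ∈ N ∧ IsPreirreducible N := by
  obtain ⟨U, hU, hx, -⟩ := exists_isAffineOpen_mem_and_subset (show x ∈ (⊤ : X.Opens) from trivial)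
  have : IsAffine U := hU
  have hN : IsNoetherian U.toScheme := { }
  have hst : ∀ y : U, IsDomain (U.toScheme.presheaf.stalk y) := fun y => by
    have := h (U.ι y)
    exact MulEquiv.isDomain _ (asIso (U.ι.stalkMap y)).commRingCatIsoToRingEquiv.symm.toMulEquiv
  obtain ⟨h1, h2⟩ := Groth.Agent.S14401.result U.toScheme hst
  obtain ⟨Z, ⟨hZ, hxZ⟩, -⟩ := h2 ⟨x, hx⟩
  refine ⟨U.ι '' Z, U.ι.isOpenEmbedding.isOpenMap _ (h1 Z hZ), ⟨⟨x, hx⟩, hxZ, rfl⟩, ?_⟩
  exact (hZ.1.image _ U.ι.continuous.continuousOn).isPreirreducible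

theorem isDomain_stalk_of_smooth {k : Type u} [Field k] {X : Scheme.{u}} (f : X ⟶ Spec (CommRingCat.of k)) [Smooth f]
    (x : X) : IsDomain (X.presheaf.stalk x) := by
  have := Groth.Agent.Dual.H375.LciLocus.isRegular_of_smooth (R := CommRingCat.of k) (Field.toIsField k) f x
  exact Groth.Agent.S0558.result _

end sch

variable {S : Scheme.{u}}

/-- A smooth stack over `S` has a smooth surjective chart `U` smooth over `S`. -/
theorem exists_atlas_smooth {𝒳 : BasedCategory.{v₂, u₂} (Over S)}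
    (h : AlgSt.LocQ (LocP @Smooth) (FibCat.toSelf 𝒳)) :
    ∃ (U : Over S) (x : FibCat.overCat U ⥤ᵇ 𝒳), AlgSt.RepByAlgSpWith (LocP @Smooth) x ∧
      AlgSt.RepByAlgSpWith IsSurjectiveMor x ∧ Smooth U.hom := by
  obtain ⟨U, V, x, y, g, -, hx, hxs, hy, hP⟩ := h
  have h1 : Smooth g.left := AlgSp.locP_yon_map hP
  have h2 : Smooth V.hom := K902.SelfChart.smooth_of_repByAlgSpWith hy
  refine ⟨U, x, hx, hxs, ?_⟩
  rw [← Over.w g]
  infer_instance

section pts

variable {k : Type u} [Field k] {𝒳 : BasedCategory.{v₂, u₂} (Over (Spec (CommRingCat.of k)))}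

theorem isOpen_closure_points {K : Precoverage Scheme.{u}} (h𝒳 : AlgSt.IsAlgStack K 𝒳)
    (hsm : AlgSt.LocQ (LocP @Smooth) (FibCat.toSelf 𝒳)) (V : Set (AlgSt.Points 𝒳)) (hV : IsOpen V) :
    IsOpen (closure V) := by
  obtain ⟨U, x, hx, hxs, hU⟩ := exists_atlas_smooth hsm
  have hN : IsLocallyNoetherian U.left := LocallyOfFiniteType.isLocallyNoetherian U.hom
  exact isOpen_closure (AlgSt.Points.ofChart x) (K736.QC.continuous_ofChart h𝒳 x) (K736.QC.isOpenMap_ofChart h𝒳 hx)
    (K736.QC.surjective_ofChart h𝒳 hxs) (exists_irr_nhd fun y => isDomain_stalk_of_smooth U.hom y) V hV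

/-- **Smooth, connected and non-empty algebraic stacks over a field are irreducible.** -/
theorem irreducibleSpace_points {K : Precoverage Scheme.{u}} (h𝒳 : AlgSt.IsAlgStack K 𝒳)
    (hsm : AlgSt.LocQ (LocP @Smooth) (FibCat.toSelf 𝒳)) (hc : PreconnectedSpace (AlgSt.Points 𝒳))
    (hne : Nonempty (AlgSt.Points 𝒳)) : IrreducibleSpace (AlgSt.Points 𝒳) := by
  have := preirreducibleSpace_of (isOpen_closure_points h𝒳 hsm)
  exact ⟨hne⟩

end pts

end K896.IrrTop
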