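import Groth.Agent.CurvSt.K902.FamLift
import Groth.Agent.CurvSt.K898.StabFam
import Groth.Agent.CurvSt.K901.SchPre
import Groth.Agent.ProjDual.K273.RegPt
import Groth.Agent.VarietyA.SmoothReg
import Groth.Agent.VarietyA.SmoothLocusSch
import Groth.Agent.AlgSp.K619.Singleton
import Groth.Agent.CurvSt.K902.CurveCover
import Groth.Agent.CurvSt.K899.NodalFib
import Groth.Agent.Synt.K563.NodFwd

/-!
# Lifting stable pointed families along first order thickenings

* `isStableFam_of_isPullback` : stable families are stable under base change.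
* `isStableFam_of_thick` : stability can be checked after restriction to a thickening of an affine scheme.
* `exists_lift_stable` : a stable pointed family whose underlying family of curves is projective lifts along
  `Spec (A/I) ⟶ Spec A`, `I ^ 2 = 0`, `A` local.
-/

set_option autoImplicit false

universe u

open CategoryTheory CategoryTheory.Limits AlgebraicGeometry Opposite IsLocalRing CurvSt

namespace K896.MbarFam

open K902.CurveLift K902.LiftGlue K902.FamLift K901.Loci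

variable {n g : ℕ}

/-- Marked points only depend on the geometric fibre. -/
theorem markedPt_congr {C T C' T' : Scheme.{u}} {f : C ⟶ T} {f' : C' ⟶ T'} {σ : Fin n → (T ⟶ C)}
    (hσ : ∀ i, σ i ≫ f = 𝟙 T) {σ' : Fin n → (T' ⟶ C')} (hσ' : ∀ i, σ' i ≫ f' = 𝟙 T') {Ω : Type u} [Field Ω]
    {t : Spec (CommRingCat.of Ω) ⟶ T} {t' : Spec (CommRingCat.of Ω) ⟶ T'} {X : Scheme.{u}} {i : X ⟶ C}
    {q : X ⟶ Spec (CommRingCat.of Ω)} (hP : IsPullback i q f t) {i' : X ⟶ C'} (hP' : IsPullback i' q f' t')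
    (a : C ⟶ C') (ha : i ≫ a = i') (j : Fin n) (hj : t ≫ σ j ≫ a = t' ≫ σ' j) :
    markedPt σ hσ hP j = markedPt σ' hσ' hP' j := by
  have h : hP.lift (t ≫ σ j) (𝟙 _) (by rw [Category.assoc, hσ, Category.comp_id, Category.id_comp]) =
      hP'.lift (t' ≫ σ' j) (𝟙 _) (by rw [Category.assoc, hσ', Category.comp_id, Category.id_comp]) := by
    apply hP'.hom_ext
    · rw [IsPullback.lift_fst, ← ha, IsPullback.lift_fst_assoc, Category.assoc, hj]
    · rw [IsPullback.lift_snd, IsPullback.lift_snd]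
  exact congrArg (fun l : Spec (CommRingCat.of Ω) ⟶ X => l.base (IsLocalRing.closedPoint Ω)) h

theorem markedPt_congr_fun {C T C' T' : Scheme.{u}} {f : C ⟶ T} {f' : C' ⟶ T'} {σ : Fin n → (T ⟶ C)}
    (hσ : ∀ i, σ i ≫ f = 𝟙 T) {σ' : Fin n → (T' ⟶ C')} (hσ' : ∀ i, σ' i ≫ f' = 𝟙 T') {Ω : Type u} [Field Ω]
    {t : Spec (CommRingCat.of Ω) ⟶ T} {t' : Spec (CommRingCat.of Ω) ⟶ T'} {X : Scheme.{u}} {i : X ⟶ C}
    {q : X ⟶ Spec (CommRingCat.of Ω)} (hP : IsPullback i q f t) {i' : X ⟶ C'} (hP' : IsPullback i' q f' t')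
    (a : C ⟶ C') (ha : i ≫ a = i') (hj : ∀ j, t ≫ σ j ≫ a = t' ≫ σ' j) :
    markedPt σ hσ hP = markedPt σ' hσ' hP' :=
  funext fun j => markedPt_congr hσ hσ' hP hP' a ha j (hj j)

/-- Stable families are stable under base change. -/
theorem isStableFam_of_isPullback {C T C' T' : Scheme.{u}} {f : C ⟶ T} {f' : C' ⟶ T'} {σ : Fin n → (T ⟶ C)}
    {hσ : ∀ i, σ i ≫ f = 𝟙 T} {σ' : Fin n → (T' ⟶ C')} (hσ' : ∀ i, σ' i ≫ f' = 𝟙 T') (h : IsStableFam f σ hσ g)
    {a : C' ⟶ C} {b : T' ⟶ T} (sq : IsPullback a f' f b) (hs : ∀ i, σ' i ≫ a = b ≫ σ i) :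
    IsStableFam f' σ' hσ' g := by
  obtain ⟨h1, h2, h3, h4⟩ := h
  refine ⟨MorphismProperty.of_isPullback sq h1, MorphismProperty.of_isPullback sq h2,
    MorphismProperty.of_isPullback sq h3, fun Ω _ _ t X i q hP => ?_⟩
  have hP' : IsPullback (i ≫ a) q f (t ≫ b) := hP.paste_horiz sq
  have := h4 Ω (t ≫ b) X (i ≫ a) q hP'
  rwa [markedPt_congr_fun hσ' hσ hP hP' a rfl fun j => by rw [hs, Category.assoc]]

/-- Geometric points of `Spec A` come from `Spec (A/I)` if `I ^ 2 = 0`. -/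
theorem exists_fac {A : Type u} [CommRing A] (I : Ideal A) (hI : I ^ 2 = ⊥) {Ω : Type u} [Field Ω]
    (t : Spec (CommRingCat.of Ω) ⟶ Spec (CommRingCat.of A)) :
    ∃ t₀ : Spec (CommRingCat.of Ω) ⟶ Spec (CommRingCat.of (A ⧸ I)),
      t₀ ≫ Spec.map (CommRingCat.ofHom (Ideal.Quotient.mk I)) = t := by
  obtain ⟨φ, rfl⟩ := Spec.map_surjective t
  have hφ : ∀ a ∈ I, φ.hom a = 0 := by
    intro a ha
    have h1 : a ^ 2 ∈ I ^ 2 := Ideal.pow_mem_pow ha 2
    rw [hI, Ideal.mem_bot] at h1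
    have h2 : (φ.hom a) ^ 2 = 0 := by rw [← map_pow, h1, map_zero]
    exact pow_eq_zero_iff (two_ne_zero) |>.1 h2
  refine ⟨Spec.map (CommRingCat.ofHom (Ideal.Quotient.lift I φ.hom hφ)), ?_⟩
  rw [← Spec.map_comp]
  congr 1

/-- Stability can be checked on a thickening. -/
theorem isStableFam_of_thick {A : Type u} [CommRing A] (I : Ideal A) (hI : I ^ 2 = ⊥) {X X₀ : Scheme.{u}}
    {f : X ⟶ Spec (CommRingCat.of A)} {f₀ : X₀ ⟶ Spec (CommRingCat.of (A ⧸ I))} {j : X₀ ⟶ X}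
    (sq : IsPullback j f₀ f (Spec.map (CommRingCat.ofHom (Ideal.Quotient.mk I))))
    {σ₀ : Fin n → (Spec (CommRingCat.of (A ⧸ I)) ⟶ X₀)} {hσ₀ : ∀ i, σ₀ i ≫ f₀ = 𝟙 _}
    {σ : Fin n → (Spec (CommRingCat.of A) ⟶ X)} (hσ : ∀ i, σ i ≫ f = 𝟙 _)
    (hs : ∀ i, σ₀ i ≫ j = Spec.map (CommRingCat.ofHom (Ideal.Quotient.mk I)) ≫ σ i)
    (h : IsStableFam f₀ σ₀ hσ₀ g) [h1 : Flat f] [h2 : IsProper f] [h3 : LocallyOfFinitePresentation f] :
    IsStableFam f σ hσ g := by
  refine ⟨h1, h2, h3, fun Ω _ _ t X' i q hP => ?_⟩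
  obtain ⟨t₀, rfl⟩ := exists_fac I hI t
  let i₀ : X' ⟶ X₀ := sq.lift i (q ≫ t₀) (by rw [Category.assoc, hP.w])
  have hi1 : i₀ ≫ j = i := sq.lift_fst _ _ _
  have hi2 : i₀ ≫ f₀ = q ≫ t₀ := sq.lift_snd _ _ _
  have hP₀ : IsPullback i₀ q f₀ t₀ := by
    refine IsPullback.of_right ?_ hi2 sq
    rw [hi1]
    exact hP
  have := h.2.2.2 Ω t₀ X' i₀ q hP₀
  rwa [markedPt_congr_fun hσ₀ hσ hP₀ hP j hi1 fun k => by rw [hs, Category.assoc]] at this

/-- The sections of a stable family lie in the smooth locus. -/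
theorem smoothAt_section {C T : Scheme.{u}} {f : C ⟶ T} {σ : Fin n → (T ⟶ C)} {hσ : ∀ i, σ i ≫ f = 𝟙 T}
    (h : IsStableFam f σ hσ g) (j : Fin n) (s : T) : SmoothAt f (σ j s) := by
  obtain ⟨h1, h2, h3, h4⟩ := h
  obtain ⟨Ω, _, _, t, rfl⟩ := K898.StabFam.exists_geometric_point T s
  have hP := IsPullback.of_hasPullback f t
  obtain ⟨-, -, -, -, -, h5, -⟩ := h4 Ω t _ _ _ hP
  have h6 := (h5 j).2
  have h7 : SmoothAt (pullback.snd f t) (markedPt σ hσ hP j) := h6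
  rw [locusProp_smooth.baseChange f _ _ t hP, K901.SchPre.apply_markedPt] at h7
  exact h7

theorem section_mem_smoothLocus {C T : Scheme.{u}} {f : C ⟶ T} [LocallyOfFinitePresentation f]
    {σ : Fin n → (T ⟶ C)} {hσ : ∀ i, σ i ≫ f = 𝟙 T}
    (h : IsStableFam f σ hσ g) (j : Fin n) (s : T) : σ j s ∈ f.smoothLocus :=
  (K903.NonsmoothFin.mem_smoothLocus_iff_exists f _).2 (smoothAt_section h j s)

/-- A reduced curve over an algebraically closed field has finitely many non-smooth points. -/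
theorem finite_nonsmooth {k : Type u} [Field k] [IsAlgClosed k] {X : Scheme.{u}} (q : X ⟶ Spec (CommRingCat.of k))
    [LocallyOfFiniteType q] [QuasiCompact q] [IsReduced X] (hd : topologicalKrullDim X ≤ 1) :
    {x : X | ¬ SmoothAt q x}.Finite := by
  have h1 : IsLocallyNoetherian X := LocallyOfFiniteType.isLocallyNoetherian q
  have h2 : CompactSpace X := QuasiCompact.compactSpace_of_compactSpace q
  have h3 : IsNoetherian X := { }
  have hfp : LocallyOfFinitePresentation q := inferInstance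
  have h4 : {x : X | ¬ SmoothAt q x} = (q.smoothLocus : Set X)ᶜ := by
    ext x
    simp only [Set.mem_ofPred_eq, Set.mem_compl_iff]
    exact not_congr (K903.NonsmoothFin.mem_smoothLocus_iff_exists q x).symm
  rw [h4]
  refine K902.CurveCover.finite_of_isClosed hd _ q.smoothLocus.2.isClosed_compl fun c hc hcl => hc ?_
  have h5 := Groth.Agent.VarietyA.SmoothReg.mem_smoothLocus_iff_of_perfectField q c
  refine h5.2 ?_
  exact K619.Singleton.isRegularLocalRing_of_isField (K273.RegPt.isField_stalk c hcl inferInstance)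

theorem nsFin_of_geoGenus {C T : Scheme.{u}} {f : C ⟶ T} (h : K898.StabFam.GeoGenus g f) [IsProper f] : NsFin f := by
  intro Ω _ _ t Y i p hp
  obtain ⟨h1, h2, h3, -⟩ := h Ω t Y i p hp
  have h4 : IsProper p := MorphismProperty.of_isPullback hp inferInstance
  have h5 : IsReduced Y := K898.StabFam.isReduced p h3
  exact finite_nonsmooth p h2.le

/-- **Lifting of stable pointed families.** -/
theorem exists_lift_stable (H : SynLift.{u}) {C V : Scheme.{u}} (q : C ⟶ V) (σ : Fin n → (V ⟶ C))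
    (hσ : ∀ i, σ i ≫ q = 𝟙 V) (h : IsStableFam q σ hσ g) (hproj : RelProj.IsHProjective q) {A : Type u} [CommRing A]
    [IsLocalRing A] (I : Ideal A) [IsLocalRing (A ⧸ I)] (hI : I ^ 2 = ⊥) (g₀ : Spec (CommRingCat.of (A ⧸ I)) ⟶ V) :
    ∃ (X : Scheme.{u}) (f : X ⟶ Spec (CommRingCat.of A)) (τ : Fin n → (Spec (CommRingCat.of A) ⟶ X))
      (hτ : ∀ i, τ i ≫ f = 𝟙 _) (j : pullback q g₀ ⟶ X),
      IsPullback j (pullback.snd q g₀) f (Spec.map (CommRingCat.ofHom (Ideal.Quotient.mk I))) ∧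
      IsStableFam f τ hτ g ∧ ∀ i, pullback.lift (g₀ ≫ σ i) (𝟙 _) (by rw [Category.assoc, hσ, Category.comp_id,
        Category.id_comp]) ≫ j = Spec.map (CommRingCat.ofHom (Ideal.Quotient.mk I)) ≫ τ i := by
  have i1 : Flat q := h.1
  have i2 : IsProper q := h.2.1
  have i3 : LocallyOfFinitePresentation q := h.2.2.1
  have hG := K898.StabFam.geoGenus_of_isStableFam h
  have hN := K898.StabFam.isNodalFamily q hG
  have hdim := K899.NodalFib.fibreDimAt_le q fun s => (hN.2.2 s).1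
  have hlci : ∀ x, Synt.IsKoszulAt q x :=
    ((Groth.Agent.S9758.result q).2 (K563.NodFwd.isSyntomicMor_of_isNodalFamily q hN)).2
  obtain ⟨X, f, j, sq, hf1, hf2, hf3, -⟩ := exists_lift_fam H q hproj hdim hlci (nsFin_of_geoGenus hG) I hI g₀
  have hpb := IsPullback.of_hasPullback q g₀
  let σ₀ : Fin n → (Spec (CommRingCat.of (A ⧸ I)) ⟶ pullback q g₀) := fun i =>
    pullback.lift (g₀ ≫ σ i) (𝟙 _) (by rw [Category.assoc, hσ, Category.comp_id, Category.id_comp])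
  have hσ₀ : ∀ i, σ₀ i ≫ pullback.snd q g₀ = 𝟙 _ := fun i => pullback.lift_snd _ _ _
  have hσ₀' : ∀ i, σ₀ i ≫ pullback.fst q g₀ = g₀ ≫ σ i := fun i => pullback.lift_fst _ _ _
  have hst : IsStableFam (pullback.snd q g₀) σ₀ hσ₀ g := isStableFam_of_isPullback hσ₀ h hpb hσ₀'
  -- the smooth locus of the lift
  have hsm : ∀ i, ∃ l : Spec (CommRingCat.of A) ⟶ X, Spec.map (CommRingCat.ofHom (Ideal.Quotient.mk I)) ≫ l =
      σ₀ i ≫ j ∧ l ≫ f = 𝟙 _ := by
    intro i
    have hW : Smooth (f.smoothLocus.ι ≫ f) := Groth.Agent.VarietyA.SmoothLocusSch.smooth_smoothLocus_ι f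
    have hr : Set.range (σ₀ i ≫ j) ⊆ Set.range f.smoothLocus.ι := by
      rintro _ ⟨s, rfl⟩
      rw [Scheme.Opens.range_ι, Scheme.Hom.comp_apply]
      refine (K903.NonsmoothFin.mem_smoothLocus_iff_exists f _).2 ?_
      exact (locusProp_smooth.baseChange f _ _ _ sq (σ₀ i s)).1 (smoothAt_section hst i s)
    let a := IsOpenImmersion.lift f.smoothLocus.ι (σ₀ i ≫ j) hr
    have ha : a ≫ f.smoothLocus.ι = σ₀ i ≫ j := IsOpenImmersion.lift_fac _ _ _
    obtain ⟨l, hl1, hl2⟩ := exists_lift_smooth (f.smoothLocus.ι ≫ f) _ (isFirstOrderThickening_mk I hI) a (𝟙 _) (by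
      rw [Category.comp_id, ← Category.assoc, ha, Category.assoc, sq.w, ← Category.assoc, hσ₀, Category.id_comp])
    refine ⟨l ≫ f.smoothLocus.ι, ?_, ?_⟩
    · rw [← Category.assoc, hl1, ha]
    · rw [Category.assoc, hl2]
  choose τ hτ1 hτ2 using hsm
  exact ⟨X, f, τ, hτ2, j, sq, isStableFam_of_thick I hI sq hτ2 (fun i => (hτ1 i).symm) hst, fun i => (hτ1 i).symm⟩

end K896.MbarFam
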