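import Groth.Agent.CurvSt.K902.CurvesSmooth
import Groth.Agent.CurvSt.K896.MbarFam

/-!
# Smoothness of the stack of stable pointed curves
-/

set_option autoImplicit false
set_option backward.isDefEq.respectTransparency false
set_option backward.isDefEq.respectTransparency.types false

universe u

open CategoryTheory CategoryTheory.Limits AlgebraicGeometry Opposite K862.Fib K862.Yon IsLocalRing CurvSt

namespace K896.MbarSmooth

open K902.CurveLift K902.LiftGlue K902.FamLift K902.StSmooth K901.Loci K896.MbarFam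

variable {S : Scheme.{u}} {n g : ℕ}

/-- Etale locally on the base a flat proper family of curves is projective (the statement S16733). -/
def ProjLoc : Prop :=
  ∀ {C S : Scheme.{u}} (f : C ⟶ S) [Flat f] [IsProper f] [LocallyOfFinitePresentation f]
    (_ : ∀ s : S, topologicalKrullDim ↥(f.fiber s) ≤ 1) (s : S),
    ∃ (S' : Scheme.{u}) (e : S' ⟶ S), IsAffine S' ∧ Etale e ∧ s ∈ Set.range e.base ∧
      RelProj.IsHProjective (pullback.snd f e)

/-- The base change of a pointed family. -/
noncomputable def bcObj (A : PtFamObj S n) {T : Scheme.{u}} (e : T ⟶ A.base.left) : PtFamObj S n where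
  base := Over.mk (e ≫ A.base.hom)
  C := pullback A.f e
  f := pullback.snd A.f e
  sect i := pullback.lift (e ≫ A.sect i) (𝟙 _) (by rw [Category.assoc, A.sect_f, Category.comp_id, Category.id_comp])
  sect_f i := pullback.lift_snd _ _ _

noncomputable def bcHom (A : PtFamObj S n) {T : Scheme.{u}} (e : T ⟶ A.base.left) : bcObj A e ⟶ A where
  base := Over.homMk e rfl
  top := pullback.fst A.f e
  cart := IsPullback.of_hasPullback A.f e
  w_sect i := pullback.lift_fst _ _ _

theorem smooth_of_chart [FibCat.IsFibGrpd (Mbar S g n).p] (H : SynLift.{u}) (HP : ProjLoc.{u}) {W : Over S}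
    (x : FibCat.overCat W ⥤ᵇ Mbar S g n) (hx : AlgSt.RepByAlgSpWith (AlgSp.LocP @Smooth) x)
    [LocallyOfFinitePresentation W.hom] : Smooth W.hom := by
  apply K902.CurvesSmooth.smooth_of_et_cover
  intro w
  let A := (objOf x).1.obj
  have hst : IsStableFam A.f A.sect A.sect_f g := (objOf x).1.property
  have hA : A.base = W := (objOf x).2
  let ε : A.base ≅ W := eqToIso hA
  have i1 : Flat A.f := hst.1
  have i2 : IsProper A.f := hst.2.1
  have i3 : LocallyOfFinitePresentation A.f := hst.2.2.1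
  have hG := K898.StabFam.geoGenus_of_isStableFam hst
  obtain ⟨T, e, hT, he, ⟨t, ht⟩, hproj⟩ := HP A.f (fun s => (K898.StabFam.dim_fiber A.f hG s).le) (ε.inv.left w)
  let B : PtFamObj S n := bcObj A e
  have hB : IsStableFam B.f B.sect B.sect_f g :=
    isStableFam_of_isPullback B.sect_f hst (bcHom A e).cart (fun i => (bcHom A e).w_sect i)
  let e' : B.base ⟶ W := (bcHom A e).base ≫ ε.hom
  have he' : e'.left = e ≫ ε.hom.left := rfl
  have hsm : Smooth e'.left := by rw [he']; infer_instance
  have hlfp : LocallyOfFinitePresentation B.base.hom := by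
    rw [← Over.w e']
    infer_instance
  refine ⟨T, e'.left, t, ?_, ?_, ?_⟩
  · rw [he']
    infer_instance
  · rw [he', Scheme.Hom.comp_apply]
    change ε.hom.left (e.base t) = w
    rw [ht, ← Scheme.Hom.comp_apply, ← Over.comp_left, ε.inv_hom_id]
    rfl
  rw [Over.w e', ← Scheme.Hom.smoothLocus_eq_top_iff, eq_top_iff]
  intro v _
  refine mem_smoothLocus_of_obj x hx (V := B.base) e' v ?_
  intro R _ _ I _ hI _ str g₀ hv
  obtain ⟨X, f, τ, hτ, k, sq, hX, hk⟩ := exists_lift_stable H B.f B.sect B.sect_f hB hproj I hI g₀.left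
  let F₀ : PtFamObj S n := ⟨Over.mk (Spec.map (CommRingCat.ofHom (Ideal.Quotient.mk I)) ≫ str),
    pullback B.f g₀.left, pullback.snd B.f g₀.left, fun i => pullback.lift (g₀.left ≫ B.sect i) (𝟙 _)
      (by rw [Category.assoc, B.sect_f, Category.comp_id, Category.id_comp]), fun i => pullback.lift_snd _ _ _⟩
  let F : PtFamObj S n := ⟨Over.mk str, X, f, τ, hτ⟩
  let a : F₀ ⟶ B := ⟨g₀, pullback.fst B.f g₀.left, IsPullback.of_hasPullback _ _, fun i => pullback.lift_fst _ _ _⟩
  let b : F₀ ⟶ F := ⟨cl I str, k, sq, hk⟩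
  have hF₀ : IsStableFam F₀.f F₀.sect F₀.sect_f g :=
    isStableFam_of_isPullback F₀.sect_f hB a.cart (fun i => a.w_sect i)
  let A₀ : (Mbar S g n).obj := ⟨F₀, hF₀⟩
  let A' : (Mbar S g n).obj := ⟨F, hX⟩
  let φ : A₀ ⟶ (objOf x).1 := ObjectProperty.homMk (a ≫ bcHom A e)
  let ψ : A₀ ⟶ A' := ObjectProperty.homMk b
  refine ⟨A₀, ⟨A', rfl⟩, φ, ψ, ?_, ?_⟩
  · have h5 : (Mbar S g n).p.IsHomLift (g₀ ≫ (bcHom A e).base) φ := IsHomLift.map (Mbar S g n).p φ
    have h6 : (Mbar S g n).p.IsHomLift ((g₀ ≫ (bcHom A e).base) ≫ eqToHom hA) φ := inferInstance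
    rw [Category.assoc] at h6
    exact h6
  · exact IsHomLift.map (Mbar S g n).p ψ

/-- **The stack of stable pointed curves is smooth over `S`** as soon as it is algebraic and locally of finite
presentation. -/
theorem locQ_smooth (H : SynLift.{u}) (HP : ProjLoc.{u}) {K : Precoverage Scheme.{u}}
    (hM : AlgSt.IsAlgStack K (Mbar S g n))
    (hlfp : AlgSt.LocQ (AlgSp.LocP @LocallyOfFinitePresentation) (FibCat.toSelf (Mbar S g n))) :
    AlgSt.LocQ (AlgSp.LocP @Smooth) (FibCat.toSelf (Mbar S g n)) := by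
  obtain ⟨U, x, hx, hxs, hU⟩ := K902.SelfChart.exists_atlas_lfp hlfp
  have : FibCat.IsFibGrpd (Mbar S g n).p := hM.isStack.1
  exact K902.SelfChart.locQ_smooth_toSelf x hx hxs (smooth_of_chart H HP x hx)

end K896.MbarSmooth
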