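import Groth.Agent.CurvSt.K896.GluePts
import Groth.Agent.CurvSt.K896.MbarFam
import Groth.Agent.CurvSt.K896.IrrTop

/-!
# Change of the base scheme for the points of the stack of stable curves

For `β : S' ⟶ S`: `pushPt β : |Mbar_{S'}| ⟶ |Mbar_S|`.
* `continuous_pushPt`, `surjective_pushPt` (for `β` surjective);
* `injective_pushPt`, `isClosedMap_pushPt` for closed immersions; `mem_range_pushPt_iff`;
* `dense_range_pushPt` for the generic point of an integral `S` when `Mbar_S` is smooth over `S`.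
-/

set_option autoImplicit false
set_option backward.isDefEq.respectTransparency false
set_option backward.isDefEq.respectTransparency.types false

universe u

open CategoryTheory CategoryTheory.Limits AlgebraicGeometry Opposite CurvSt

namespace K896.BaseCh

open K896.StPts K896.MbarFam

variable {S' S : Scheme.{u}} (β : S' ⟶ S) {g n : ℕ}

/-- A family over `T ⟶ S'` as a family over `T ⟶ S`. -/
noncomputable def pushObj (A : PtFamObj S' n) : PtFamObj S n :=
  ⟨Over.mk (A.base.hom ≫ β), A.C, A.f, A.sect, A.sect_f⟩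

noncomputable def pushHom {A B : PtFamObj S' n} (φ : A ⟶ B) : pushObj β A ⟶ pushObj β B :=
  ⟨Over.homMk φ.base.left (by
    change φ.base.left ≫ B.base.hom ≫ β = A.base.hom ≫ β
    rw [← Category.assoc, Over.w]), φ.top, φ.cart, φ.w_sect⟩

noncomputable def pushM (A : (Mbar S' g n).obj) : (Mbar S g n).obj := ⟨pushObj β A.obj, A.property⟩

noncomputable def pushMHom {A B : (Mbar S' g n).obj} (φ : A ⟶ B) : pushM β A ⟶ pushM β B :=
  ObjectProperty.homMk (pushHom β φ.hom)

/-- Field-valued points. -/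
noncomputable def pushF (p : AlgSt.FPt (Mbar S' g n)) : AlgSt.FPt (Mbar S g n) where
  K := p.K
  str := p.str ≫ β
  obj := pushM β p.obj
  lies := by
    have h : p.obj.obj.base = Over.mk p.str := p.lies
    change Over.mk (p.obj.obj.base.hom ≫ β) = _
    rw [h]
    rfl

/-- The map `|Mbar_{S'}| ⟶ |Mbar_S|`. -/
noncomputable def pushPt : AlgSt.Points (Mbar S' g n) → AlgSt.Points (Mbar S g n) :=
  Quot.lift (fun p => AlgSt.Points.mk (pushF β p)) (by
    rintro p q ⟨r, a, b, -⟩
    exact AlgSt.Points.sound ⟨pushF β r, pushMHom β a, pushMHom β b, trivial⟩)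

@[simp] theorem pushPt_mk (p : AlgSt.FPt (Mbar S' g n)) : pushPt β (AlgSt.Points.mk p) = AlgSt.Points.mk (pushF β p) :=
  rfl

theorem pushPt_famPt (h' : FibCat.IsFibGrpd (Mbar S' g n).p) (h : FibCat.IsFibGrpd (Mbar S g n).p)
    (x : (Mbar S' g n).obj) (t : ↥((Mbar S' g n).p.obj x).left) :
    pushPt β (famPt h' x t) = famPt h (pushM β x) t := by
  obtain ⟨p, φ, h1, h2⟩ := famPt_eq_mk h' x t
  rw [h1, pushPt_mk, mk_eq_famPt h (pushM β x) (pushF β p) (pushMHom β φ)]
  congr 1
  have e1 : p.obj.obj.base = Over.mk p.str := p.lies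
  refine Eq.trans ?_ h2
  have key : ∀ {A : Over S'} {s : Spec (CommRingCat.of p.K) ⟶ S'} (e : A = Over.mk s) {B : Over S'} (c : A ⟶ B)
      (e' : Over.mk (A.hom ≫ β) = Over.mk (s ≫ β)) (c' : Over.mk (A.hom ≫ β) ⟶ Over.mk (B.hom ≫ β))
      (_ : c'.left = c.left),
      (eqToHom e'.symm ≫ c').left (IsLocalRing.closedPoint p.K) =
        (eqToHom e.symm ≫ c).left (IsLocalRing.closedPoint p.K) := by
    intro A s e B c e' c' hc
    subst e
    simp only [eqToHom_refl, Category.id_comp, hc]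
    rfl
  exact key e1 ((Mbar S' g n).p.map φ) (pushF β p).lies ((Mbar S g n).p.map (pushMHom β φ)) rfl

theorem continuous_pushPt {K : Precoverage Scheme.{u}} (h' : FibCat.IsFibGrpd (Mbar S' g n).p)
    (h : AlgSt.IsAlgStack K (Mbar S g n)) : Continuous (pushPt (g := g) (n := n) β) := by
  rw [continuous_def]
  intro V hV U u hu
  let z := u.obj (Over.mk (𝟙 U))
  have hz : (Mbar S' g n).p.obj z = U := u.w_obj _
  have hc : Continuous (fun s : U.left => famPt h.isStack.1 (pushM β z) ((eqToHom hz.symm).left s)) :=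
    (continuous_famPt h.isStack.1 h.atlas (pushM β z)).comp (eqToHom hz.symm).left.continuous
  have e1 : AlgSt.Points.ofChart u ⁻¹' (pushPt β ⁻¹' V) =
      (fun s : U.left => famPt h.isStack.1 (pushM β z) ((eqToHom hz.symm).left s)) ⁻¹' V := by
    ext s
    simp only [Set.mem_preimage]
    rw [← pushPt_famPt β h' h.isStack.1 z, K896.GluePts.famPt_objOf h' u hz]
    have : (eqToHom hz).left ((eqToHom hz.symm).left s) = s := by
      rw [← Scheme.Hom.comp_apply, ← Over.comp_left, eqToHom_trans, eqToHom_refl]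
      rfl
    rw [this]
  rw [e1]
  exact hV.preimage hc

/-- Every point of a surjective base change lifts. -/
theorem surjective_pushPt [Surjective β] : Function.Surjective (pushPt (g := g) (n := n) β) := by
  intro y
  obtain ⟨⟨K, str, ⟨⟨B, C, f, σ, hσ⟩, hst⟩, hl⟩, rfl⟩ := AlgSt.Points.mk_surjective y
  change B = Over.mk str at hl
  subst hl
  -- a point of the fibre product
  obtain ⟨s', hs'⟩ := (inferInstance : Surjective β).surj (str (IsLocalRing.closedPoint K))
  obtain ⟨z, -, -⟩ := Scheme.exists_preimage_of_isPullback (IsPullback.of_hasPullback str β)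
    (IsLocalRing.closedPoint K) s' hs'.symm
  let L := (pullback str β).residueField z
  let a : Spec (CommRingCat.of L) ⟶ Spec (CommRingCat.of K) :=
    (pullback str β).fromSpecResidueField z ≫ pullback.fst str β
  let b : Spec (CommRingCat.of L) ⟶ S' := (pullback str β).fromSpecResidueField z ≫ pullback.snd str β
  have hab : b ≫ β = a ≫ str := by
    simp only [a, b, Category.assoc, pullback.condition]
  let A : PtFamObj S n := ⟨Over.mk str, C, f, σ, hσ⟩
  let A₁ : PtFamObj S' n := ⟨Over.mk b, pullback f a, pullback.snd f a,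
    fun i => pullback.lift (a ≫ σ i) (𝟙 _) (by
      rw [Category.assoc, hσ]
      exact (Category.comp_id a).trans (Category.id_comp a).symm),
    fun i => pullback.lift_snd _ _ _⟩
  have hpb := IsPullback.of_hasPullback f a
  have hA₁ : IsStableFam A₁.f A₁.sect A₁.sect_f g :=
    isStableFam_of_isPullback A₁.sect_f hst hpb (fun i => pullback.lift_fst _ _ _)
  let q : AlgSt.FPt (Mbar S' g n) := ⟨L, b, ⟨A₁, hA₁⟩, rfl⟩
  refine ⟨AlgSt.Points.mk q, ?_⟩
  rw [pushPt_mk]
  let c : (pushM β q.obj).obj ⟶ A := ⟨Over.homMk a hab.symm, pullback.fst f a, hpb, fun i => pullback.lift_fst _ _ _⟩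
  exact K735.Pts.mk_eq_of_hom (p := pushF β q) (ObjectProperty.homMk c)

section closed

variable [Mono β]

/-- A family over `T ⟶ S` whose structure map factors through `S'`. -/
noncomputable def liftObj (A : PtFamObj S n) (b : A.base.left ⟶ S') : PtFamObj S' n :=
  ⟨Over.mk b, A.C, A.f, A.sect, A.sect_f⟩

noncomputable def liftHom {A : PtFamObj S n} {B : PtFamObj S' n} (φ : A ⟶ pushObj β B) (b : A.base.left ⟶ S')
    (hb : b ≫ β = A.base.hom) : liftObj A b ⟶ B :=
  ⟨Over.homMk φ.base.left (by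
    have h := Over.w φ.base
    rw [← cancel_mono β]
    change (φ.base.left ≫ B.base.hom) ≫ β = b ≫ β
    rw [hb, Category.assoc]
    exact h), φ.top, φ.cart, φ.w_sect⟩

theorem injective_pushPt (h : FibCat.IsFibGrpd (Mbar S g n).p) :
    Function.Injective (pushPt (g := g) (n := n) β) := by
  intro x y hxy
  obtain ⟨p, rfl⟩ := AlgSt.Points.mk_surjective x
  obtain ⟨q, rfl⟩ := AlgSt.Points.mk_surjective y
  rw [pushPt_mk, pushPt_mk] at hxy
  obtain ⟨⟨L, str, ⟨⟨B, C, f, σ, hσ⟩, hst⟩, hl⟩, a, b, -⟩ := (K735.Pts.mk_eq_mk_iff h).1 hxy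
  change B = Over.mk str at hl
  subst hl
  let A : PtFamObj S n := ⟨Over.mk str, C, f, σ, hσ⟩
  let a' : A ⟶ pushObj β p.obj.obj := a.hom
  let b' : A ⟶ pushObj β q.obj.obj := b.hom
  -- the structure map to `S'`
  let s₁ : Spec (CommRingCat.of L) ⟶ S' := a'.base.left ≫ p.obj.obj.base.hom
  have hs₁ : s₁ ≫ β = str := by
    rw [Category.assoc]
    exact Over.w a'.base
  let r : AlgSt.FPt (Mbar S' g n) := ⟨L, s₁, ⟨liftObj A s₁, hst⟩, rfl⟩
  have e1 : AlgSt.Points.mk r = AlgSt.Points.mk p :=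
    K735.Pts.mk_eq_of_hom (p := r) (q := p) (ObjectProperty.homMk (liftHom β a' s₁ hs₁))
  have e2 : AlgSt.Points.mk r = AlgSt.Points.mk q :=
    K735.Pts.mk_eq_of_hom (p := r) (q := q) (ObjectProperty.homMk (liftHom β b' s₁ hs₁))
  rw [← e1, e2]

end closed

/-- The point of the base below a point of `|Mbar_S|`. -/
noncomputable def basePt : AlgSt.Points (Mbar S g n) → S :=
  Quot.lift (fun p => p.str (IsLocalRing.closedPoint p.K)) (by
    rintro p q ⟨r, a, b, -⟩
    have key : ∀ {p r : AlgSt.FPt (Mbar S g n)} (_ : r.obj ⟶ p.obj),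
        r.str (IsLocalRing.closedPoint r.K) = p.str (IsLocalRing.closedPoint p.K) := by
      intro p r a
      let m : Over.mk r.str ⟶ Over.mk p.str := eqToHom r.lies.symm ≫ (Mbar S g n).p.map a ≫ eqToHom p.lies
      have hm : m.left ≫ p.str = r.str := Over.w m
      rw [← hm, Scheme.Hom.comp_apply]
      congr 1
      exact Subsingleton.elim (α := PrimeSpectrum p.K) _ _
    exact (key a).symm.trans (key b))

@[simp] theorem basePt_mk (p : AlgSt.FPt (Mbar S g n)) :
    basePt (AlgSt.Points.mk p) = p.str (IsLocalRing.closedPoint p.K) := rfl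

theorem basePt_famPt (h : FibCat.IsFibGrpd (Mbar S g n).p) (x : (Mbar S g n).obj)
    (t : ↥((Mbar S g n).p.obj x).left) : basePt (famPt h x t) = ((Mbar S g n).p.obj x).hom t := by
  obtain ⟨p, φ, h1, h2⟩ := famPt_eq_mk h x t
  rw [h1, basePt_mk, ← h2, ← Scheme.Hom.comp_apply, Over.w]
  rfl

theorem basePt_pushPt (x : AlgSt.Points (Mbar S' g n)) : basePt (pushPt β x) = β (basePt x) := by
  obtain ⟨p, rfl⟩ := AlgSt.Points.mk_surjective x
  rfl

/-- Field-valued points of `S` with image in the range of `β` factor through `β`. -/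
def FieldLift : Prop :=
  ∀ (L : Type u) [Field L] (s : Spec (CommRingCat.of L) ⟶ S), s (IsLocalRing.closedPoint L) ∈ Set.range β →
    ∃ b : Spec (CommRingCat.of L) ⟶ S', b ≫ β = s

theorem fieldLift_of_isClosedImmersion [IsClosedImmersion β] : FieldLift β := by
  intro L _ s ⟨s', hs'⟩
  obtain ⟨z, -, -⟩ := Scheme.exists_preimage_of_isPullback (IsPullback.of_hasPullback s β)
    (IsLocalRing.closedPoint L) s' hs'.symm
  have h1 : Surjective (pullback.fst s β) := ⟨fun y => ⟨z, Subsingleton.elim (α := PrimeSpectrum L) _ _⟩⟩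
  have h2 : IsIso (pullback.fst s β) := isIso_of_isClosedImmersion_of_surjective _
  refine ⟨inv (pullback.fst s β) ≫ pullback.snd s β, ?_⟩
  rw [Category.assoc, ← pullback.condition, IsIso.inv_hom_id_assoc]

theorem mem_range_pushPt_iff (hβ : FieldLift β) (x : AlgSt.Points (Mbar S g n)) :
    x ∈ Set.range (pushPt (g := g) (n := n) β) ↔ basePt x ∈ Set.range β := by
  constructor
  · rintro ⟨y, rfl⟩
    rw [basePt_pushPt]
    exact ⟨_, rfl⟩
  · intro hx
    obtain ⟨⟨K, str, ⟨⟨B, C, f, σ, hσ⟩, hst⟩, hl⟩, rfl⟩ := AlgSt.Points.mk_surjective x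
    change B = Over.mk str at hl
    subst hl
    obtain ⟨b, hb⟩ := hβ K str hx
    let q : AlgSt.FPt (Mbar S' g n) := ⟨K, b, ⟨⟨Over.mk b, C, f, σ, hσ⟩, hst⟩, rfl⟩
    let A : PtFamObj S n := ⟨Over.mk str, C, f, σ, hσ⟩
    refine ⟨AlgSt.Points.mk q, ?_⟩
    rw [pushPt_mk]
    let m : (pushM β q.obj).obj.base ⟶ A.base := Over.homMk (𝟙 (Spec (CommRingCat.of K))) (by
      change 𝟙 _ ≫ str = b ≫ β
      rw [Category.id_comp, hb])
    have hm : IsIso m.left := inferInstanceAs (IsIso (𝟙 (Spec (CommRingCat.of K))))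
    let c : (pushM β q.obj).obj ⟶ A := ⟨m, 𝟙 _, IsPullback.of_horiz_isIso ⟨by
        change 𝟙 _ ≫ f = f ≫ 𝟙 _
        rw [Category.id_comp, Category.comp_id]⟩, fun i => by
        change σ i ≫ 𝟙 _ = 𝟙 _ ≫ σ i
        rw [Category.id_comp, Category.comp_id]⟩
    exact K735.Pts.mk_eq_of_hom (p := pushF β q) (ObjectProperty.homMk c)

/-- The base change of a family along `β`. -/
theorem exists_pullM (h' : FibCat.IsFibGrpd (Mbar S' g n).p) (h : FibCat.IsFibGrpd (Mbar S g n).p)
    (z : (Mbar S g n).obj) : ∃ (T' : Scheme.{u}) (i : T' ⟶ ((Mbar S g n).p.obj z).left) (b : T' ⟶ S')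
      (x' : (Mbar S' g n).obj) (e : (Mbar S' g n).p.obj x' = Over.mk b),
      IsPullback i b ((Mbar S g n).p.obj z).hom β ∧
      ∀ s : T', pushPt β (famPt h' x' ((eqToHom e.symm).left s)) = famPt h z (i s) := by
  obtain ⟨A, hA⟩ := z
  let i := pullback.fst A.base.hom β
  let b := pullback.snd A.base.hom β
  let x : PtFamObj S' n := ⟨Over.mk b, pullback A.f i, pullback.snd A.f i,
    fun j => pullback.lift (i ≫ A.sect j) (𝟙 _) (by
      rw [Category.assoc, A.sect_f]
      exact (Category.comp_id i).trans (Category.id_comp i).symm),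
    fun j => pullback.lift_snd _ _ _⟩
  have hpb := IsPullback.of_hasPullback A.f i
  have hx : IsStableFam x.f x.sect x.sect_f g :=
    isStableFam_of_isPullback x.sect_f hA hpb (fun j => pullback.lift_fst _ _ _)
  let x' : (Mbar S' g n).obj := ⟨x, hx⟩
  let z : (Mbar S g n).obj := ⟨A, hA⟩
  let c : (pushM β x').obj ⟶ A := ⟨Over.homMk i pullback.condition, pullback.fst A.f i, hpb,
    fun j => pullback.lift_fst _ _ _⟩
  let c' : pushM β x' ⟶ z := ObjectProperty.homMk c
  refine ⟨_, i, b, x', rfl, IsPullback.of_hasPullback A.base.hom β, fun s => ?_⟩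
  rw [eqToHom_refl, pushPt_famPt β h' h]
  exact famPt_map h c' s

theorem isClosedMap_pushPt [IsClosedImmersion β] {K K' : Precoverage Scheme.{u}}
    (h' : AlgSt.IsAlgStack K' (Mbar S' g n)) (h : AlgSt.IsAlgStack K (Mbar S g n)) :
    IsClosedMap (pushPt (g := g) (n := n) β) := by
  intro Z hZ
  rw [← isOpen_compl_iff]
  intro U u hu
  rw [Set.preimage_compl, isOpen_compl_iff]
  let z := u.obj (Over.mk (𝟙 U))
  have hz : (Mbar S g n).p.obj z = U := u.w_obj _
  obtain ⟨T', i, b, x', e, hpb, hi⟩ := exists_pullM β h'.isStack.1 h.isStack.1 z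
  have hi' : IsClosedImmersion i := MorphismProperty.of_isPullback hpb.flip inferInstance
  have hc : Continuous (fun s : T' => famPt h'.isStack.1 x' ((eqToHom e.symm).left s)) :=
    (continuous_famPt h'.isStack.1 h'.atlas x').comp (eqToHom e.symm).left.continuous
  have e1 : AlgSt.Points.ofChart u ⁻¹' (pushPt β '' Z) =
      (eqToHom hz).left '' (i '' ((fun s : T' => famPt h'.isStack.1 x' ((eqToHom e.symm).left s)) ⁻¹' Z)) := by
    ext t
    constructor
    · rintro ⟨y, hy, hyt⟩
      have h1 : (eqToHom hz).left ((eqToHom hz.symm).left t) = t := by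
        rw [← Scheme.Hom.comp_apply, ← Over.comp_left, eqToHom_trans, eqToHom_refl]
        rfl
      have h2 : famPt h.isStack.1 z ((eqToHom hz.symm).left t) = pushPt β y := by
        rw [hyt, K896.GluePts.famPt_objOf h.isStack.1 u hz, h1]
      have h3 : ((Mbar S g n).p.obj z).hom ((eqToHom hz.symm).left t) = β (basePt y) := by
        rw [← basePt_pushPt, ← h2, basePt_famPt]
      obtain ⟨s, hs, -⟩ := Scheme.exists_preimage_of_isPullback hpb _ _ h3
      refine ⟨(eqToHom hz.symm).left t, ⟨s, ?_, hs⟩, h1⟩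
      have h4 : pushPt β (famPt h'.isStack.1 x' ((eqToHom e.symm).left s)) = pushPt β y := by
        rw [hi, hs, h2]
      change famPt h'.isStack.1 x' ((eqToHom e.symm).left s) ∈ Z
      rw [injective_pushPt β h.isStack.1 h4]
      exact hy
    · rintro ⟨_, ⟨s, hs, rfl⟩, rfl⟩
      refine ⟨_, hs, ?_⟩
      simp only
      rw [hi, K896.GluePts.famPt_objOf h.isStack.1 u hz]
  rw [e1]
  exact (eqToHom hz).left.isClosedEmbedding.isClosedMap _ (i.isClosedEmbedding.isClosedMap _ (hZ.preimage hc))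

/-- If `Mbar_S` is smooth over an irreducible `S`, the points over the generic point are dense. -/
theorem dense_basePt_generic {K : Precoverage Scheme.{u}} (h : AlgSt.IsAlgStack K (Mbar S g n))
    (hsm : AlgSt.LocQ (AlgSp.LocP @Smooth) (FibCat.toSelf (Mbar S g n))) (η : S) (hη : closure {η} = Set.univ) :
    Dense {x : AlgSt.Points (Mbar S g n) | basePt x = η} := by
  obtain ⟨U, u, hu, hus, hU⟩ := K896.IrrTop.exists_atlas_smooth hsm
  rw [dense_iff_inter_open]
  intro V hV ⟨v, hv⟩
  obtain ⟨t, rfl⟩ := K736.QC.surjective_ofChart h hus v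
  have hW := hV.preimage (K736.QC.continuous_ofChart h u)
  have h1 : IsOpen (U.hom '' (AlgSt.Points.ofChart u ⁻¹' V)) := U.hom.isOpenMap _ hW
  have h2 : η ∈ U.hom '' (AlgSt.Points.ofChart u ⁻¹' V) := by
    have h3 : U.hom t ∈ closure {η} := by rw [hη]; trivial
    obtain ⟨w, hw1, hw2⟩ := mem_closure_iff.1 h3 _ h1 ⟨t, hv, rfl⟩
    rwa [← Set.mem_singleton_iff.1 hw2]
  obtain ⟨w, hw, hwη⟩ := h2
  refine ⟨AlgSt.Points.ofChart u w, hw, ?_⟩
  change (U.left.fromSpecResidueField w ≫ U.hom) (IsLocalRing.closedPoint _) = η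
  rw [Scheme.Hom.comp_apply, Scheme.fromSpecResidueField_apply]
  exact hwη

end K896.BaseCh
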