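import Groth.Agent.CurvSt.K896.StPts

/-!
# A relation between objects of two stacks defines a continuous map on points

`GlueRel 𝒵 𝒳 R` : the relation `R z x` ("`x` is the gluing of `z`") is stable under base change, unique and exists
locally.  `GlueRel.exists_map`: there is a continuous map `|𝒵| ⟶ |𝒳|` sending the class of `z` to the class of `x` when
`R z x`.  `GlueRel.mem_connectedComponent`: if `|𝒵|` is connected all gluings lie in one component.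
-/

set_option autoImplicit false
set_option backward.isDefEq.respectTransparency false
set_option backward.isDefEq.respectTransparency.types false

universe v₃ u₃ v₂ u₂ u

open CategoryTheory CategoryTheory.Limits AlgebraicGeometry Opposite AlgSp K862.Fib

namespace K896.GluePts

open K896.StPts

variable {S : Scheme.{u}} {𝒵 : BasedCategory.{v₃, u₃} (Over S)} {𝒳 : BasedCategory.{v₂, u₂} (Over S)}

/-- The map on points of a chart in terms of the object of the chart. -/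
theorem famPt_objOf (h𝒳 : FibCat.IsFibGrpd 𝒳.p) {U : Over S} (u : FibCat.overCat U ⥤ᵇ 𝒳)
    (h : 𝒳.p.obj (u.obj (Over.mk (𝟙 U))) = U) (t : ↥(𝒳.p.obj (u.obj (Over.mk (𝟙 U)))).left) :
    famPt h𝒳 (u.obj (Over.mk (𝟙 U))) t = AlgSt.Points.ofChart u ((eqToHom h).left t) := by
  let s : U.left := (eqToHom h).left t
  let f : (FibCat.overCat U).obj := Over.mk (Over.homMk (U.left.fromSpecResidueField s) rfl :
    Over.mk (U.left.fromSpecResidueField s ≫ U.hom) ⟶ U)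
  let c : f ⟶ (Over.mk (𝟙 U) : Over U) := Over.homMk f.hom (Category.comp_id _)
  let p : AlgSt.FPt 𝒳 := { K := U.left.residueField s, str := U.left.fromSpecResidueField s ≫ U.hom,
                           obj := u.obj f, lies := u.w_obj _ }
  change _ = AlgSt.Points.mk p
  rw [mk_eq_famPt h𝒳 _ p (u.map c)]
  congr 1
  have l1 : 𝒳.p.IsHomLift f.hom (u.map c) := by
    have : (FibCat.overCat U).p.IsHomLift f.hom c := IsHomLift.map (Over.forget U) c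
    exact BasedFunctor.preserves_isHomLift u _ _
  have h1 : eqToHom p.lies.symm ≫ 𝒳.p.map (u.map c) = f.hom ≫ eqToHom h.symm := by
    have := IsHomLift.fac' 𝒳.p f.hom (u.map c)
    rw [this]
    simp [p]
  rw [h1, Over.comp_left, Scheme.Hom.comp_apply]
  have h2 : f.hom.left (IsLocalRing.closedPoint p.K) = s := Scheme.fromSpecResidueField_apply _ _
  refine Eq.trans ?_ (congrArg _ h2).symm
  change t = (eqToHom h.symm).left ((eqToHom h).left t)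
  rw [← Scheme.Hom.comp_apply, ← Over.comp_left, eqToHom_trans, eqToHom_refl]
  rfl

/-- `R z x` : `x` is "the" object attached to `z`, over the same base. -/
structure GlueRel (𝒵 : BasedCategory.{v₃, u₃} (Over S)) (𝒳 : BasedCategory.{v₂, u₂} (Over S))
    (R : ∀ (z : 𝒵.obj) (x : 𝒳.obj), 𝒵.p.obj z = 𝒳.p.obj x → Prop) : Prop where
  bc : ∀ {z : 𝒵.obj} {x : 𝒳.obj} (h : 𝒵.p.obj z = 𝒳.p.obj x), R z x h → ∀ {z' : 𝒵.obj} (a : z' ⟶ z),
    ∃ (x' : 𝒳.obj) (h' : 𝒵.p.obj z' = 𝒳.p.obj x') (b : x' ⟶ x),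
      𝒳.p.map b = eqToHom h'.symm ≫ 𝒵.p.map a ≫ eqToHom h ∧ R z' x' h'
  uniq : ∀ {z : 𝒵.obj} {x x' : 𝒳.obj} (h : 𝒵.p.obj z = 𝒳.p.obj x) (h' : 𝒵.p.obj z = 𝒳.p.obj x'),
    R z x h → R z x' h' → Nonempty (x ⟶ x')
  ex : ∀ (z : 𝒵.obj) (t : ↥(𝒵.p.obj z).left), IsLocallyNoetherian (𝒵.p.obj z).left → ∃ (z' : 𝒵.obj) (a : z' ⟶ z) (t' : ↥(𝒵.p.obj z').left) (x' : 𝒳.obj)
    (h' : 𝒵.p.obj z' = 𝒳.p.obj x'), IsOpenMap (𝒵.p.map a).left ∧ (𝒵.p.map a).left t' = t ∧ R z' x' h'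

namespace GlueRel

variable {R : ∀ (z : 𝒵.obj) (x : 𝒳.obj), 𝒵.p.obj z = 𝒳.p.obj x → Prop}

/-- The field-valued point attached to a field-valued point. -/
def fpt (p : AlgSt.FPt 𝒵) (x : 𝒳.obj) (h : 𝒵.p.obj p.obj = 𝒳.p.obj x) : AlgSt.FPt 𝒳 :=
  ⟨p.K, p.str, x, h.symm.trans p.lies⟩

/-- `Q` is attached to `P`. -/
def Good (R : ∀ (z : 𝒵.obj) (x : 𝒳.obj), 𝒵.p.obj z = 𝒳.p.obj x → Prop) (P : AlgSt.Points 𝒵) (Q : AlgSt.Points 𝒳) :
    Prop :=
  ∃ (p : AlgSt.FPt 𝒵) (x : 𝒳.obj) (h : 𝒵.p.obj p.obj = 𝒳.p.obj x), R p.obj x h ∧ AlgSt.Points.mk p = P ∧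
    AlgSt.Points.mk (fpt p x h) = Q

theorem exists_good (H : GlueRel 𝒵 𝒳 R) (h𝒵 : FibCat.IsFibGrpd 𝒵.p) (P : AlgSt.Points 𝒵) : ∃ Q, Good R P Q := by
  obtain ⟨p, rfl⟩ := AlgSt.Points.mk_surjective P
  let e : Over.mk p.str ≅ 𝒵.p.obj p.obj := eqToIso p.lies.symm
  have hN : IsLocallyNoetherian (𝒵.p.obj p.obj).left := by
    have h1 : IsLocallyNoetherian (Over.mk p.str).left :=
      inferInstanceAs (IsLocallyNoetherian (Spec (CommRingCat.of p.K)))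
    rw [p.lies]
    exact h1
  obtain ⟨z', a, t', x', h', -, -, hR⟩ := H.ex p.obj (e.hom.left (IsLocalRing.closedPoint p.K)) hN
  obtain ⟨p', φ, -, -⟩ := famPt_eq_mk h𝒵 z' t'
  obtain ⟨x'', h'', b, -, hR'⟩ := H.bc h' hR φ
  exact ⟨_, p', x'', h'', hR', K735.Pts.mk_eq_of_hom (φ ≫ a), rfl⟩

theorem good_unique (H : GlueRel 𝒵 𝒳 R) (h𝒵 : FibCat.IsFibGrpd 𝒵.p) {P : AlgSt.Points 𝒵} {Q Q' : AlgSt.Points 𝒳}
    (h : Good R P Q) (h' : Good R P Q') : Q = Q' := by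
  obtain ⟨p, x, hx, hR, rfl, rfl⟩ := h
  obtain ⟨p', x', hx', hR', hp, rfl⟩ := h'
  obtain ⟨r, a, b, -⟩ := (K735.Pts.mk_eq_mk_iff h𝒵).1 hp
  obtain ⟨y, hy, c, -, hRy⟩ := H.bc hx' hR' a
  obtain ⟨y', hy', c', -, hRy'⟩ := H.bc hx hR b
  obtain ⟨i⟩ := H.uniq hy hy' hRy hRy'
  have h1 : AlgSt.Points.mk (fpt r y hy) = AlgSt.Points.mk (fpt p' x' hx') := K735.Pts.mk_eq_of_hom c
  have h2 : AlgSt.Points.mk (fpt r y' hy') = AlgSt.Points.mk (fpt p x hx) := K735.Pts.mk_eq_of_hom c'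
  have h3 : AlgSt.Points.mk (fpt r y hy) = AlgSt.Points.mk (fpt r y' hy') := K735.Pts.mk_eq_of_hom i
  rw [← h1, ← h2, h3]

theorem exists_map {K K' : Precoverage Scheme.{u}} (H : GlueRel 𝒵 𝒳 R) (h𝒵 : AlgSt.IsAlgStack K 𝒵)
    (h𝒳 : AlgSt.IsAlgStack K' 𝒳) [IsLocallyNoetherian S]
    (hft : AlgSt.LocQ (LocP @LocallyOfFiniteType) (FibCat.toSelf 𝒵)) :
    ∃ Φ : AlgSt.Points 𝒵 → AlgSt.Points 𝒳, Continuous Φ ∧ ∀ (p : AlgSt.FPt 𝒵) (x : 𝒳.obj)
      (h : 𝒵.p.obj p.obj = 𝒳.p.obj x), R p.obj x h → Φ (AlgSt.Points.mk p) = AlgSt.Points.mk (fpt p x h) := by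
  have hZ := h𝒵.isStack.1
  choose Φ hΦ using H.exists_good hZ
  refine ⟨Φ, ?_, fun p x h hR => H.good_unique hZ (hΦ _) ⟨p, x, h, hR, rfl, rfl⟩⟩
  rw [continuous_def]
  intro V hV
  obtain ⟨U, u, hu, hus, hU⟩ := exists_atlas_lft hft
  have hUN : IsLocallyNoetherian U.left := LocallyOfFiniteType.isLocallyNoetherian U.hom
  have ho := K736.QC.isOpenMap_ofChart h𝒵 hu
  rw [isOpen_iff_forall_mem_open]
  intro P hP
  obtain ⟨t, rfl⟩ := K736.QC.surjective_ofChart h𝒵 hus P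
  let z := u.obj (Over.mk (𝟙 U))
  have hzU : 𝒵.p.obj z = U := u.w_obj _
  obtain ⟨z', a, t', x', h', hao, hat, hR⟩ := H.ex z ((eqToHom hzU.symm).left t) (by
    rw [hzU]
    exact hUN)
  have hc : Continuous (fun s : ↥(𝒵.p.obj z').left => famPt h𝒳.isStack.1 x' ((eqToHom h').left s)) :=
    (continuous_famPt h𝒳.isStack.1 h𝒳.atlas x').comp (eqToHom h').left.continuous
  -- the point at `s`
  have key : ∀ s : ↥(𝒵.p.obj z').left, Φ (AlgSt.Points.ofChart u ((eqToHom hzU).left ((𝒵.p.map a).left s))) =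
      famPt h𝒳.isStack.1 x' ((eqToHom h').left s) := by
    intro s
    obtain ⟨p, φ, h1, h2⟩ := famPt_eq_mk hZ z' s
    obtain ⟨y, hy, b, hb, hRy⟩ := H.bc h' hR φ
    rw [← famPt_objOf hZ u hzU, ← famPt_map hZ a, h1]
    rw [H.good_unique hZ (hΦ _) ⟨p, y, hy, hRy, rfl, rfl⟩, mk_eq_famPt h𝒳.isStack.1 x' (fpt p y hy) b]
    congr 1
    have h3 : eqToHom (fpt p y hy).lies.symm ≫ 𝒳.p.map b =
        (eqToHom p.lies.symm ≫ 𝒵.p.map φ) ≫ eqToHom h' := by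
      rw [hb, ← Category.assoc, eqToHom_trans, Category.assoc]
    rw [h3, Over.comp_left, Scheme.Hom.comp_apply]
    exact congrArg _ h2
  refine ⟨AlgSt.Points.ofChart u '' ((eqToHom hzU).left '' ((𝒵.p.map a).left ''
    ((fun s : ↥(𝒵.p.obj z').left => famPt h𝒳.isStack.1 x' ((eqToHom h').left s)) ⁻¹' V))), ?_, ?_, ?_⟩
  · rintro _ ⟨_, ⟨_, ⟨s, hs, rfl⟩, rfl⟩, rfl⟩
    change Φ _ ∈ V
    rw [key]
    exact hs
  · refine ho _ ?_
    have h5 : IsOpenMap (eqToHom hzU).left := (eqToHom hzU).left.isOpenEmbedding.isOpenMap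
    exact h5 _ (hao _ (hV.preimage hc))
  · have h6 : (eqToHom hzU).left ((𝒵.p.map a).left t') = t := by
      rw [hat, ← Scheme.Hom.comp_apply, ← Over.comp_left, eqToHom_trans, eqToHom_refl]
      rfl
    refine ⟨t, ⟨_, ⟨t', ?_, rfl⟩, h6⟩, rfl⟩
    change famPt h𝒳.isStack.1 x' ((eqToHom h').left t') ∈ V
    rw [← key, h6]
    exact hP

/-- If `|𝒵|` is connected, all gluings lie in one connected component of `|𝒳|`. -/
theorem mem_connectedComponent {K K' : Precoverage Scheme.{u}} (H : GlueRel 𝒵 𝒳 R) (h𝒵 : AlgSt.IsAlgStack K 𝒵)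
    (h𝒳 : AlgSt.IsAlgStack K' 𝒳) [IsLocallyNoetherian S]
    (hft : AlgSt.LocQ (LocP @LocallyOfFiniteType) (FibCat.toSelf 𝒵)) [PreconnectedSpace (AlgSt.Points 𝒵)] (p p' : AlgSt.FPt 𝒵) (x x' : 𝒳.obj)
    (h : 𝒵.p.obj p.obj = 𝒳.p.obj x) (h' : 𝒵.p.obj p'.obj = 𝒳.p.obj x') (hR : R p.obj x h) (hR' : R p'.obj x' h') :
    AlgSt.Points.mk (fpt p' x' h') ∈ connectedComponent (AlgSt.Points.mk (fpt p x h)) := by
  obtain ⟨Φ, hΦ, hΦ'⟩ := H.exists_map h𝒵 h𝒳 hft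
  refine (isPreconnected_range hΦ).subset_connectedComponent ?_ ?_
  · exact ⟨_, hΦ' p x h hR⟩
  · exact ⟨_, hΦ' p' x' h' hR'⟩

end GlueRel

end K896.GluePts
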