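import Groth.Agent.CurvSt.K896.GlueDef
import Groth.Agent.CurvSt.K896.GluePts
import Groth.Agent.CurvSt.K896.MbarSmooth

/-!
# The gluing relations between moduli stacks of stable pointed curves

* `RNS` : glueing the two marks of a stable 2-pointed family of genus `h` (a family of genus `h + 1`);
* `RSEP` : glueing a fixed stable 1-pointed curve to the mark of a stable 1-pointed family;
* `glueRel_RNS`, `glueRel_RSEP` : they define continuous maps on points (`K896.GluePts`).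
-/

set_option autoImplicit false
set_option backward.isDefEq.respectTransparency false
set_option backward.isDefEq.respectTransparency.types false

universe u

open CategoryTheory CategoryTheory.Limits AlgebraicGeometry Opposite CurvSt

namespace K896.Bdry

open K896.Glue K896.GluePts K896.MbarFam K896.MbarSmooth

/-- Gluing the two sections of a stable 2-pointed family. -/
def G1Fam : Prop :=
  ∀ {C T : Scheme.{u}} [IsLocallyNoetherian T] (f : C ⟶ T) (h : ℕ) (σ : Fin 2 → (T ⟶ C)) (hσ : ∀ i, σ i ≫ f = 𝟙 T),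
    IsStableFam f σ hσ h → RelProj.IsHProjective f → ∃ (X : Scheme.{u}) (f₁ : X ⟶ T) (ν : C ⟶ X),
      ν ≫ f₁ = f ∧ UnivGlue f f₁ (σ 0) (σ 1) ν ∧
      IsStableFam f₁ (fun i : Fin 0 => i.elim0) (fun i => i.elim0) (h + 1)

/-- Gluing two stable 1-pointed families. -/
def G2Fam : Prop :=
  ∀ {C₁ C₂ T : Scheme.{u}} [IsLocallyNoetherian T] (f₁ : C₁ ⟶ T) (f₂ : C₂ ⟶ T) (h₁ h₂ : ℕ) (σ₁ : Fin 1 → (T ⟶ C₁))
    (hσ₁ : ∀ i, σ₁ i ≫ f₁ = 𝟙 T) (σ₂ : Fin 1 → (T ⟶ C₂)) (hσ₂ : ∀ i, σ₂ i ≫ f₂ = 𝟙 T),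
    IsStableFam f₁ σ₁ hσ₁ h₁ → IsStableFam f₂ σ₂ hσ₂ h₂ → RelProj.IsHProjective f₁ → RelProj.IsHProjective f₂ →
    ∃ (X : Scheme.{u}) (f : X ⟶ T) (ν₁ : C₁ ⟶ X) (ν₂ : C₂ ⟶ X),
      ν₁ ≫ f = f₁ ∧ ν₂ ≫ f = f₂ ∧ UnivPush f₁ f₂ f (σ₁ 0) (σ₂ 0) ν₁ ν₂ ∧
      IsStableFam f (fun i : Fin 0 => i.elim0) (fun i => i.elim0) (h₁ + h₂)

/-! ### base change of glueings -/

section bc

theorem UnivGlue.isGlue {C X T : Scheme.{u}} {f : C ⟶ T} {f₁ : X ⟶ T} {a b : T ⟶ C} {ν : C ⟶ X}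
    (h : UnivGlue f f₁ a b ν) (ha : a ≫ f = 𝟙 T) (hb : b ≫ f = 𝟙 T) (hν : ν ≫ f₁ = f) : IsGlue f f₁ a b ν :=
  h T C X (𝟙 T) (𝟙 C) (𝟙 X) f f₁ a b ν (IsPullback.of_horiz_isIso ⟨by simp⟩) (IsPullback.of_horiz_isIso ⟨by simp⟩)
    ha hb (by simp) (by simp) (by simp) hν

theorem UnivGlue.bc {C X T : Scheme.{u}} {f : C ⟶ T} {f₁ : X ⟶ T} {a b : T ⟶ C} {ν : C ⟶ X}
    (h : UnivGlue f f₁ a b ν) {T' C' X' : Scheme.{u}} (t : T' ⟶ T) (c : C' ⟶ C) (x : X' ⟶ X) (f' : C' ⟶ T')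
    (f₁' : X' ⟶ T') (a' b' : T' ⟶ C') (ν' : C' ⟶ X') (hC : IsPullback c f' f t) (hX : IsPullback x f₁' f₁ t)
    (hac : a' ≫ c = t ≫ a) (hbc : b' ≫ c = t ≫ b) (hν : ν' ≫ x = c ≫ ν) (hν' : ν' ≫ f₁' = f') :
    UnivGlue f' f₁' a' b' ν' := by
  intro T'' C'' X'' t' c' x' f'' f₁'' a'' b'' ν'' hC' hX' ha hb hac' hbc' hn hn'
  refine h T'' C'' X'' (t' ≫ t) (c' ≫ c) (x' ≫ x) f'' f₁'' a'' b'' ν'' (hC'.paste_horiz hC) (hX'.paste_horiz hX) ha hb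
    ?_ ?_ ?_ hn'
  · rw [← Category.assoc, hac', Category.assoc, hac, Category.assoc]
  · rw [← Category.assoc, hbc', Category.assoc, hbc, Category.assoc]
  · rw [← Category.assoc, hn, Category.assoc, hν, Category.assoc]

theorem UnivPush.isPushout {C₁ C₂ X T : Scheme.{u}} {f₁ : C₁ ⟶ T} {f₂ : C₂ ⟶ T} {f : X ⟶ T} {a : T ⟶ C₁}
    {b : T ⟶ C₂} {ν₁ : C₁ ⟶ X} {ν₂ : C₂ ⟶ X} (h : UnivPush f₁ f₂ f a b ν₁ ν₂) (ha : a ≫ f₁ = 𝟙 T)
    (hb : b ≫ f₂ = 𝟙 T) (h1 : ν₁ ≫ f = f₁) (h2 : ν₂ ≫ f = f₂) : IsPushout a b ν₁ ν₂ :=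
  h T C₁ C₂ X (𝟙 T) (𝟙 _) (𝟙 _) (𝟙 X) f₁ f₂ f a b ν₁ ν₂ (IsPullback.of_horiz_isIso ⟨by simp⟩)
    (IsPullback.of_horiz_isIso ⟨by simp⟩) (IsPullback.of_horiz_isIso ⟨by simp⟩)
    ha hb (by simp) (by simp) (by simp) (by simp) h1 h2

theorem UnivPush.bc {C₁ C₂ X T : Scheme.{u}} {f₁ : C₁ ⟶ T} {f₂ : C₂ ⟶ T} {f : X ⟶ T} {a : T ⟶ C₁}
    {b : T ⟶ C₂} {ν₁ : C₁ ⟶ X} {ν₂ : C₂ ⟶ X} (h : UnivPush f₁ f₂ f a b ν₁ ν₂) {T' C₁' C₂' X' : Scheme.{u}}
    (t : T' ⟶ T) (c₁ : C₁' ⟶ C₁) (c₂ : C₂' ⟶ C₂) (x : X' ⟶ X) (f₁' : C₁' ⟶ T')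
    (f₂' : C₂' ⟶ T') (f' : X' ⟶ T') (a' : T' ⟶ C₁') (b' : T' ⟶ C₂') (ν₁' : C₁' ⟶ X') (ν₂' : C₂' ⟶ X')
    (hC₁ : IsPullback c₁ f₁' f₁ t) (hC₂ : IsPullback c₂ f₂' f₂ t) (hX : IsPullback x f' f t)
    (hac : a' ≫ c₁ = t ≫ a) (hbc : b' ≫ c₂ = t ≫ b) (hν₁ : ν₁' ≫ x = c₁ ≫ ν₁) (hν₂ : ν₂' ≫ x = c₂ ≫ ν₂)
    (h1 : ν₁' ≫ f' = f₁') (h2 : ν₂' ≫ f' = f₂') : UnivPush f₁' f₂' f' a' b' ν₁' ν₂' := by
  intro T'' C₁'' C₂'' X'' t' c₁' c₂' x' f₁'' f₂'' f'' a'' b'' ν₁'' ν₂'' hC₁' hC₂' hX' ha hb hac' hbc' hn₁ hn₂ hn₁' hn₂'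
  refine h T'' C₁'' C₂'' X'' (t' ≫ t) (c₁' ≫ c₁) (c₂' ≫ c₂) (x' ≫ x) f₁'' f₂'' f'' a'' b'' ν₁'' ν₂''
    (hC₁'.paste_horiz hC₁) (hC₂'.paste_horiz hC₂) (hX'.paste_horiz hX) ha hb ?_ ?_ ?_ ?_ hn₁' hn₂'
  · rw [← Category.assoc, hac', Category.assoc, hac, Category.assoc]
  · rw [← Category.assoc, hbc', Category.assoc, hbc, Category.assoc]
  · rw [← Category.assoc, hn₁, Category.assoc, hν₁, Category.assoc]
  · rw [← Category.assoc, hn₂, Category.assoc, hν₂, Category.assoc]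

end bc

section rel

variable {S : Scheme.{u}}

/-- Gluing the two marks of a stable 2-pointed family. -/
def RNS (S : Scheme.{u}) (g h : ℕ) (z : (Mbar S h 2).obj) (x : (Mbar S g 0).obj)
    (e : (Mbar S h 2).p.obj z = (Mbar S g 0).p.obj x) : Prop :=
  ∃ ν : z.obj.C ⟶ x.obj.C, ν ≫ x.obj.f ≫ (eqToHom e.symm).left = z.obj.f ∧
    UnivGlue z.obj.f (x.obj.f ≫ (eqToHom e.symm).left) (z.obj.sect 0) (z.obj.sect 1) ν

/-- The fixed 1-pointed curve `Y` with section `b` over `S`. -/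
structure Fixed (S : Scheme.{u}) (h : ℕ) where
  Y : Scheme.{u}
  q : Y ⟶ S
  b : Fin 1 → (S ⟶ Y)
  hb : ∀ i, b i ≫ q = 𝟙 S
  stable : IsStableFam q b hb h

/-- Gluing the fixed curve to the mark of a stable 1-pointed family. -/
def RSEP {S : Scheme.{u}} {h₂ : ℕ} (F : Fixed S h₂) (g h : ℕ) (z : (Mbar S h 1).obj) (x : (Mbar S g 0).obj)
    (e : (Mbar S h 1).p.obj z = (Mbar S g 0).p.obj x) : Prop :=
  ∃ (D : Scheme.{u}) (d : D ⟶ F.Y) (δ : D ⟶ z.obj.base.left) (b : z.obj.base.left ⟶ D) (ν₁ : z.obj.C ⟶ x.obj.C)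
    (ν₂ : D ⟶ x.obj.C), IsPullback d δ F.q z.obj.base.hom ∧ b ≫ δ = 𝟙 _ ∧ b ≫ d = z.obj.base.hom ≫ F.b 0 ∧
    ν₁ ≫ x.obj.f ≫ (eqToHom e.symm).left = z.obj.f ∧ ν₂ ≫ x.obj.f ≫ (eqToHom e.symm).left = δ ∧
    UnivPush z.obj.f δ (x.obj.f ≫ (eqToHom e.symm).left) (z.obj.sect 0) b ν₁ ν₂

/-- The base change of an unpointed stable family with prescribed base. -/
theorem exists_bc {g : ℕ} (x : (Mbar S g 0).obj) {A B : Over S} (e : B = (Mbar S g 0).p.obj x) (a : A ⟶ B) :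
    ∃ (x' : (Mbar S g 0).obj) (h' : A = (Mbar S g 0).p.obj x') (b : x' ⟶ x),
      (Mbar S g 0).p.map b = eqToHom h'.symm ≫ a ≫ eqToHom e ∧
      IsPullback b.hom.top (x'.obj.f ≫ (eqToHom h'.symm).left) (x.obj.f ≫ (eqToHom e.symm).left) a.left := by
  subst e
  let x' : PtFamObj S 0 := ⟨A, pullback x.obj.f a.left, pullback.snd x.obj.f a.left, fun i => i.elim0,
    fun i => i.elim0⟩
  have hpb := IsPullback.of_hasPullback x.obj.f a.left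
  have hx' : IsStableFam x'.f x'.sect x'.sect_f g :=
    isStableFam_of_isPullback x'.sect_f x.property hpb (fun i => i.elim0)
  let b : x' ⟶ x.obj := ⟨a, pullback.fst x.obj.f a.left, hpb, fun i => i.elim0⟩
  refine ⟨⟨x', hx'⟩, rfl, ObjectProperty.homMk b, ?_, ?_⟩
  · simp only [eqToHom_refl, Category.comp_id, Category.id_comp]
    rfl
  · simp only [eqToHom_refl]
    change IsPullback (pullback.fst x.obj.f a.left) (pullback.snd x.obj.f a.left ≫ 𝟙 _) (x.obj.f ≫ 𝟙 _) a.left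
    rw [Category.comp_id, Category.comp_id]
    exact hpb

theorem RNS.bc {g h : ℕ} {z : (Mbar S h 2).obj} {x : (Mbar S g 0).obj}
    (e : (Mbar S h 2).p.obj z = (Mbar S g 0).p.obj x) (hR : RNS S g h z x e) {z' : (Mbar S h 2).obj} (a : z' ⟶ z) :
    ∃ (x' : (Mbar S g 0).obj) (h' : (Mbar S h 2).p.obj z' = (Mbar S g 0).p.obj x') (b : x' ⟶ x),
      (Mbar S g 0).p.map b = eqToHom h'.symm ≫ (Mbar S h 2).p.map a ≫ eqToHom e ∧ RNS S g h z' x' h' := by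
  obtain ⟨ν, hν, hU⟩ := hR
  obtain ⟨x', h', b, hb, hpb⟩ := exists_bc x e ((Mbar S h 2).p.map a)
  have hw : (a.hom.top ≫ ν) ≫ x.obj.f ≫ (eqToHom e.symm).left = z'.obj.f ≫ ((Mbar S h 2).p.map a).left := by
    rw [Category.assoc, hν]
    exact a.hom.cart.w
  refine ⟨x', h', b, hb, hpb.lift (a.hom.top ≫ ν) z'.obj.f hw, hpb.lift_snd _ _ _, ?_⟩
  exact UnivGlue.bc hU ((Mbar S h 2).p.map a).left a.hom.top b.hom.top z'.obj.f _ _ _ _ a.hom.cart hpb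
    (a.hom.w_sect 0) (a.hom.w_sect 1) (hpb.lift_fst _ _ _) (hpb.lift_snd _ _ _)

theorem IsGlue.exists_hom {C X X' T : Scheme.{u}} {f : C ⟶ T} {f₁ : X ⟶ T} {f₁' : X' ⟶ T} {a b : T ⟶ C} {ν : C ⟶ X}
    {ν' : C ⟶ X'} (h : IsGlue f f₁ a b ν) (h' : IsGlue f f₁' a b ν') :
    ∃ v : X ⟶ X', ν ≫ v = ν' ∧ IsIso v ∧ v ≫ f₁' = f₁ := by
  obtain ⟨h1, h2, h3⟩ := h
  obtain ⟨h1', h2', h3'⟩ := h'
  obtain ⟨v, hv, -⟩ := h3 X' ν' h2'
  obtain ⟨w, hw, -⟩ := h3' X ν h2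
  have e1 : v ≫ w = 𝟙 X := by
    obtain ⟨_, -, hu⟩ := h3 X ν h2
    exact (hu (v ≫ w) (by simp only; rw [← Category.assoc, hv, hw])).trans (hu (𝟙 X) (Category.comp_id _)).symm
  have e2 : w ≫ v = 𝟙 X' := by
    obtain ⟨_, -, hu⟩ := h3' X' ν' h2'
    exact (hu (w ≫ v) (by simp only; rw [← Category.assoc, hw, hv])).trans (hu (𝟙 X') (Category.comp_id _)).symm
  refine ⟨v, hv, ⟨w, e1, e2⟩, ?_⟩
  have h4 : a ≫ f = b ≫ f := by rw [← h1, ← Category.assoc, h2, Category.assoc]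
  obtain ⟨_, -, hu⟩ := h3 T f h4
  exact (hu (v ≫ f₁') (by simp only; rw [← Category.assoc, hv, h1'])).trans (hu f₁ h1).symm

/-- Isomorphic unpointed families give a morphism of the stack. -/
theorem nonempty_hom_of_iso {g : ℕ} {A : Over S} {x x' : (Mbar S g 0).obj} (e : A = (Mbar S g 0).p.obj x)
    (e' : A = (Mbar S g 0).p.obj x') (v : x.obj.C ⟶ x'.obj.C) [IsIso v]
    (hv : v ≫ x'.obj.f ≫ (eqToHom e'.symm).left = x.obj.f ≫ (eqToHom e.symm).left) : Nonempty (x ⟶ x') := by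
  let c : x.obj.base ⟶ x'.obj.base := eqToHom (e.symm.trans e')
  have hc : IsIso c.left := inferInstance
  have h1 : v ≫ x'.obj.f = x.obj.f ≫ c.left := by
    have h2 := congrArg (fun m => m ≫ (eqToHom e').left) hv
    simp only [Category.assoc, ← Over.comp_left, eqToHom_trans, eqToHom_refl, Over.id_left, Category.comp_id] at h2
    exact h2
  let b : x.obj ⟶ x'.obj := ⟨c, v, IsPullback.of_horiz_isIso ⟨h1⟩, fun i => i.elim0⟩
  exact ⟨ObjectProperty.homMk b⟩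

theorem RNS.uniq {g h : ℕ} {z : (Mbar S h 2).obj} {x x' : (Mbar S g 0).obj}
    (e : (Mbar S h 2).p.obj z = (Mbar S g 0).p.obj x) (e' : (Mbar S h 2).p.obj z = (Mbar S g 0).p.obj x')
    (hR : RNS S g h z x e) (hR' : RNS S g h z x' e') : Nonempty (x ⟶ x') := by
  obtain ⟨ν, hν, hU⟩ := hR
  obtain ⟨ν', hν', hU'⟩ := hR'
  have h1 := UnivGlue.isGlue hU (z.obj.sect_f 0) (z.obj.sect_f 1) hν
  have h2 := UnivGlue.isGlue hU' (z.obj.sect_f 0) (z.obj.sect_f 1) hν'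
  obtain ⟨v, -, hv, hv'⟩ := IsGlue.exists_hom h1 h2
  exact nonempty_hom_of_iso e e' v hv'

theorem RNS.ex (G1 : G1Fam.{u}) (HP : ProjLoc.{u}) {h : ℕ} (z : (Mbar S h 2).obj)
    (t : ↥((Mbar S h 2).p.obj z).left) (hN : IsLocallyNoetherian ((Mbar S h 2).p.obj z).left) :
    ∃ (z' : (Mbar S h 2).obj) (a : z' ⟶ z) (t' : ↥((Mbar S h 2).p.obj z').left) (x' : (Mbar S (h + 1) 0).obj)
      (h' : (Mbar S h 2).p.obj z' = (Mbar S (h + 1) 0).p.obj x'), IsOpenMap ((Mbar S h 2).p.map a).left ∧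
      ((Mbar S h 2).p.map a).left t' = t ∧ RNS S (h + 1) h z' x' h' := by
  obtain ⟨i1, i2, i3, -⟩ := z.property
  have hG := K898.StabFam.geoGenus_of_isStableFam z.property
  obtain ⟨T, e, hT, he, ⟨t', ht⟩, hproj⟩ := HP z.obj.f (fun s => (K898.StabFam.dim_fiber z.obj.f hG s).le) t
  have hB : IsStableFam (bcObj z.obj e).f (bcObj z.obj e).sect (bcObj z.obj e).sect_f h :=
    isStableFam_of_isPullback (bcObj z.obj e).sect_f z.property (bcHom z.obj e).cart (fun i => (bcHom z.obj e).w_sect i)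
  have hN' : IsLocallyNoetherian z.obj.base.left := hN
  have hTN : IsLocallyNoetherian (bcObj z.obj e).base.left := LocallyOfFiniteType.isLocallyNoetherian e
  obtain ⟨X, f₁, ν, hν, hU, hX⟩ := G1 (bcObj z.obj e).f h (bcObj z.obj e).sect (bcObj z.obj e).sect_f hB hproj
  let z' : (Mbar S h 2).obj := ⟨bcObj z.obj e, hB⟩
  let x' : (Mbar S (h + 1) 0).obj := ⟨⟨(bcObj z.obj e).base, X, f₁, fun i => i.elim0, fun i => i.elim0⟩, hX⟩
  refine ⟨z', ObjectProperty.homMk (bcHom z.obj e), t', x', rfl, ?_, ht, ν, ?_, ?_⟩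
  · exact e.isOpenMap
  · simp only [eqToHom_refl, Over.id_left, Category.comp_id]
    exact hν
  · simp only [eqToHom_refl, Over.id_left, Category.comp_id]
    exact hU

theorem glueRel_RNS (G1 : G1Fam.{u}) (HP : ProjLoc.{u}) (h : ℕ) :
    GlueRel (Mbar S h 2) (Mbar S (h + 1) 0) (RNS S (h + 1) h) where
  bc := RNS.bc
  uniq := RNS.uniq
  ex := RNS.ex G1 HP

/-! ### glueing a fixed curve -/

section sep

variable {h₂ : ℕ} (F : Fixed S h₂)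

theorem RSEP.bc {g h : ℕ} {z : (Mbar S h 1).obj} {x : (Mbar S g 0).obj}
    (e : (Mbar S h 1).p.obj z = (Mbar S g 0).p.obj x) (hR : RSEP F g h z x e) {z' : (Mbar S h 1).obj} (a : z' ⟶ z) :
    ∃ (x' : (Mbar S g 0).obj) (h' : (Mbar S h 1).p.obj z' = (Mbar S g 0).p.obj x') (b : x' ⟶ x),
      (Mbar S g 0).p.map b = eqToHom h'.symm ≫ (Mbar S h 1).p.map a ≫ eqToHom e ∧ RSEP F g h z' x' h' := by
  obtain ⟨D, d, δ, β, ν₁, ν₂, hD, hβ1, hβ2, hν₁, hν₂, hU⟩ := hR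
  obtain ⟨x', h', b, hb, hpb⟩ := exists_bc x e ((Mbar S h 1).p.map a)
  let al : z'.obj.base.left ⟶ z.obj.base.left := ((Mbar S h 1).p.map a).left
  have hal : al ≫ z.obj.base.hom = z'.obj.base.hom := Over.w ((Mbar S h 1).p.map a)
  have hD' := IsPullback.of_hasPullback δ al
  have hDD : IsPullback (pullback.fst δ al ≫ d) (pullback.snd δ al) F.q z'.obj.base.hom := by
    rw [← hal]
    exact hD'.paste_horiz hD
  have hw1 : (a.hom.top ≫ ν₁) ≫ x.obj.f ≫ (eqToHom e.symm).left = z'.obj.f ≫ al := by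
    rw [Category.assoc, hν₁]
    exact a.hom.cart.w
  have hw2 : (pullback.fst δ al ≫ ν₂) ≫ x.obj.f ≫ (eqToHom e.symm).left = pullback.snd δ al ≫ al := by
    rw [Category.assoc, hν₂, pullback.condition]
  refine ⟨x', h', b, hb, pullback δ al, pullback.fst δ al ≫ d, pullback.snd δ al,
    pullback.lift (al ≫ β) (𝟙 _) (by rw [Category.assoc, hβ1, Category.comp_id, Category.id_comp]),
    hpb.lift (a.hom.top ≫ ν₁) z'.obj.f hw1, hpb.lift (pullback.fst δ al ≫ ν₂) (pullback.snd δ al) hw2, hDD,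
    pullback.lift_snd _ _ _, ?_, hpb.lift_snd _ _ _, hpb.lift_snd _ _ _, ?_⟩
  · rw [pullback.lift_fst_assoc, Category.assoc, hβ2, ← Category.assoc, hal]
  · exact UnivPush.bc hU al a.hom.top (pullback.fst δ al) b.hom.top z'.obj.f _ _ _ _ _ _ a.hom.cart hD' hpb
      (a.hom.w_sect 0) (pullback.lift_fst _ _ _) (hpb.lift_fst _ _ _) (hpb.lift_fst _ _ _) (hpb.lift_snd _ _ _)
      (hpb.lift_snd _ _ _)

theorem isPushout_exists_hom {T C₁ C₂ X X' : Scheme.{u}} {a : T ⟶ C₁} {b : T ⟶ C₂} {ν₁ : C₁ ⟶ X} {ν₂ : C₂ ⟶ X}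
    {ν₁' : C₁ ⟶ X'} {ν₂' : C₂ ⟶ X'} (h : IsPushout a b ν₁ ν₂) (h' : IsPushout a b ν₁' ν₂') {f : X ⟶ T} {f' : X' ⟶ T}
    (h1 : ν₁ ≫ f = ν₁' ≫ f') (h2 : ν₂ ≫ f = ν₂' ≫ f') :
    ∃ v : X ⟶ X', ν₁ ≫ v = ν₁' ∧ ν₂ ≫ v = ν₂' ∧ IsIso v ∧ v ≫ f' = f := by
  let v := h.desc ν₁' ν₂' h'.w
  let w := h'.desc ν₁ ν₂ h.w
  have v1 : ν₁ ≫ v = ν₁' := h.inl_desc _ _ _
  have v2 : ν₂ ≫ v = ν₂' := h.inr_desc _ _ _
  have w1 : ν₁' ≫ w = ν₁ := h'.inl_desc _ _ _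
  have w2 : ν₂' ≫ w = ν₂ := h'.inr_desc _ _ _
  refine ⟨v, v1, v2, ⟨w, ?_, ?_⟩, ?_⟩
  · apply h.hom_ext
    · rw [← Category.assoc, v1, w1, Category.comp_id]
    · rw [← Category.assoc, v2, w2, Category.comp_id]
  · apply h'.hom_ext
    · rw [← Category.assoc, w1, v1, Category.comp_id]
    · rw [← Category.assoc, w2, v2, Category.comp_id]
  · apply h.hom_ext
    · rw [← Category.assoc, v1, h1]
    · rw [← Category.assoc, v2, h2]

theorem RSEP.uniq {g h : ℕ} {z : (Mbar S h 1).obj} {x x' : (Mbar S g 0).obj}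
    (e : (Mbar S h 1).p.obj z = (Mbar S g 0).p.obj x) (e' : (Mbar S h 1).p.obj z = (Mbar S g 0).p.obj x')
    (hR : RSEP F g h z x e) (hR' : RSEP F g h z x' e') : Nonempty (x ⟶ x') := by
  obtain ⟨D, d, δ, β, ν₁, ν₂, hD, hβ1, hβ2, hν₁, hν₂, hU⟩ := hR
  obtain ⟨D', d', δ', β', ν₁', ν₂', hD', hβ1', hβ2', hν₁', hν₂', hU'⟩ := hR'
  have h1 := UnivPush.isPushout hU (z.obj.sect_f 0) hβ1 hν₁ hν₂
  have h2 := UnivPush.isPushout hU' (z.obj.sect_f 0) hβ1' hν₁' hν₂'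
  let i : D ⟶ D' := hD'.lift d δ hD.w
  have i1 : i ≫ d' = d := hD'.lift_fst _ _ _
  have i2 : i ≫ δ' = δ := hD'.lift_snd _ _ _
  let j : D' ⟶ D := hD.lift d' δ' hD'.w
  have j1 : j ≫ d = d' := hD.lift_fst _ _ _
  have j2 : j ≫ δ = δ' := hD.lift_snd _ _ _
  have hij : i ≫ j = 𝟙 D := by
    apply hD.hom_ext
    · rw [Category.assoc, j1, i1, Category.id_comp]
    · rw [Category.assoc, j2, i2, Category.id_comp]
  have hji : j ≫ i = 𝟙 D' := by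
    apply hD'.hom_ext
    · rw [Category.assoc, i1, j1, Category.id_comp]
    · rw [Category.assoc, i2, j2, Category.id_comp]
  have hi : IsIso i := ⟨j, hij, hji⟩
  have hβ : β ≫ i = β' := by
    apply hD'.hom_ext
    · rw [Category.assoc, i1, hβ2, hβ2']
    · rw [Category.assoc, i2, hβ1, hβ1']
  -- transport the second pushout along `i`
  have h3 : IsPushout (z.obj.sect 0) β ν₁' (i ≫ ν₂') := by
    refine IsPushout.of_iso h2 (Iso.refl _) (Iso.refl _) (asIso i).symm (Iso.refl _) ?_ ?_ ?_ ?_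
    · simp
    · simp only [Iso.refl_hom, Category.id_comp, Iso.symm_hom, asIso_inv]
      rw [← hβ, Category.assoc, IsIso.hom_inv_id, Category.comp_id]
    · simp
    · simp
  obtain ⟨v, -, -, hv, hv'⟩ := isPushout_exists_hom (f := x.obj.f ≫ (eqToHom e.symm).left)
    (f' := x'.obj.f ≫ (eqToHom e'.symm).left) h1 h3 (hν₁.trans hν₁'.symm)
    (by rw [hν₂, Category.assoc, hν₂', i2])
  exact nonempty_hom_of_iso e e' v hv'

theorem RSEP.ex (G2 : G2Fam.{u}) (HP : ProjLoc.{u}) {h : ℕ} (z : (Mbar S h 1).obj)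
    (t : ↥((Mbar S h 1).p.obj z).left) (hN : IsLocallyNoetherian ((Mbar S h 1).p.obj z).left) :
    ∃ (z' : (Mbar S h 1).obj) (a : z' ⟶ z) (t' : ↥((Mbar S h 1).p.obj z').left) (x' : (Mbar S (h + h₂) 0).obj)
      (h' : (Mbar S h 1).p.obj z' = (Mbar S (h + h₂) 0).p.obj x'), IsOpenMap ((Mbar S h 1).p.map a).left ∧
      ((Mbar S h 1).p.map a).left t' = t ∧ RSEP F (h + h₂) h z' x' h' := by
  obtain ⟨i1, i2, i3, -⟩ := z.property
  have hG := K898.StabFam.geoGenus_of_isStableFam z.property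
  obtain ⟨T₁, e₁, hT₁, he₁, ⟨t₁, ht₁⟩, hproj₁⟩ :=
    HP z.obj.f (fun s => (K898.StabFam.dim_fiber z.obj.f hG s).le) t
  -- the constant family
  let B := z.obj.base
  let δ := pullback.snd F.q B.hom
  let β : B.left ⟶ pullback F.q B.hom := pullback.lift (B.hom ≫ F.b 0) (𝟙 _)
    (by rw [Category.assoc, F.hb, Category.comp_id, Category.id_comp])
  have hβ1 : β ≫ δ = 𝟙 _ := pullback.lift_snd _ _ _
  have hβ2 : β ≫ pullback.fst F.q B.hom = B.hom ≫ F.b 0 := pullback.lift_fst _ _ _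
  have hδ : IsStableFam δ (fun _ : Fin 1 => β) (fun _ => hβ1) h₂ :=
    isStableFam_of_isPullback _ F.stable (IsPullback.of_hasPullback F.q B.hom) (fun i => by
      rw [Subsingleton.elim i 0]
      exact hβ2)
  obtain ⟨j1, j2, j3, -⟩ := id hδ
  have hGδ := K898.StabFam.geoGenus_of_isStableFam hδ
  obtain ⟨T₂, e₂, hT₂, he₂, ⟨t₂, ht₂⟩, hproj₂⟩ := HP δ (fun s => (K898.StabFam.dim_fiber δ hGδ s).le) t
  let p₁ := pullback.fst e₁ e₂
  let p₂ := pullback.snd e₁ e₂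
  obtain ⟨t', ht'1, ht'2⟩ := Scheme.exists_preimage_of_isPullback (IsPullback.of_hasPullback e₁ e₂) t₁ t₂
    (ht₁.trans ht₂.symm)
  -- the base change of `z`
  let z₁ : PtFamObj S 1 := bcObj z.obj e₁
  have hz₁ : IsStableFam z₁.f z₁.sect z₁.sect_f h :=
    isStableFam_of_isPullback z₁.sect_f z.property (bcHom z.obj e₁).cart (fun i => (bcHom z.obj e₁).w_sect i)
  let z₂ : PtFamObj S 1 := bcObj z₁ p₁
  have hz₂ : IsStableFam z₂.f z₂.sect z₂.sect_f h :=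
    isStableFam_of_isPullback z₂.sect_f hz₁ (bcHom z₁ p₁).cart (fun i => (bcHom z₁ p₁).w_sect i)
  have hzp : RelProj.IsHProjective z₂.f := Groth.Agent.S9693.result _ hproj₁ p₁
  let a : z₂ ⟶ z.obj := bcHom z₁ p₁ ≫ bcHom z.obj e₁
  have ha : a.base.left = p₁ ≫ e₁ := rfl
  -- the base change of the constant family
  let D := pullback (pullback.snd δ e₂) p₂
  let δ' : D ⟶ z₂.base.left := pullback.snd (pullback.snd δ e₂) p₂
  let dd : D ⟶ pullback F.q B.hom := pullback.fst (pullback.snd δ e₂) p₂ ≫ pullback.fst δ e₂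
  have hDδ : IsPullback dd δ' δ a.base.left := by
    have h1 := (IsPullback.of_hasPullback (pullback.snd δ e₂) p₂).paste_horiz (IsPullback.of_hasPullback δ e₂)
    have h2 : a.base.left = p₂ ≫ e₂ := ha.trans pullback.condition
    rw [h2]
    exact h1
  have hDp : RelProj.IsHProjective δ' := Groth.Agent.S9693.result _ hproj₂ p₂
  let β' : z₂.base.left ⟶ D := hDδ.lift (a.base.left ≫ β) (𝟙 _) (by
    rw [Category.assoc, hβ1, Category.comp_id, Category.id_comp])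
  have hβ'1 : β' ≫ δ' = 𝟙 _ := hDδ.lift_snd _ _ _
  have hβ'2 : β' ≫ dd = a.base.left ≫ β := hDδ.lift_fst _ _ _
  have hδ' : IsStableFam δ' (fun _ : Fin 1 => β') (fun _ => hβ'1) h₂ :=
    isStableFam_of_isPullback _ hδ hDδ (fun _ => hβ'2)
  have hN' : IsLocallyNoetherian z.obj.base.left := hN
  have hTN : IsLocallyNoetherian z₂.base.left := by
    have h1 : LocallyOfFiniteType (p₁ ≫ e₁) := inferInstance
    exact LocallyOfFiniteType.isLocallyNoetherian (p₁ ≫ e₁)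
  obtain ⟨X, f, ν₁, ν₂, hν₁, hν₂, hU, hX⟩ := G2 z₂.f δ' h h₂ z₂.sect z₂.sect_f (fun _ => β') (fun _ => hβ'1) hz₂ hδ'
    hzp hDp
  let z' : (Mbar S h 1).obj := ⟨z₂, hz₂⟩
  let x' : (Mbar S (h + h₂) 0).obj := ⟨⟨z₂.base, X, f, fun i => i.elim0, fun i => i.elim0⟩, hX⟩
  refine ⟨z', ObjectProperty.homMk a, t', x', rfl, ?_, ?_, D, dd ≫ pullback.fst F.q B.hom, δ', β', ν₁, ν₂, ?_, hβ'1,
    ?_, ?_, ?_, ?_⟩
  · exact (p₁ ≫ e₁).isOpenMap
  · change (p₁ ≫ e₁) t' = t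
    rw [Scheme.Hom.comp_apply, ht'1]
    exact ht₁
  · have h3 : a.base.left ≫ B.hom = z₂.base.hom := Over.w a.base
    change IsPullback _ δ' F.q z₂.base.hom
    rw [← h3]
    exact hDδ.paste_horiz (IsPullback.of_hasPullback F.q B.hom)
  · have h3 : a.base.left ≫ B.hom = z₂.base.hom := Over.w a.base
    change _ = z₂.base.hom ≫ F.b 0
    rw [← Category.assoc, hβ'2, Category.assoc, hβ2, ← Category.assoc, h3]
  · simp only [eqToHom_refl, Over.id_left, Category.comp_id]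
    exact hν₁
  · simp only [eqToHom_refl, Over.id_left, Category.comp_id]
    exact hν₂
  · simp only [eqToHom_refl, Over.id_left, Category.comp_id]
    exact hU

theorem glueRel_RSEP (G2 : G2Fam.{u}) (HP : ProjLoc.{u}) (h : ℕ) :
    GlueRel (Mbar S h 1) (Mbar S (h + h₂) 0) (RSEP F (h + h₂) h) where
  bc := RSEP.bc F
  uniq := RSEP.uniq F
  ex := RSEP.ex F G2 HP

end sep

end rel

end K896.Bdry
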