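import Groth.Agent.CurvSt.K896.CoarseProper
import Groth.Agent.AlgSt.K747.EtAlias
import Groth.Agent.AlgSt.K747.DMDiag
import Groth.Agent.S16692
import Groth.Agent.S16696
import Groth.Agent.S16703

/-!
# S16727 from S16723 and S16726

`exists_coarse_proper_etale`: a separated Deligne-Mumford stack for the etale topology, of finite type and universally
closed over a locally Noetherian base, has a proper coarse moduli space (Keel-Mori, S16692).
-/

set_option autoImplicit false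
set_option backward.isDefEq.respectTransparency false
set_option backward.isDefEq.respectTransparency.types false

universe u

open CategoryTheory CategoryTheory.Limits AlgebraicGeometry Opposite

namespace K896.CoarseMbar

variable {S : Scheme.{u}} {𝒳 : AlgSt.Cat S}

theorem exists_coarse_proper_etale [IsLocallyNoetherian S] (hDM : AlgSt.IsDM Scheme.etalePrecoverage 𝒳)
    (hsep : AlgSt.IsSeparatedOver 𝒳)
    (hft : AlgSt.LocQ (AlgSp.LocP @LocallyOfFiniteType) (FibCat.toSelf 𝒳))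
    (hqc : AlgSt.IsQuasiCompactMor Scheme.etalePrecoverage (FibCat.toSelf 𝒳))
    (huc : AlgSt.IsUnivClosed Scheme.etalePrecoverage (FibCat.toSelf 𝒳)) :
    ∃ (M : AlgSp.Sp S) (π : 𝒳 ⥤ᵇ AlgSt.ofSp M), AlgSt.IsCoarseModuli π ∧
      ∀ s : M ⟶ (AlgSp.yon S).obj (Over.mk (𝟙 S)), AlgSp.IsProperMor s := by
  have hb := K747.EtFppf.boot2 S
  have key : ∀ (𝒵 : AlgSt.Cat S), AlgSt.IsAlgStack Scheme.fppfPrecoverage 𝒵 →
      AlgSt.IsAlgStack Scheme.etalePrecoverage 𝒵 := fun 𝒵 h => (K747.EtFppf.isAlgStack_iff hb).2 h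
  exact K896.CoarseProper.exists_coarse_proper (fun 𝒳 h hI => Groth.Agent.S16692.result S 𝒳 h hI)
    (fun 𝒳 h hI x => Groth.Agent.S16703.result S 𝒳 h hI x)
    (fun 𝒳 𝒳' h hI h' f hf hs hb M π hπ M' π' hπ' => Groth.Agent.S16696.result S 𝒳 𝒳' h hI h' f hf hs hb M π hπ M' π' hπ')
    ((K747.EtFppf.isAlgStack_iff hb).1 hDM.1) hsep (K747.DM.isDMOver_of_isDM hDM) hft
    (fun 𝒵 h𝒵 => hqc 𝒵 (key 𝒵 h𝒵)) (fun 𝒵 h𝒵 => huc 𝒵 (key 𝒵 h𝒵))

end K896.CoarseMbar
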