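import Groth.Agent.AlgSt.K608.KMLft
import Groth.Agent.AlgSt.K743.Coarse818

/-!
# Proper coarse moduli spaces

`exists_coarse_proper`: a separated Deligne-Mumford stack, of finite type and universally closed over a locally
Noetherian scheme `S`, has a coarse moduli space which is proper over `S` (any base, not only affine).
-/

set_option autoImplicit false
set_option backward.isDefEq.respectTransparency false
set_option backward.isDefEq.respectTransparency.types false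

universe u

open CategoryTheory CategoryTheory.Limits AlgebraicGeometry Opposite
open K734.Fib

namespace K896.CoarseProper

open K608.KMCls K608.KMGeom K608.KMLft

variable {S : Scheme.{u}} {𝒳 : AlgSt.Cat S} {M : AlgSp.Sp S}

theorem alg_self : Alg (FibCat.selfOver (Over S)) :=
  K740.SpDM.isAlgStack_of_repByAlgSp (K740.DiagRep.repByAlgSp_selfOver S)

theorem alg_T0 : Alg (AlgSt.ofSp (T0 S)) := K740.SpDM.isAlgStack_ofSp isAlgSpace_T0

/-- The structure morphism of the moduli space inherits every class with cancellation of surjections. -/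
theorem of_cls {P : ∀ {𝒳 𝒴 : AlgSt.Cat S}, (𝒳 ⥤ᵇ 𝒴) → Prop} (hP : Cls P)
    (hid : ∀ {𝒳 : AlgSt.Cat S}, Alg 𝒳 → P (BasedFunctor.id 𝒳)) (h𝒳 : Alg 𝒳) (hM : AlgSp.IsAlgSpace M)
    (π : 𝒳 ⥤ᵇ AlgSt.ofSp M) (hs : Function.Surjective (AlgSt.Points.map π)) (h : P (FibCat.toSelf 𝒳)) :
    P (AlgSt.ofSpMap (toT0 M)) := by
  obtain ⟨l, hl⟩ := K743.KM818.exists_toT0 S
  have hMS : Alg (AlgSt.ofSp M) := K740.SpDM.isAlgStack_ofSp hM
  have h1 : P (BasedFunctor.comp (FibCat.toSelf 𝒳) l) :=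
    hP.comp h𝒳 alg_self alg_T0 h (hP.of_equiv hid alg_self alg_T0 hl)
  obtain ⟨j⟩ := K743.KM818.iso_of_T0 (BasedFunctor.comp (FibCat.toSelf 𝒳) l)
    (BasedFunctor.comp π (AlgSt.ofSpMap (toT0 M)))
  exact hP.cancel h𝒳 hMS alg_T0 hs (hP.congr h𝒳 alg_T0 j h1)

theorem isUnivClosedMor_toT0 (h𝒳 : Alg 𝒳) (hM : AlgSp.IsAlgSpace M) (π : 𝒳 ⥤ᵇ AlgSt.ofSp M)
    (hs : Function.Surjective (AlgSt.Points.map π))
    (h : AlgSt.IsUnivClosed Scheme.fppfPrecoverage (FibCat.toSelf 𝒳)) : AlgSp.IsUnivClosedMor (toT0 M) := by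
  have h1 := of_cls cls_univClosed (fun h => univClosed_id h) h𝒳 hM π hs h
  exact repByAlgSpWith_toT0_iff _
    ((Groth.Agent.S12828.result (K740.SpDM.isAlgStack_ofSp hM) alg_T0 _ (repByAlgSp1_toT0 hM)).2 h1)

theorem isQuasiCompactMor_toT0 (h𝒳 : Alg 𝒳) (hM : AlgSp.IsAlgSpace M) (π : 𝒳 ⥤ᵇ AlgSt.ofSp M)
    (hs : Function.Surjective (AlgSt.Points.map π))
    (h : AlgSt.IsQuasiCompactMor Scheme.fppfPrecoverage (FibCat.toSelf 𝒳)) : AlgSp.IsQuasiCompactMor (toT0 M) := by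
  have h1 := of_cls cls_qc (fun h => qc_id h) h𝒳 hM π hs h
  exact repByAlgSpWith_toT0_iff _
    ((Groth.Agent.S12981.result S _ _ (K740.SpDM.isAlgStack_ofSp hM) alg_T0 _ (repByAlgSp1_toT0 hM)).2 h1)

/-- A separated Deligne-Mumford stack, locally of finite type, quasi-compact and universally closed over a locally
Noetherian scheme, has a coarse moduli space proper over the base. -/
theorem exists_coarse_proper [IsLocallyNoetherian S] (i2 : I16692 S) (i3 : I16703 S) (i6 : I16696 S) (h𝒳 : Alg 𝒳)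
    (hsep : AlgSt.IsSeparatedOver 𝒳) (hDM : AlgSt.IsDMOver 𝒳)
    (hft : AlgSt.LocQ (AlgSp.LocP @LocallyOfFiniteType) (FibCat.toSelf 𝒳))
    (hqc : AlgSt.IsQuasiCompactMor Scheme.fppfPrecoverage (FibCat.toSelf 𝒳))
    (huc : AlgSt.IsUnivClosed Scheme.fppfPrecoverage (FibCat.toSelf 𝒳)) :
    ∃ (M : AlgSp.Sp S) (π : 𝒳 ⥤ᵇ AlgSt.ofSp M), AlgSt.IsCoarseModuli π ∧
      ∀ s : M ⟶ (AlgSp.yon S).obj (Over.mk (𝟙 S)), AlgSp.IsProperMor s := by
  have hI := K743.KM818.finite_inertia hsep hDM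
  obtain ⟨M, π, hπ, -, -, hπh⟩ := i2 𝒳 h𝒳 hI
  have hM : AlgSp.IsAlgSpace M := hπ.1.1
  have hsurj := surjective_of_univHomeo hM hπh
  have hY : AlgSp.IsAlgSpace (T0 S) := isAlgSpace_T0
  obtain ⟨l, hl⟩ := K743.KM818.exists_toT0 S
  have hp : AlgSt.LocQ (AlgSp.LocP @LocallyOfFiniteType) (BasedFunctor.comp (FibCat.toSelf 𝒳) l) := by
    have hre := K735.Top.locP_respectsIso (S := S) @LocallyOfFiniteType
    have hl' : AlgSt.RepByAlgSpWith (AlgSp.LocP @LocallyOfFiniteType) l :=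
      (K740.SpDM.repByAlgSpWith_comp_equiv (x := BasedFunctor.id _) hl).2 (K741.repByAlgSpWith_id _ fun U =>
        ((K742.nice_lft.yon_iff (𝟙 U)).2 (by change LocallyOfFiniteType (𝟙 _); infer_instance) :
          AlgSp.LocP _ ((AlgSp.yon S).map (𝟙 U))))
    exact K742.EvQ.locQ_comp K742.nice_lft h𝒳.isStack.1 alg_self.isStack.1 alg_T0.isStack.1 h𝒳.atlas
      alg_self.atlas alg_T0.atlas _ _ hft
      (K742.EvQ.locQ_of_rep K742.nice_lft alg_self.isStack.1 alg_T0.isStack.1 alg_self.atlas alg_T0.atlas l hl')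
  refine ⟨M, π, ⟨hπ.1, main16706 i2 𝒳 h𝒳 hI M π hπ.1⟩, fun s => ?_⟩
  have hs : s = toT0 M := (K596.QC2.isTerminalYon S).hom_ext _ _
  subst hs
  refine ⟨K608.SepAbs.isSeparatedMor_of_isSeparatedSp _ (main16695 i2 𝒳 h𝒳 hI M π hπ.1 hsep), ⟨?_, ?_⟩, ?_⟩
  · exact main16693 i2 i3 i6 𝒳 h𝒳 hI (T0 S) hY
      ⟨Over.mk (𝟙 S), 𝟙 _, AlgSp.repWith_id _ _, AlgSp.repWith_id _ _, inferInstanceAs (IsLocallyNoetherian S)⟩
      _ hp M π hπ.1 (toT0 M) (K743.KM818.iso_of_T0 _ _)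
  · exact isQuasiCompactMor_toT0 h𝒳 hM π hsurj hqc
  · exact isUnivClosedMor_toT0 h𝒳 hM π hsurj huc

end K896.CoarseProper
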