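import Groth.Agent.CurvSt.K896.Trans
import Groth.Agent.CurvesC.QuotZero
import Mathlib.RingTheory.Unramified.Locus

/-!
# Unramifiedness of a reduced zero-dimensional closed subscheme at points with finite separable residue fields
-/

set_option autoImplicit false
universe u
open CategoryTheory CategoryTheory.Limits AlgebraicGeometry TopologicalSpace IsLocalRing

namespace K896.Unram

open Groth.Agent.CurvesB.Node Groth.Agent.CurvesC.QuotZero

variable {k : Type u} [Field k]

theorem surjective_residueFieldMap {T X : Scheme.{u}} (g : T ⟶ X) [IsClosedImmersion g] (t : T) :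
    Function.Surjective (g.residueFieldMap t).hom := by
  intro y
  obtain ⟨z, rfl⟩ := IsLocalRing.residue_surjective y
  obtain ⟨w, rfl⟩ := (inferInstance : IsClosedImmersion g).stalkMap_surjective t z
  exact ⟨X.residue (g t) w, congr($(Scheme.residue_residueFieldMap g t) w)⟩

theorem fu_residueField {T X : Scheme.{u}} (g : T ⟶ X) [IsClosedImmersion g] (q : X ⟶ Spec (CommRingCat.of k))
    [LocallyOfFiniteType q] (t : T) (h : ResFS q (g t)) :
    @Algebra.FormallyUnramified k (T.residueField t) _ _ (@Curv2.resAlgebra k _ T ⟨g ≫ q⟩ t) := by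
  let _ := @Curv2.resAlgebra k _ X ⟨q⟩ (g t)
  let _ := @Curv2.resAlgebra k _ T ⟨g ≫ q⟩ t
  have h1 : Algebra.FormallyUnramified k (X.residueField (g t)) := (resFS_iff q (g t)).mp h
  have hc : ∀ c : k, (g.residueFieldMap t).hom (algebraMap k (X.residueField (g t)) c) =
      algebraMap k (T.residueField t) c := fun c =>
    K315.NodeEtale.residueFieldMap_resMap g (g ≫ q) q (RingHom.id k) (by
      rw [show CommRingCat.ofHom (RingHom.id k) = 𝟙 _ from rfl, Spec.map_id, Category.comp_id]) t c
  let φ : X.residueField (g t) →ₐ[k] T.residueField t := { (g.residueFieldMap t).hom with commutes' := hc }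
  exact Algebra.FormallyUnramified.of_surjective φ (surjective_residueFieldMap g t)

theorem formallyUnramified_glob {T X : Scheme.{u}} [IsAffine T] (g : T ⟶ X) [IsClosedImmersion g]
    (q : X ⟶ Spec (CommRingCat.of k)) [LocallyOfFiniteType q]
    (hf : ∀ t, IsField (T.presheaf.stalk t)) (hres : ∀ t, ResFS q (g t)) :
    @Algebra.FormallyUnramified k Γ(T, ⊤) _ _ (glob (g ≫ q)).toAlgebra := by
  let _ : Algebra k Γ(T, ⊤) := (glob (g ≫ q)).toAlgebra
  rw [Algebra.formallyUnramified_iff_forall]
  intro p
  let hT := isAffineOpen_top T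
  let t : T := hT.fromSpec p
  have hmem : hT.fromSpec p ∈ (⊤ : T.Opens) := trivial
  let _ : Algebra Γ(T, ⊤) (T.presheaf.stalk t) := TopCat.Presheaf.algebra_section_stalk T.presheaf (⟨t, hmem⟩ : (⊤ : T.Opens))
  have hloc : IsLocalization.AtPrime (T.presheaf.stalk t) p.asIdeal := hT.isLocalization_stalk' p hmem
  let _ : Algebra k (T.presheaf.stalk t) := @Curv2.stalkAlgebra k _ T ⟨g ≫ q⟩ t
  let _ : Algebra k (T.residueField t) := @Curv2.resAlgebra k _ T ⟨g ≫ q⟩ t
  have htow : IsScalarTower k Γ(T, ⊤) (T.presheaf.stalk t) := IsScalarTower.of_algebraMap_eq' rfl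
  have h1 := fu_residueField g q t (hres t)
  let r : T.presheaf.stalk t →ₐ[k] T.residueField t := { (T.residue t).hom with commutes' := fun _ => rfl }
  have hr : Function.Bijective r := by
    let _ := (hf t).toField
    exact ⟨(T.residue t).hom.injective, IsLocalRing.residue_surjective⟩
  have h2 : Algebra.FormallyUnramified k (T.presheaf.stalk t) :=
    Algebra.FormallyUnramified.of_equiv (AlgEquiv.ofBijective r hr).symm
  let e : T.presheaf.stalk t ≃ₐ[Γ(T, ⊤)] Localization.AtPrime p.asIdeal :=
    IsLocalization.algEquiv p.asIdeal.primeCompl _ _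
  exact Algebra.FormallyUnramified.of_equiv (e.restrictScalars k)

end K896.Unram
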