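import Groth.Agent.CurvSt.K896.CompG
import Groth.Agent.CurvSt.K896.Unram
import Groth.Agent.CurvSt.K896.PinchNode
import Groth.Agent.Sga3C.DimTop
import Groth.Agent.S1590
import Mathlib.LinearAlgebra.Dimension.Finrank

/-!
# Contraction of a rational tail or bridge of a nodal curve over any field
-/

set_option autoImplicit false
universe u
open CategoryTheory CategoryTheory.Limits AlgebraicGeometry TopologicalSpace IsLocalRing

namespace K896.ConNodal

open Groth.Agent Groth.Agent.CurvesC.CompGeom Groth.Agent.CurvesC.QuotZero Groth.Agent.CurvesC.NodalPos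
  Groth.Agent.Divis.CartierBasic Groth.Agent.CurvesB.Node K896.Contract K896.PinchNode K896.Trans

variable (k : Type u) [Field k] (X : Scheme.{u}) [X.Over (Spec (CommRingCat.of k))]
  [IsProper (X ↘ (Spec (CommRingCat.of k)))] (hdim : topologicalKrullDim X = 1) (hX : Curv2.AtWorstNodal k X)
  (C : Set X) (hC : C ∈ irreducibleComponents (X : Type u))

/-- The map from the intersection to the spectrum of the functions on the component. -/
noncomputable abbrev jS : (IC X C hC ⊔ IX' X C hC).subscheme ⟶ Spec Γ((IC X C hC).subscheme, ⊤) :=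
  iC (IC X C hC) (IX' X C hC) ≫ (IC X C hC).subscheme.toSpecΓ

theorem mem_inter [IsNoetherian X] (t : (IC X C hC ⊔ IX' X C hC).subscheme) :
    (IC X C hC ⊔ IX' X C hC).subschemeι t ∈ C ∩ closure Cᶜ := by
  rw [← range_T X C hC]
  exact ⟨t, rfl⟩

theorem ι_iX (t : (IC X C hC ⊔ IX' X C hC).subscheme) :
    (IX' X C hC).subschemeι (iX (IC X C hC) (IX' X C hC) t) = (IC X C hC ⊔ IX' X C hC).subschemeι t := by
  rw [← Scheme.Hom.comp_apply, Scheme.IdealSheafData.inclusion_subschemeι]

include k in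
theorem isField_comp : IsField Γ((IC X C hC).subscheme, ⊤) := by
  let _ := overC k X C hC
  have hP : IsProper ((IC X C hC).subscheme ↘ (Spec (CommRingCat.of k))) := inferInstanceAs (IsProper (gC k X C hC))
  exact isField_mm k (IC X C hC).subscheme

include k in
theorem isField_S : IsField Γ(Spec Γ((IC X C hC).subscheme, ⊤), ⊤) :=
  MulEquiv.isField (isField_comp k X C hC)
    (Scheme.ΓSpecIso Γ((IC X C hC).subscheme, ⊤)).commRingCatIsoToRingEquiv.toMulEquiv

include hdim hX in
theorem isField_stalk_T [IsReduced X] (t : (IC X C hC ⊔ IX' X C hC).subscheme) :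
    IsField ((IC X C hC ⊔ IX' X C hC).subscheme.presheaf.stalk t) := by
  have hN : IsNoetherian X := Groth.Agent.CurvesC.CurveCoh.noetherianSpace k X
  let e := Groth.Agent.Divis.CartierStalk.stalkQuotEquiv (IC X C hC ⊔ IX' X C hC) t
  have h1 := (CompG.local_props k X hdim hX C hC _ (mem_inter X C hC t)).2.1
  refine MulEquiv.isField ?_ e.symm.toMulEquiv
  rw [← Ideal.Quotient.maximal_ideal_iff_isField_quotient, h1]
  exact maximalIdeal.isMaximal _

include hdim hX in
theorem pr_stalk [IsReduced X] (t : (IC X C hC ⊔ IX' X C hC).subscheme) :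
    PR ((IX' X C hC).subscheme.presheaf.stalk (iX (IC X C hC) (IX' X C hC) t)) := by
  have hN : IsNoetherian X := Groth.Agent.CurvesC.CurveCoh.noetherianSpace k X
  let x' := iX (IC X C hC) (IX' X C hC) t
  have hx' : (IX' X C hC).subschemeι x' ∈ C ∩ closure Cᶜ := by
    rw [ι_iX]; exact mem_inter X C hC t
  obtain ⟨-, -, h1, h2⟩ := CompG.local_props k X hdim hX C hC _ hx'
  let e := Groth.Agent.Divis.CartierStalk.stalkQuotEquiv (IX' X C hC) x'
  have h3 : IsRegularLocalRing ((IX' X C hC).subscheme.presheaf.stalk x') := IsRegularLocalRing.of_ringEquiv e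
  have h4 : ringKrullDim ((IX' X C hC).subscheme.presheaf.stalk x') ≤ 1 :=
    (CurvesA.DimOne.ringKrullDim_stalk_le _ x').trans (CompG.dim_X'_le X hdim C hC)
  obtain ⟨h5, h6⟩ := Ega43.DedekindOpen.isDomain_isPrincipalIdealRing_of_regular_dim_le_one _ h4
  refine ⟨h5, h6.principal _, fun h7 => h2 ?_⟩
  have h8 : IsField ((IX' X C hC).subscheme.presheaf.stalk x') := IsLocalRing.isField_iff_maximalIdeal_eq.mpr h7
  exact MulEquiv.isField h8 e.toMulEquiv

include hdim hX in
theorem resFS_T [IsReduced X] (t : (IC X C hC ⊔ IX' X C hC).subscheme) :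
    ResFS (X ↘ (Spec (CommRingCat.of k))) ((IC X C hC ⊔ IX' X C hC).subschemeι t) := by
  have hN : IsNoetherian X := Groth.Agent.CurvesC.CurveCoh.noetherianSpace k X
  exact ((isNode_iff_resFS k X _).mp (CompG.local_props k X hdim hX C hC _ (mem_inter X C hC t)).1).1

include hdim hX in
theorem unram [IsReduced X] [IsAffine (IC X C hC ⊔ IX' X C hC).subscheme] :
    (jS X C hC).appTop.hom.FormallyUnramified := by
  have h1 := Unram.formallyUnramified_glob (IC X C hC ⊔ IX' X C hC).subschemeι (X ↘ (Spec (CommRingCat.of k)))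
    (isField_stalk_T k X hdim hX C hC) (resFS_T k X hdim hX C hC)
  let ρ : Spec Γ((IC X C hC).subscheme, ⊤) ⟶ Spec (CommRingCat.of k) :=
    Spec.map ((Scheme.ΓSpecIso (CommRingCat.of k)).inv ≫ ((IC X C hC).subschemeι ≫ (X ↘ (Spec (CommRingCat.of k)))).appTop)
  have hρ : (IC X C hC).subscheme.toSpecΓ ≫ ρ = (IC X C hC).subschemeι ≫ (X ↘ (Spec (CommRingCat.of k))) :=
    toSpecΓ_comp _
  have hj : jS X C hC ≫ ρ = (IC X C hC ⊔ IX' X C hC).subschemeι ≫ (X ↘ (Spec (CommRingCat.of k))) := by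
    rw [Category.assoc, hρ, ← Category.assoc]
    congr 1
    exact Scheme.IdealSheafData.inclusion_subschemeι _
  have h2 : (glob ((IC X C hC ⊔ IX' X C hC).subschemeι ≫ (X ↘ (Spec (CommRingCat.of k))))) =
      (jS X C hC).appTop.hom.comp (glob ρ) := by
    ext c
    rw [← hj, glob_comp]
    rfl
  have h3 : (glob ((IC X C hC ⊔ IX' X C hC).subschemeι ≫ (X ↘ (Spec (CommRingCat.of k))))).FormallyUnramified := h1
  rw [h2] at h3
  exact RingHom.FormallyUnramified.of_comp h3

/-- The degree of the intersection over the constants. -/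
theorem finrank_jS :
    @Module.finrank Γ(Spec Γ((IC X C hC).subscheme, ⊤), ⊤) Γ((IC X C hC ⊔ IX' X C hC).subscheme, ⊤) _ _
      (jS X C hC).appTop.hom.toAlgebra.toModule = δ X C hC := by
  let _ : Algebra Γ(Spec Γ((IC X C hC).subscheme, ⊤), ⊤) Γ((IC X C hC ⊔ IX' X C hC).subscheme, ⊤) :=
    (jS X C hC).appTop.hom.toAlgebra
  let _ : Algebra Γ((IC X C hC).subscheme, ⊤) Γ((IC X C hC ⊔ IX' X C hC).subscheme, ⊤) :=
    (jT X C hC).appTop.hom.toAlgebra
  have h := Algebra.rank_eq_of_equiv_equiv (R := Γ(Spec Γ((IC X C hC).subscheme, ⊤), ⊤))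
    (R' := Γ((IC X C hC).subscheme, ⊤))
    (S := Γ((IC X C hC ⊔ IX' X C hC).subscheme, ⊤)) (S' := Γ((IC X C hC ⊔ IX' X C hC).subscheme, ⊤))
    (Scheme.ΓSpecIso Γ((IC X C hC).subscheme, ⊤)).commRingCatIsoToRingEquiv (RingEquiv.refl _) (by
      have h1 : (jS X C hC).appTop = (Scheme.ΓSpecIso Γ((IC X C hC).subscheme, ⊤)).hom ≫ (jT X C hC).appTop := by
        rw [← Scheme.toSpecΓ_appTop, ← Scheme.Hom.comp_appTop]
      ext r
      exact (congr($h1 r)).symm)
  have h2 : @Module.finrank Γ((IC X C hC).subscheme, ⊤) Γ((IC X C hC ⊔ IX' X C hC).subscheme, ⊤) _ _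
      (jT X C hC).appTop.hom.toAlgebra.toModule = δ X C hC := rfl
  rw [← h2]
  exact congrArg Cardinal.toNat h

theorem exists_of_isPullback {P X Y Z : Scheme.{u}} {fst : P ⟶ X} {snd : P ⟶ Y} {f : X ⟶ Z} {g : Y ⟶ Z}
    (h : IsPullback fst snd f g) (x : X) (y : Y) (e : f x = g y) : ∃ p : P, fst p = x ∧ snd p = y := by
  obtain ⟨z, h1, h2⟩ := Scheme.Pullback.exists_preimage_pullback x y e
  refine ⟨h.isoPullback.inv z, ?_, ?_⟩
  · rw [← Scheme.Hom.comp_apply, h.isoPullback_inv_fst, h1]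
  · rw [← Scheme.Hom.comp_apply, h.isoPullback_inv_snd, h2]

section Target

variable {X} {C} {hC} {Y : Scheme.{u}} {c : X ⟶ Y} {b : Spec Γ((IC X C hC).subscheme, ⊤) ⟶ Y}

theorem apply_mem (h : IsContraction (IC X C hC) (IX' X C hC) c b) {x : X} (hx : x ∈ C) : c x ∈ Set.range b := by
  rw [← range_C X C hC] at hx
  obtain ⟨z, rfl⟩ := hx
  exact ⟨(IC X C hC).subscheme.toSpecΓ z, by rw [← Scheme.Hom.comp_apply, ← h.w, Scheme.Hom.comp_apply]⟩

theorem mem_of_apply [IsNoetherian X] (h : IsContraction (IC X C hC) (IX' X C hC) c b) {x : X}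
    (hx : c x ∈ Set.range b) : x ∈ C := by
  by_contra hxC
  have h1 : x ∈ Set.range (IX' X C hC).subschemeι := by
    rw [Scheme.IdealSheafData.range_subschemeι, support_IX']
    exact subset_closure hxC
  obtain ⟨x', rfl⟩ := h1
  obtain ⟨s, hs⟩ := hx
  obtain ⟨t, ht, -⟩ := exists_of_isPullback h.pb x' s (by rw [Scheme.Hom.comp_apply, hs])
  apply hxC
  rw [← ht, ι_iX]
  exact (mem_inter X C hC t).1

theorem subsingleton_image (h : IsContraction (IC X C hC) (IX' X C hC) c b)
    (hs : Subsingleton (Spec Γ((IC X C hC).subscheme, ⊤))) : (c.base '' C).Subsingleton := by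
  rintro _ ⟨x, hx, rfl⟩ _ ⟨y, hy, rfl⟩
  obtain ⟨s, hs1⟩ := apply_mem h hx
  obtain ⟨s', hs2⟩ := apply_mem h hy
  rw [Subsingleton.elim s' s] at hs2
  exact hs1.symm.trans hs2

theorem preimage_eq_bot (h : IsContraction (IC X C hC) (IX' X C hC) c b)
    (hs : Subsingleton (Spec Γ((IC X C hC).subscheme, ⊤))) (U : Y.Opens) (hU : Disjoint (U : Set Y) (c.base '' C)) :
    b ⁻¹ᵁ U = ⊥ := by
  ext s
  simp only [Opens.coe_bot, Set.mem_empty_iff_false, iff_false]
  intro hsU
  obtain ⟨x, hx⟩ := hC.1.nonempty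
  obtain ⟨s', hs'⟩ := apply_mem h hx
  rw [Subsingleton.elim s' s] at hs'
  exact Set.disjoint_left.mp hU hsU ⟨x, hx, hs'.symm⟩

theorem surjective [IsNoetherian X] (h : IsContraction (IC X C hC) (IX' X C hC) c b)
    (hs : Subsingleton (Spec Γ((IC X C hC).subscheme, ⊤)))
    (hT : Nonempty (IC X C hC ⊔ IX' X C hC).subscheme) : Surjective ((IX' X C hC).subschemeι ≫ c) := by
  refine ⟨fun y => ?_⟩
  rcases h.surj y with h1 | ⟨s, rfl⟩
  · exact h1
  · obtain ⟨t⟩ := hT
    refine ⟨iX (IC X C hC) (IX' X C hC) t, ?_⟩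
    rw [← Scheme.Hom.comp_apply, h.ferr.w, Scheme.Hom.comp_apply]
    congr 1
    exact Subsingleton.elim _ _

theorem isFinite (h : IsContraction (IC X C hC) (IX' X C hC) c b) : IsFinite ((IX' X C hC).subschemeι ≫ c) := by
  have := h.fin
  exact K838.FerrProps.isFinite_left h.ferr

theorem topologicalKrullDim_eq [IsNoetherian X] (h : IsContraction (IC X C hC) (IX' X C hC) c b)
    (hs : Subsingleton (Spec Γ((IC X C hC).subscheme, ⊤)))
    (hT : Nonempty (IC X C hC ⊔ IX' X C hC).subscheme) :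
    topologicalKrullDim Y = topologicalKrullDim (IX' X C hC).subscheme := by
  have h1 := surjective h hs hT
  have h2 := isFinite h
  exact (Sga3C.DimTop.topologicalKrullDim_eq_of_isIntegralHom ((IX' X C hC).subschemeι ≫ c)).symm

variable {qY : Y ⟶ Spec (CommRingCat.of k)}

include hdim hX in
/-- The residue field at the image of the component. -/
theorem resFS_pt [IsReduced X] [IsNoetherian X] (h : IsContraction (IC X C hC) (IX' X C hC) c b)
    (hq : c ≫ qY = X ↘ (Spec (CommRingCat.of k)))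
    (hs : Subsingleton (Spec Γ((IC X C hC).subscheme, ⊤)))
    (hT : Nonempty (IC X C hC ⊔ IX' X C hC).subscheme) (s : Spec Γ((IC X C hC).subscheme, ⊤)) :
    ResFS qY (b s) := by
  obtain ⟨t⟩ := hT
  have h1 := resFS_T k X hdim hX C hC t
  rw [← hq] at h1
  have h2 := resFS_of_map c qY _ h1
  have h3 : c ((IC X C hC ⊔ IX' X C hC).subschemeι t) = b s := by
    obtain ⟨s', hs'⟩ := apply_mem h (mem_inter X C hC t).1
    rw [← hs', Subsingleton.elim s' s]
  rwa [h3] at h2

include hdim hX in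
theorem isNode_pt [IsReduced X] [IsNoetherian X] (h : IsContraction (IC X C hC) (IX' X C hC) c b)
    [LocallyOfFiniteType qY]
    (hq : c ≫ qY = X ↘ (Spec (CommRingCat.of k)))
    (hs : Subsingleton (Spec Γ((IC X C hC).subscheme, ⊤)))
    (hδ : δ X C hC = 2) (s : Spec Γ((IC X C hC).subscheme, ⊤)) :
    @Curv2.IsNode k _ Y ⟨qY⟩ (b s) := by
  let _ : Y.Over (Spec (CommRingCat.of k)) := ⟨qY⟩
  have : LocallyOfFiniteType (Y ↘ (Spec (CommRingCat.of k))) := ‹LocallyOfFiniteType qY›
  obtain ⟨hf1, hf2, hf3⟩ := CompG.inter_props k X hdim hX C hC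
  have hA : IsAffine (IC X C hC ⊔ IX' X C hC).subscheme := inferInstance
  have hT : Nonempty (IC X C hC ⊔ IX' X C hC).subscheme := by
    by_contra hcon
    rw [not_nonempty_iff] at hcon
    have h1 : Subsingleton Γ((IC X C hC ⊔ IX' X C hC).subscheme, ⊤) := inferInstance
    have h2 : δ X C hC = 0 := by
      have h3 := isField_comp k X C hC
      let _ := h3.toField
      let _ : Module Γ((IC X C hC).subscheme, ⊤) Γ((IC X C hC ⊔ IX' X C hC).subscheme, ⊤) :=
        Module.compHom _ (jT X C hC).appTop.hom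
      exact Module.finrank_zero_of_subsingleton
    omega
  have hcl := h.closed
  have hLN : IsLocallyNoetherian (IX' X C hC).subscheme :=
    LocallyOfFiniteType.isLocallyNoetherian ((IX' X C hC).subschemeι ≫ (X ↘ (Spec (CommRingCat.of k))))
  rw [isNode_iff_resFS k Y (b s)]
  exact ⟨resFS_pt k hdim hX h hq hs hT s, nodeLike h.ferr (isField_S k X C hC) (unram k X hdim hX C hC)
    ((finrank_jS X C hC).trans hδ) (pr_stalk k X hdim hX C hC) s⟩

/-- The complement of the point to which the component is contracted. -/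
noncomputable def offPt (h : IsContraction (IC X C hC) (IX' X C hC) c b) : Y.Opens :=
  ⟨(Set.range b)ᶜ, by
    have := h.closed
    exact b.isClosedEmbedding.isClosed_range.isOpen_compl⟩

theorem preimage_offPt (h : IsContraction (IC X C hC) (IX' X C hC) c b) : b ⁻¹ᵁ (offPt h) = ⊥ := by
  ext s
  simp only [Opens.coe_bot, Set.mem_empty_iff_false, iff_false]
  exact fun hs => hs ⟨s, rfl⟩

theorem isIso_offPt (hIJ : IC X C hC ⊓ IX' X C hC = ⊥) (h : IsContraction (IC X C hC) (IX' X C hC) c b) :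
    IsIso (c ∣_ (offPt h)) := h.isIso_restrict hIJ _ (preimage_offPt h)

theorem injective_off (hIJ : IC X C hC ⊓ IX' X C hC = ⊥) (h : IsContraction (IC X C hC) (IX' X C hC) c b)
    {x x' : X} (hx : c x ∉ Set.range b) (hxx' : c x' = c x) : x' = x := by
  have h1 := isIso_offPt hIJ h
  have hx' : c x' ∉ Set.range b := by rwa [hxx']
  have h2 : (c ∣_ (offPt h)) ⟨x', hx'⟩ = (c ∣_ (offPt h)) ⟨x, hx⟩ := by
    apply (offPt h).ι.injective
    rw [← Scheme.Hom.comp_apply, ← Scheme.Hom.comp_apply, morphismRestrict_ι]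
    exact hxx'
  have h3 := (c ∣_ (offPt h)).injective h2
  exact congrArg Subtype.val h3

theorem exists_eq (h : IsContraction (IC X C hC) (IX' X C hC) c b) {y : Y} (hy : y ∉ Set.range b) :
    ∃ x : X, c x = y := by
  rcases h.surj y with ⟨x', hx'⟩ | h1
  · exact ⟨(IX' X C hC).subschemeι x', by rw [← Scheme.Hom.comp_apply, hx']⟩
  · exact absurd h1 hy

theorem good_off (hIJ : IC X C hC ⊓ IX' X C hC = ⊥) (h : IsContraction (IC X C hC) (IX' X C hC) c b)
    [LocallyOfFiniteType qY] (hq : c ≫ qY = X ↘ (Spec (CommRingCat.of k))) (x : X) (hx : c x ∉ Set.range b) :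
    (SmAt (X ↘ (Spec (CommRingCat.of k))) x ↔ SmAt qY (c x)) ∧
      (Curv2.IsNode k X x ↔ @Curv2.IsNode k _ Y ⟨qY⟩ (c x)) := by
  have h1 := isIso_offPt hIJ h
  let _ : Y.Over (Spec (CommRingCat.of k)) := ⟨qY⟩
  have : LocallyOfFiniteType (Y ↘ (Spec (CommRingCat.of k))) := ‹LocallyOfFiniteType qY›
  let W := c ⁻¹ᵁ (offPt h)
  let w : W := ⟨x, hx⟩
  let u : W.toScheme ⟶ Y := (c ∣_ (offPt h)) ≫ (offPt h).ι
  have hu : u = W.ι ≫ c := morphismRestrict_ι _ _
  have hu' : IsOpenImmersion u := inferInstance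
  have hw1 : W.ι w = x := rfl
  have hw2 : u w = c x := by rw [hu]; rfl
  have hqq : u ≫ qY = W.ι ≫ (X ↘ (Spec (CommRingCat.of k))) := by rw [hu, Category.assoc, hq]
  constructor
  · have h2 := smAt_iff W.ι (X ↘ (Spec (CommRingCat.of k))) w
    have h3 := smAt_iff u qY w
    rw [hqq, hw2] at h3
    exact h2.symm.trans h3
  · have h2 := K315.NodeEtale.isNode_iff_of_etale k X W.ι w
    have h3 := K315.NodeEtale.isNode_iff_of_etale k Y u w
    have h4 : u ≫ (Y ↘ (Spec (CommRingCat.of k))) = W.ι ≫ (X ↘ (Spec (CommRingCat.of k))) := hqq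
    rw [h4, hw2] at h3
    exact h2.trans h3.symm

theorem isClosed_preimage (hIJ : IC X C hC ⊓ IX' X C hC = ⊥) (h : IsContraction (IC X C hC) (IX' X C hC) c b)
    {x : X} (hx : c x ∉ Set.range b) (hcl : IsClosed ({c x} : Set Y)) : IsClosed ({x} : Set X) := by
  have h1 : ({x} : Set X) = c ⁻¹' {c x} := by
    ext x'
    constructor
    · rintro rfl; rfl
    · intro hx'
      exact injective_off hIJ h hx hx'
  rw [h1]
  exact hcl.preimage c.continuous

theorem atWorstNodal_of (hX : Curv2.AtWorstNodal k X) (hIJ : IC X C hC ⊓ IX' X C hC = ⊥)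
    (h : IsContraction (IC X C hC) (IX' X C hC) c b)
    [LocallyOfFiniteType qY] (hq : c ≫ qY = X ↘ (Spec (CommRingCat.of k)))
    (hpt : ∀ s, SmAt qY (b s) ∨ @Curv2.IsNode k _ Y ⟨qY⟩ (b s)) : @Curv2.AtWorstNodal k _ Y ⟨qY⟩ := by
  intro y hy
  by_cases hyb : y ∈ Set.range b
  · obtain ⟨s, rfl⟩ := hyb
    exact hpt s
  · obtain ⟨x, rfl⟩ := exists_eq h hyb
    obtain ⟨h1, h2⟩ := good_off k hIJ h hq x hyb
    rcases hX x (isClosed_preimage hIJ h hyb hy) with h3 | h3
    · exact Or.inl (h1.mp h3)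
    · exact Or.inr (h2.mp h3)

end Target

section Rest

include k in
theorem isReduced_X' [IsReduced X] : IsReduced (IX' X C hC).subscheme := by
  have hN : IsNoetherian X := Groth.Agent.CurvesC.CurveCoh.noetherianSpace k X
  have h1 : IX' X C hC = Scheme.IdealSheafData.vanishingIdeal (IX' X C hC).support := by
    rw [Scheme.IdealSheafData.vanishingIdeal_support, CompMeet.radical_ker_ι]
  rw [h1]
  exact Ega1.ReducedSub.isReduced_subscheme_vanishingIdeal _

/-- The components of the rest of the curve are components of the curve. -/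
theorem exists_component [IsNoetherian X] (Z : Set (IX' X C hC).subscheme)
    (hZ : Z ∈ irreducibleComponents ((IX' X C hC).subscheme : Type u)) :
    ∃ E ∈ irreducibleComponents (X : Type u), E ≠ C ∧ (IX' X C hC).subschemeι '' Z = E := by
  obtain ⟨z, hz⟩ := QuasiSober.sober hZ.1 (isClosed_of_mem_irreducibleComponents Z hZ)
  have hzX : (IX' X C hC).subschemeι z ∈ closure Cᶜ := by
    rw [← support_IX' X C hC, ← Scheme.IdealSheafData.range_subschemeι]
    exact ⟨z, rfl⟩
  obtain ⟨E, hE, hEC, hzE⟩ := (CompMeet.mem_closure_compl_iff hC _).mp hzX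
  have hEr : E ⊆ Set.range (IX' X C hC).subschemeι := by
    intro v hv
    rw [Scheme.IdealSheafData.range_subschemeι, support_IX']
    exact (CompMeet.mem_closure_compl_iff hC v).mpr ⟨E, hE, hEC, hv⟩
  have hemb := (IX' X C hC).subschemeι.isClosedEmbedding
  refine ⟨E, hE, hEC, ?_⟩
  have hirr : IsIrreducible ((IX' X C hC).subschemeι ⁻¹' E) := by
    obtain ⟨w, hw⟩ := QuasiSober.sober hE.1 (isClosed_of_mem_irreducibleComponents E hE)
    obtain ⟨w', rfl⟩ := hEr hw.mem
    have h2 : (IX' X C hC).subschemeι ⁻¹' E = closure {w'} := by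
      rw [hemb.isInducing.closure_eq_preimage_closure_image, Set.image_singleton, hw.def]
    rw [h2]
    exact isIrreducible_singleton.closure
  have hle : Z ⊆ (IX' X C hC).subschemeι ⁻¹' E := by
    intro v hv
    exact (hz.specializes hv).mem_closed ((isClosed_of_mem_irreducibleComponents E hE).preimage
      (IX' X C hC).subschemeι.continuous) hzE
  have heq : Z = (IX' X C hC).subschemeι ⁻¹' E := hle.antisymm (hZ.2 hirr hle)
  rw [heq, Set.image_preimage_eq_of_subset hEr]

theorem pure_X' [IsNoetherian X] [ConnectedSpace X] (hdim : topologicalKrullDim X = 1)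
    (Z : Set (IX' X C hC).subscheme)
    (hZ : Z ∈ irreducibleComponents ((IX' X C hC).subscheme : Type u)) : topologicalKrullDim Z = 1 := by
  obtain ⟨E, hE, -, hEZ⟩ := exists_component X C hC Z hZ
  have h1 := Groth.Agent.CurvesC.TailMain.pure_of_connected X hdim E hE
  rw [← h1, ← hEZ]
  exact IsHomeomorph.topologicalKrullDim_eq _
    ((IX' X C hC).subschemeι.isEmbedding.homeomorphImage Z).isHomeomorph

theorem dim_X' [IsNoetherian X] [ConnectedSpace X] (hdim : topologicalKrullDim X = 1)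
    (hne : Nonempty (IX' X C hC).subscheme) : topologicalKrullDim (IX' X C hC).subscheme = 1 := by
  apply le_antisymm (CompG.dim_X'_le X hdim C hC)
  obtain ⟨x⟩ := hne
  have h1 := pure_X' X C hC hdim (irreducibleComponent x) (irreducibleComponent_mem_irreducibleComponents x)
  rw [← h1]
  exact topologicalKrullDim_subspace_le _ _

include hX in
theorem atWorstNodal_X' [IsReduced X] [ConnectedSpace X] (hdim : topologicalKrullDim X = 1) :
    @Curv2.AtWorstNodal k _ (IX' X C hC).subscheme ⟨(IX' X C hC).subschemeι ≫ (X ↘ (Spec (CommRingCat.of k)))⟩ := by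
  have hN : IsNoetherian X := Groth.Agent.CurvesC.CurveCoh.noetherianSpace k X
  have hr := isReduced_X' k X C hC
  exact Groth.Agent.S1590.result k X (fun Z hZ => Groth.Agent.CurvesC.TailMain.pure_of_connected X hdim Z hZ) hX
    (IX' X C hC) (fun Z hZ => pure_X' X C hC hdim Z hZ)

end Rest

section Tail

/-- A Ferrand square along an isomorphism is trivial. -/
theorem isIso_left {X' S T Y : Scheme.{u}} {i : T ⟶ X'} {j : T ⟶ S} {a : X' ⟶ Y} {b : S ⟶ Y}
    (h : K838.Ferr.IsFerr i j a b) [IsIso j] : IsIso a := by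
  have := h.affine_left
  refine K896.Ferr.isIso_of_affine_app a fun O _ => ?_
  rw [ConcreteCategory.isIso_iff_bijective]
  obtain ⟨h1, h2⟩ := (K838.Ferr.secSq_iff h.w O).mp (h.sec O)
  have hw : i ⁻¹ᵁ a ⁻¹ᵁ O = j ⁻¹ᵁ b ⁻¹ᵁ O := K838.Ferr.preimage_eq h.w O
  have hiso : IsIso (j.appLE (b ⁻¹ᵁ O) (i ⁻¹ᵁ a ⁻¹ᵁ O) hw.le) := by
    have h3 : ∀ (V : T.Opens) (hV : V = j ⁻¹ᵁ b ⁻¹ᵁ O), IsIso (j.appLE (b ⁻¹ᵁ O) V hV.le) := by
      rintro _ rfl
      rw [← Scheme.Hom.app_eq_appLE]
      infer_instance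
    exact h3 _ hw
  have hbij := (ConcreteCategory.isIso_iff_bijective _).mp hiso
  have h3 : ∀ r, i.app (a ⁻¹ᵁ O) (a.app O r) = j.appLE (b ⁻¹ᵁ O) (i ⁻¹ᵁ a ⁻¹ᵁ O) hw.le (b.app O r) := by
    intro r
    exact congr($(K838.Ferr.sec_w h.w O hw.le) r)
  constructor
  · intro r r' hr
    refine h2 r r' hr (hbij.1 ?_)
    rw [← h3, ← h3, hr]
  · intro s
    obtain ⟨t, ht⟩ := hbij.2 (i.app (a ⁻¹ᵁ O) s)
    obtain ⟨r, hr, -⟩ := h1 s t ht.symm
    exact ⟨r, hr⟩

include k in
theorem bijective_jT (h : Curv2.IsRationalTail X C hC) : Function.Bijective (jT X C hC).appTop := by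
  obtain ⟨-, hTne, hTsub, hTred, hev, -⟩ := h
  let T := (IC X C hC ⊔ IX' X C hC).subscheme
  have i1 : Nonempty T := hTne
  have i2 : Subsingleton T := hTsub
  have i3 : IsReduced T := hTred
  have i4 : IrreducibleSpace T := (irreducibleSpace_def T).mpr ⟨Set.univ_nonempty, Set.subsingleton_univ.isPreirreducible⟩
  have i5 : IsIntegral T := isIntegral_of_irreducibleSpace_of_isReduced _
  let _ : T.Over (Spec (CommRingCat.of k)) := ⟨(IC X C hC ⊔ IX' X C hC).subschemeι ≫ (X ↘ (Spec (CommRingCat.of k)))⟩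
  have hP : IsProper (T ↘ (Spec (CommRingCat.of k))) :=
    inferInstanceAs (IsProper ((IC X C hC ⊔ IX' X C hC).subschemeι ≫ (X ↘ (Spec (CommRingCat.of k)))))
  have hfT : IsField Γ(T, ⊤) := isField_mm k T
  obtain ⟨t⟩ := hTne
  have h2 := CurvesC.PointScheme.evaluation_bijective hfT t
  have h3 : ∀ s, (jT X C hC).residueFieldMap t ((IC X C hC).subscheme.evaluation ⊤ (jT X C hC t) trivial s) =
      (IC X C hC ⊔ IX' X C hC).subscheme.evaluation ⊤ t trivial ((jT X C hC).appTop s) := by
    intro s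
    exact Scheme.evaluation_naturality_apply (jT X C hC) (V := ⊤) t trivial s
  have hcl : IsClosedImmersion (jT X C hC) :=
    inferInstanceAs (IsClosedImmersion (iC (IC X C hC) (IX' X C hC)))
  have h4 : Function.Bijective ((jT X C hC).residueFieldMap t) :=
    ⟨RingHom.injective ((jT X C hC).residueFieldMap t).hom, Unram.surjective_residueFieldMap (jT X C hC) t⟩
  have h5 : Function.Bijective ((IC X C hC ⊔ IX' X C hC).subscheme.evaluation ⊤ t trivial ∘ (jT X C hC).appTop) := by
    have h6 : ((IC X C hC ⊔ IX' X C hC).subscheme.evaluation ⊤ t trivial ∘ (jT X C hC).appTop : _ → _) =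
        (jT X C hC).residueFieldMap t ∘ ((IC X C hC).subscheme.evaluation ⊤ (jT X C hC t) trivial) := by
      funext s
      exact (h3 s).symm
    rw [h6]
    exact h4.comp (hev t)
  exact (Function.Bijective.of_comp_iff' h2 _).mp h5

include k in
theorem isIso_jS (h : Curv2.IsRationalTail X C hC) : IsIso (jS X C hC) := by
  have hb := bijective_jT k X C hC h
  obtain ⟨-, hTne, hTsub, hTred, hev, -⟩ := h
  have hA : IsAffine (IC X C hC ⊔ IX' X C hC).subscheme := CurvesC.PointScheme.isAffine_of_subsingleton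
  rw [← MorphismProperty.isomorphisms.iff,
    HasAffineProperty.iff_of_isAffine (P := MorphismProperty.isomorphisms Scheme.{u})]
  refine ⟨hA, ?_⟩
  have h1 : (jS X C hC).appTop = (Scheme.ΓSpecIso Γ((IC X C hC).subscheme, ⊤)).hom ≫ (jT X C hC).appTop := by
    rw [← Scheme.toSpecΓ_appTop, ← Scheme.Hom.comp_appTop]
  rw [h1]
  have h2 : IsIso (jT X C hC).appTop := (ConcreteCategory.isIso_iff_bijective _).mpr hb
  infer_instance

end Tail

section Main

variable {X} {C} {hC} {Y : Scheme.{u}} {c : X ⟶ Y} {b : Spec Γ((IC X C hC).subscheme, ⊤) ⟶ Y}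
  {qY : Y ⟶ Spec (CommRingCat.of k)}

include hdim hX in
/-- The rest of the curve is smooth where it meets the component. -/
theorem smAt_X' [IsReduced X] [ConnectedSpace X] (t : (IC X C hC ⊔ IX' X C hC).subscheme) :
    SmAt ((IX' X C hC).subschemeι ≫ (X ↘ (Spec (CommRingCat.of k)))) (iX (IC X C hC) (IX' X C hC) t) := by
  have hN : IsNoetherian X := Groth.Agent.CurvesC.CurveCoh.noetherianSpace k X
  let _ : (IX' X C hC).subscheme.Over (Spec (CommRingCat.of k)) :=
    ⟨(IX' X C hC).subschemeι ≫ (X ↘ (Spec (CommRingCat.of k)))⟩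
  have hP : IsProper ((IX' X C hC).subscheme ↘ (Spec (CommRingCat.of k))) :=
    inferInstanceAs (IsProper ((IX' X C hC).subschemeι ≫ (X ↘ (Spec (CommRingCat.of k)))))
  have hcl : IsClosed ({iX (IC X C hC) (IX' X C hC) t} : Set (IX' X C hC).subscheme) := by
    have h1 := (iX (IC X C hC) (IX' X C hC)).isClosedEmbedding.isClosedMap {t} (isClosed_T X C hC hdim.le {t})
    rwa [Set.image_singleton] at h1
  rcases atWorstNodal_X' k X hX C hC hdim _ hcl with h | h
  · exact h
  · exfalso
    have h2 := ((isNode_iff_resFS k _ _).mp h).2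
    apply h2.not_principal 1 le_rfl
    rw [pow_one]
    exact (pr_stalk k X hdim hX C hC t).2.1

include hdim hX in
/-- After contracting a tail the new point is smooth. -/
theorem smAt_tail [IsReduced X] [ConnectedSpace X] (h : IsContraction (IC X C hC) (IX' X C hC) c b)
    (hq : c ≫ qY = X ↘ (Spec (CommRingCat.of k)))
    (ht : Curv2.IsRationalTail X C hC) (s : Spec Γ((IC X C hC).subscheme, ⊤)) : SmAt qY (b s) := by
  have h1 := isIso_jS k X C hC ht
  have h2 : IsIso ((IX' X C hC).subschemeι ≫ c) := isIso_left h.ferr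
  obtain ⟨t, rfl⟩ := (jS X C hC).surjective s
  have h3 := smAt_X' k hdim hX (hC := hC) t
  rw [← hq, ← Category.assoc, smAt_iff] at h3
  rw [← Scheme.Hom.comp_apply, ← h.ferr.w, Scheme.Hom.comp_apply]
  exact h3

theorem delta_of_bridge (h : Curv2.IsRationalBridge k X C hC) : δ X C hC = 2 := by
  have h1 := h.2.1
  have hK := isField_comp k X C hC
  have h2 : Module.finrank k (Coh.HH X (ClSub.quotMod (IC X C hC ⊔ IX' X C hC)) 0) = m k X C hC * δ X C hC :=
    finrank_quot_T k X C hC hK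
  have h3 : Module.finrank k (Coh.HH X (ClSub.quotMod (IC X C hC)) 0) = m k X C hC := finrank_quot_C k X C hC
  have hm : 0 < m k X C hC := by
    let _ := overC k X C hC
    have hP : IsProper ((IC X C hC).subscheme ↘ (Spec (CommRingCat.of k))) := inferInstanceAs (IsProper (gC k X C hC))
    exact mm_pos k (IC X C hC).subscheme
  have h4 : m k X C hC * δ X C hC = 2 * m k X C hC := by
    rw [← h2, ← h3]
    exact h1
  rw [mul_comm 2] at h4
  exact Nat.eq_of_mul_eq_mul_left hm h4

include hdim hX in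
/-- **Contraction of a rational tail or bridge of a nodal curve.** -/
theorem exists_main [ConnectedSpace X] (h : Curv2.IsRationalTail X C hC ∨ Curv2.IsRationalBridge k X C hC) :
    ∃ (Y : Scheme.{u}) (qY : Y ⟶ Spec (CommRingCat.of k)) (c : X ⟶ Y)
      (b : Spec Γ((IC X C hC).subscheme, ⊤) ⟶ Y),
      c ≫ qY = (X ↘ Spec (CommRingCat.of k)) ∧ IsProper qY ∧ IsContraction (IC X C hC) (IX' X C hC) c b ∧
      Contr.IsCon c ∧ topologicalKrullDim Y = 1 ∧ @Curv2.AtWorstNodal k _ Y ⟨qY⟩ ∧
      Nonempty (IC X C hC ⊔ IX' X C hC).subscheme ∧ (Curv2.IsRationalTail X C hC → ∀ s, SmAt qY (b s)) := by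
  have hN : IsNoetherian X := Groth.Agent.CurvesC.CurveCoh.noetherianSpace k X
  have hred : IsReduced X := CurvesC.GenusOne512.isReduced_of_atWorstNodal k X hX
  have hIJ := CompG.inf_eq_bot k X C hC
  have hs := CompG.subsingleton_specΓ k X C hC
  have hT : Nonempty (IC X C hC ⊔ IX' X C hC).subscheme := by
    rcases h with h | h
    · exact h.2.1
    · by_contra hcon
      rw [not_nonempty_iff] at hcon
      have h1 : Subsingleton Γ((IC X C hC ⊔ IX' X C hC).subscheme, ⊤) := inferInstance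
      have h2 : δ X C hC = 0 := by
        have h3 := isField_comp k X C hC
        let _ := h3.toField
        let _ : Module Γ((IC X C hC).subscheme, ⊤) Γ((IC X C hC ⊔ IX' X C hC).subscheme, ⊤) :=
          Module.compHom _ (jT X C hC).appTop.hom
        exact Module.finrank_zero_of_subsingleton
      have h4 := delta_of_bridge k h
      omega
  have hfin := CompG.isFinite_T k X hdim hX C hC
  obtain ⟨U, hU, hTU⟩ := CompG.exists_affine k X hdim hX C hC
  obtain ⟨Y, qY, c, b, hq, hP, hcon⟩ := exists_contraction k X (X ↘ Spec (CommRingCat.of k)) (IC X C hC)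
    (IX' X C hC) hIJ U hU hTU
  have h1 : Subsingleton (Coh.HH (IC X C hC).subscheme (Coh.structureModule (IC X C hC).subscheme) 1) := by
    rcases h with h | h
    · exact h.2.2.2.2.2
    · exact h.2.2
  have hcon' := hcon.isCon hIJ (CompG.vanishing k X hdim C hC h1)
  have hne : Nonempty (IX' X C hC).subscheme := hT.map (iX (IC X C hC) (IX' X C hC))
  refine ⟨Y, qY, c, b, hq, hP, hcon, hcon', ?_, ?_, hT, fun ht s => smAt_tail k hdim hX hcon hq ht s⟩
  · rw [topologicalKrullDim_eq hcon hs hT]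
    exact dim_X' X C hC hdim hne
  · refine atWorstNodal_of k hX hIJ hcon hq fun s => ?_
    rcases h with h | h
    · exact Or.inl (smAt_tail k hdim hX hcon hq h s)
    · exact Or.inr (isNode_pt k hdim hX hcon hq hs (delta_of_bridge k h) s)

end Main

end K896.ConNodal
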