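import Groth.Agent.CurvSt.K896.BdryConn
import Groth.Agent.CurvSt.K896.BaseCh
import Groth.Agent.CurvSt.K508.ConnMbar

/-!
# Irreducibility of the stack of stable curves: assembly

`Inputs` collects the inputs (algebraicity, smoothness, density of the smooth locus, glueing, degeneration, Zariski
connectedness).  `preconnectedSpace_points` : `|Mbar_{g,n}|` over any field is connected.
-/

set_option autoImplicit false
set_option backward.isDefEq.respectTransparency false
set_option backward.isDefEq.respectTransparency.types false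

universe u

open CategoryTheory CategoryTheory.Limits AlgebraicGeometry Opposite CurvSt

namespace K896.Final

open K896.StPts K896.MbarFam K896.MbarSmooth K896.Bdry K896.BdryConn K896.BaseCh

/-- Zariski connectedness for the stack of stable curves over a complete discrete valuation ring. -/
def ZarStmt : Prop :=
  ∀ (R : Type u) [CommRing R] [IsDomain R] [IsDiscreteValuationRing R]
    [IsAdicComplete (IsLocalRing.maximalIdeal R) R] (g n : ℕ) (_ : 3 ≤ 2 * g + n),
    PreconnectedSpace (AlgSt.Points (Mbar (Spec (CommRingCat.of R)) g n)) →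
    IsPreconnected {x : AlgSt.Points (Mbar (Spec (CommRingCat.of R)) g n) |
      basePt x = (IsLocalRing.closedPoint R : PrimeSpectrum R)}

structure Inputs : Prop where
  alg : ∀ (S : Scheme.{u}) (g n : ℕ), 3 ≤ 2 * g + n → AlgSt.IsAlgStack Scheme.etalePrecoverage (Mbar S g n)
  sm : ∀ (S : Scheme.{u}) (g n : ℕ), 3 ≤ 2 * g + n →
    AlgSt.LocQ (AlgSp.LocP @Smooth) (FibCat.toSelf (Mbar S g n))
  den : ∀ (k : Type u) [Field k] [CharZero k] (g n : ℕ), 3 ≤ 2 * g + n →
    Dense (Set.range (AlgSt.Points.map (AlgSt.subIncl (Mbar (Spec (CommRingCat.of k)) g n)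
      (fun A => IsSmoothPtdFam A.obj.f A.obj.sect g))))
  atlas : ∀ (k : Type u) [Field k] [IsAlgClosed k] [CharZero k],
    K508.FibPow.Atlas (Spec (CommRingCat.of k)) 1 1
  proj : ProjLoc.{u}
  g1 : G1Fam.{u}
  g2 : G2Fam.{u}
  g1' : ∀ (k : Type u) [Field k] [IsAlgClosed k], G1Pt.{u} k
  g2' : ∀ (k : Type u) [Field k] [IsAlgClosed k], G2Pt.{u} k
  node : ∀ (k : Type u) [Field k] [IsAlgClosed k], NodeStmt.{u} k
  deg : ∀ (k : Type u) [Field k] [IsAlgClosed k] [CharZero k], DegStmt.{u} k
  zar : ZarStmt.{u}

theorem locQ_mono {S : Scheme.{u}} {g n : ℕ}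
    (h : AlgSt.LocQ (AlgSp.LocP @Smooth) (FibCat.toSelf (Mbar S g n))) :
    AlgSt.LocQ (AlgSp.LocP @LocallyOfFiniteType) (FibCat.toSelf (Mbar S g n)) := by
  obtain ⟨U, V, x, y, f, α, h1, h2, h3, h4⟩ := h
  refine ⟨U, V, x, y, f, α, h1, h2, h3, fun _ _ a b k ha hb w => ?_⟩
  have : Smooth k.left := h4 a b k ha hb w
  infer_instance

variable (H : Inputs.{u})

include H

/-- Algebraically closed fields of characteristic zero. -/
theorem charZero_closed (k : Type u) [Field k] [IsAlgClosed k] [CharZero k] (g : ℕ) :
    ∀ n, 3 ≤ 2 * g + n → PreconnectedSpace (AlgSt.Points (Mbar (Spec (CommRingCat.of k)) g n)) := by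
  induction g using Nat.strong_induction_on with
  | _ g IH =>
    have hft : ∀ g n, 3 ≤ 2 * g + n →
        AlgSt.LocQ (AlgSp.LocP @LocallyOfFiniteType) (FibCat.toSelf (Mbar (Spec (CommRingCat.of k)) g n)) :=
      fun g n h => locQ_mono (H.sm _ g n h)
    intro n hn
    match g, IH, hn with
    | 0, _, hn =>
      exact K508.ConnMbar.preconnectedSpace_genus_zero (by omega) (H.alg _ _ _ hn) (hft _ _ hn) (H.den k _ _ hn)
    | 1, _, hn =>
      exact K508.ConnMbar.preconnectedSpace_genus_one (H.atlas k) (by omega) (H.alg _ _ _ hn) (hft _ _ hn) (H.den k _ _ hn)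
    | h + 2, IH, hn =>
      have h0 : PreconnectedSpace (AlgSt.Points (Mbar (Spec (CommRingCat.of k)) (h + 1 + 1) 0)) :=
        preconnectedSpace_zero H.g1 H.g2 (H.g1' k) (H.g2' k) H.proj (H.node k) (H.deg k) (h := h + 1) (by omega)
          (fun g n hgn => H.alg _ g n hgn) hft (fun g' hg' n' hn' => IH g' (by omega) n' hn')
      exact K508.ConnMbar.preconnectedSpace_of_zero (by omega) (H.alg _ _ _ (by omega)) (H.sm _ _ _ (by omega)) h0
        (H.alg _ _ _ hn) (hft _ _ hn) (H.den k _ _ hn)

/-- Passing down along a surjective base change. -/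
theorem of_surjective {S' S : Scheme.{u}} (β : S' ⟶ S) [Surjective β] (g n : ℕ) (hn : 3 ≤ 2 * g + n)
    [PreconnectedSpace (AlgSt.Points (Mbar S' g n))] : PreconnectedSpace (AlgSt.Points (Mbar S g n)) :=
  (surjective_pushPt β).denseRange.preconnectedSpace (continuous_pushPt β (H.alg S' g n hn).isStack.1 (H.alg S g n hn))

theorem of_algebraicClosure (k : Type u) [Field k] (g n : ℕ) (hn : 3 ≤ 2 * g + n)
    (h : PreconnectedSpace (AlgSt.Points (Mbar (Spec (CommRingCat.of (AlgebraicClosure k))) g n))) :
    PreconnectedSpace (AlgSt.Points (Mbar (Spec (CommRingCat.of k)) g n)) := by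
  let β : Spec (CommRingCat.of (AlgebraicClosure k)) ⟶ Spec (CommRingCat.of k) :=
    Spec.map (CommRingCat.ofHom (algebraMap k (AlgebraicClosure k)))
  have : Surjective β := ⟨fun y => ⟨IsLocalRing.closedPoint _, Subsingleton.elim (α := PrimeSpectrum k) _ _⟩⟩
  exact of_surjective H β g n hn

theorem charZero (k : Type u) [Field k] [CharZero k] (g n : ℕ) (hn : 3 ≤ 2 * g + n) :
    PreconnectedSpace (AlgSt.Points (Mbar (Spec (CommRingCat.of k)) g n)) := by
  have : CharZero (AlgebraicClosure k) := charZero_of_injective_algebraMap (algebraMap k _).injective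
  exact of_algebraicClosure H k g n hn (charZero_closed H _ g n hn)

/-- A complete discrete valuation ring of mixed characteristic: the total space. -/
theorem dvr_total (R : Type u) [CommRing R] [IsDomain R] [IsDiscreteValuationRing R] [CharZero R]
    (g n : ℕ) (hn : 3 ≤ 2 * g + n) :
    PreconnectedSpace (AlgSt.Points (Mbar (Spec (CommRingCat.of R)) g n)) := by
  let K := FractionRing R
  have : CharZero K := charZero_of_injective_algebraMap (IsFractionRing.injective R K)
  let η : Spec (CommRingCat.of K) ⟶ Spec (CommRingCat.of R) := Spec.map (CommRingCat.ofHom (algebraMap R K))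
  let pt : Spec (CommRingCat.of R) := (⊥ : PrimeSpectrum R)
  have hη : ∀ y, η y = pt := by
    intro y
    have hy : y = (⊥ : PrimeSpectrum K) := Subsingleton.elim (α := PrimeSpectrum K) _ _
    rw [hy]
    apply PrimeSpectrum.ext
    change Ideal.comap (algebraMap R K) ⊥ = ⊥
    exact (RingHom.injective_iff_ker_eq_bot _).1 (IsFractionRing.injective R K)
  have hcl : closure {pt} = (Set.univ : Set ↥(Spec (CommRingCat.of R))) := by
    change closure {(⊥ : PrimeSpectrum R)} = Set.univ
    rw [PrimeSpectrum.closure_singleton]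
    exact Set.eq_univ_of_forall fun x => bot_le (a := x.asIdeal)
  have hFL : FieldLift η := by
    intro L _ s ⟨s', hs'⟩
    obtain ⟨φ, rfl⟩ := Spec.map_surjective s
    have h1 : RingHom.ker φ.hom = ⊥ := by
      have h2 : (Spec.map φ) (IsLocalRing.closedPoint L) = pt := hs'.symm.trans (hη s')
      have h3 := congrArg PrimeSpectrum.asIdeal h2
      refine Eq.trans ?_ h3
      change RingHom.ker φ.hom = Ideal.comap φ.hom (IsLocalRing.maximalIdeal L)
      rw [IsLocalRing.maximalIdeal_eq_bot]
      rfl
    have h4 : Function.Injective φ.hom := (RingHom.injective_iff_ker_eq_bot _).2 h1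
    refine ⟨Spec.map (CommRingCat.ofHom (IsFractionRing.lift (K := K) h4)), ?_⟩
    rw [← Spec.map_comp, ← CommRingCat.ofHom_comp]
    congr 1
    ext r
    exact IsFractionRing.lift_algebraMap h4 r
  have := charZero H K g n hn
  have hd := dense_basePt_generic (g := g) (n := n) (H.alg _ g n hn) (H.sm _ g n hn) pt hcl
  have hr : {x : AlgSt.Points (Mbar (Spec (CommRingCat.of R)) g n) | basePt x = pt} = Set.range (pushPt η) := by
    ext x
    rw [mem_range_pushPt_iff η hFL]
    constructor
    · intro hx
      exact ⟨IsLocalRing.closedPoint K, (hη _).trans hx.symm⟩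
    · rintro ⟨y, hy⟩
      exact hy.symm.trans (hη y)
  have hp : IsPreconnected (Set.range (pushPt (g := g) (n := n) η)) :=
    isPreconnected_range (continuous_pushPt η (H.alg _ g n hn).isStack.1 (H.alg _ g n hn))
  refine ⟨?_⟩
  rw [← hd.closure_eq, hr]
  exact hp.closure

/-- Algebraically closed (more generally perfect) fields of characteristic `p`. -/
theorem charP_perfect (k : Type u) [Field k] (p : ℕ) [Fact p.Prime] [CharP k p] [PerfectRing k p]
    (g n : ℕ) (hn : 3 ≤ 2 * g + n) :
    PreconnectedSpace (AlgSt.Points (Mbar (Spec (CommRingCat.of k)) g n)) := by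
  let R := WittVector p k
  have hm : IsLocalRing.maximalIdeal R = Ideal.span {(p : R)} :=
    (WittVector.irreducible p (k := k)).maximalIdeal_eq
  have : IsAdicComplete (IsLocalRing.maximalIdeal R) R := by
    rw [hm]
    infer_instance
  have hpp : (p : R) ≠ 0 := (WittVector.irreducible p (k := k)).ne_zero
  have : CharZero R := by
    obtain ⟨q, hq⟩ := CharP.exists R
    rcases CharP.char_is_prime_or_zero R q with hprime | rfl
    · exfalso
      have h1 : (q : R) = 0 := CharP.cast_eq_zero R q
      have h2 : (q : k) = 0 := by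
        rw [← map_natCast (WittVector.constantCoeff (p := p) (R := k)) q, h1, map_zero]
      have h3 : p ∣ q := (CharP.cast_eq_zero_iff k p q).1 h2
      have h4 : p = q := (Nat.prime_dvd_prime_iff_eq (Fact.out) hprime).1 h3
      rw [← h4] at h1
      exact hpp h1
    · exact CharP.charP_to_charZero R
  let σ : Spec (CommRingCat.of k) ⟶ Spec (CommRingCat.of R) :=
    Spec.map (CommRingCat.ofHom (WittVector.constantCoeff (p := p) (R := k)))
  have hσ : IsClosedImmersion σ :=
    IsClosedImmersion.spec_of_surjective _ (WittVector.constantCoeff_surjective p)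
  have hσ' : ∀ y, σ y = (IsLocalRing.closedPoint R : PrimeSpectrum R) := by
    intro y
    have hy : y = (⊥ : PrimeSpectrum k) := Subsingleton.elim (α := PrimeSpectrum k) _ _
    rw [hy]
    apply PrimeSpectrum.ext
    change Ideal.comap (WittVector.constantCoeff (p := p) (R := k)) ⊥ = IsLocalRing.maximalIdeal R
    rw [hm, ← WittVector.ker_constantCoeff]
    rfl
  have hp := dvr_total H R g n hn
  have hz := H.zar R g n hn hp
  have hr : {x : AlgSt.Points (Mbar (Spec (CommRingCat.of R)) g n) |
      basePt x = (IsLocalRing.closedPoint R : PrimeSpectrum R)} = Set.range (pushPt σ) := by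
    ext x
    rw [mem_range_pushPt_iff σ (fieldLift_of_isClosedImmersion σ)]
    constructor
    · intro hx
      exact ⟨(⊥ : PrimeSpectrum k), (hσ' _).trans hx.symm⟩
    · rintro ⟨y, hy⟩
      exact hy.symm.trans (hσ' y)
  rw [hr] at hz
  have he : Topology.IsClosedEmbedding (pushPt (g := g) (n := n) σ) :=
    .of_continuous_injective_isClosedMap (continuous_pushPt σ (H.alg _ g n hn).isStack.1 (H.alg _ g n hn))
      (injective_pushPt σ (H.alg _ g n hn).isStack.1) (isClosedMap_pushPt σ (H.alg _ g n hn) (H.alg _ g n hn))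
  refine ⟨?_⟩
  rw [← he.isInducing.isPreconnected_image, Set.image_univ]
  exact hz

theorem preconnectedSpace_points (k : Type u) [Field k] (g n : ℕ) (hn : 3 ≤ 2 * g + n) :
    PreconnectedSpace (AlgSt.Points (Mbar (Spec (CommRingCat.of k)) g n)) := by
  obtain ⟨p, hp⟩ := CharP.exists k
  rcases CharP.char_is_prime_or_zero k p with hprime | rfl
  · have : Fact p.Prime := ⟨hprime⟩
    have : CharP (AlgebraicClosure k) p := charP_of_injective_algebraMap (algebraMap k _).injective p
    exact of_algebraicClosure H k g n hn (charP_perfect H (AlgebraicClosure k) p g n hn)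
  · have : CharZero k := CharP.charP_to_charZero k
    exact charZero H k g n hn

theorem irreducibleSpace_points (k : Type u) [Field k] (g n : ℕ) (hn : 3 ≤ 2 * g + n) :
    IrreducibleSpace (AlgSt.Points (Mbar (Spec (CommRingCat.of k)) g n)) := by
  have hpc := preconnectedSpace_points H k g n hn
  have hne : Nonempty (AlgSt.Points (Mbar (Spec (CommRingCat.of k)) g n)) := by
    let L := AlgebraicClosure k
    let β : Spec (CommRingCat.of L) ⟶ Spec (CommRingCat.of k) :=
      Spec.map (CommRingCat.ofHom (algebraMap k (AlgebraicClosure k)))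
    obtain ⟨⟨a, ha⟩⟩ := K310.ExistsCurve.nonempty_Mbar_fiber (k := L) β g n hn
    exact ⟨AlgSt.Points.mk ⟨L, β, a, ha⟩⟩
  exact K896.IrrTop.irreducibleSpace_points (H.alg _ g n hn) (H.sm _ g n hn) hpc hne

end K896.Final
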