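import Groth.Agent.CurvSt.K896.Inp
import Groth.Agent.CurvSt.K312.Boundary
import Groth.Agent.CurvSt.K312.NodeFin
import Groth.Agent.CurvSt.K316.FieldFam
import Groth.Agent.CurvSt.K169.UCFinal
import Groth.Agent.CurvSt.K169.SRZero
import Groth.Agent.CurvSt.K744.DensFinal

/-!
# Irreducibility of the stack of stable curves over a field: final assembly

The marked case is reduced to `n = 0`, `g ≥ 2` over algebraically closed fields of every characteristic (density of the
smooth curves is known over every base), so Zariski connectedness is needed for `Mbar_g` only.  Remaining inputs: `Num`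
(a one-pointed weakly stable curve has genus at least one), `DegStmt` (S16736) and the separatedness of `Mbar_g` over
Noetherian bases (S16745).
-/

set_option autoImplicit false
set_option backward.isDefEq.respectTransparency false
set_option backward.isDefEq.respectTransparency.types false

universe u

open CategoryTheory CategoryTheory.Limits AlgebraicGeometry Opposite CurvSt

namespace K896.Final2

open K896.StPts K896.MbarFam K896.MbarSmooth K896.Bdry K896.BdryConn K896.BaseCh K896.Final

section known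

theorem alg (S : Scheme.{u}) (g n : ℕ) (h : 3 ≤ 2 * g + n) :
    AlgSt.IsAlgStack Scheme.etalePrecoverage (Mbar S g n) :=
  (Groth.Agent.S16723.result S g n h).1.1

theorem sm (S : Scheme.{u}) (g n : ℕ) (h : 3 ≤ 2 * g + n) :
    AlgSt.LocQ (AlgSp.LocP @Smooth) (FibCat.toSelf (Mbar S g n)) :=
  K896.MbarFinal.locQ_smooth_mbar S h

theorem ft (S : Scheme.{u}) (g n : ℕ) (h : 3 ≤ 2 * g + n) :
    AlgSt.LocQ (AlgSp.LocP @LocallyOfFiniteType) (FibCat.toSelf (Mbar S g n)) := locQ_mono (sm S g n h)

theorem den (S : Scheme.{u}) (g n : ℕ) (h : 3 ≤ 2 * g + n) :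
    Dense (Set.range (AlgSt.Points.map (AlgSt.subIncl (Mbar S g n)
      (fun A => IsSmoothPtdFam A.obj.f A.obj.sect g)))) :=
  K744.DensFinal.dense_sm S h

theorem g1Fam : G1Fam.{u} := by
  intro C T _ f h σ hσ hst hp
  exact K312.Boundary.g1Fam f h σ hσ hst hp

theorem g2Fam : G2Fam.{u} := by
  intro C₁ C₂ T _ f₁ f₂ h₁ h₂ σ₁ hσ₁ σ₂ hσ₂ hst₁ hst₂ _ _
  exact K312.Boundary.g2Fam f₁ f₂ h₁ h₂ σ₁ hσ₁ σ₂ hσ₂ hst₁ hst₂

theorem projLoc : ProjLoc.{u} := fun {_ _} f _ _ _ hdim s => Groth.Agent.S16733.result f hdim s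

theorem g1Pt (k : Type u) [Field k] [IsAlgClosed k] : G1Pt.{u} k := by
  intro C f h σ hσ hst
  exact K312.Boundary.g1Pt f h σ hσ hst (isHProjective_of_projLoc projLoc f σ hσ hst)

theorem g2Pt (k : Type u) [Field k] [IsAlgClosed k] : G2Pt.{u} k := by
  intro C₁ C₂ f₁ f₂ h₁ h₂ σ₁ hσ₁ σ₂ hσ₂ hst₁ hst₂
  exact K312.Boundary.g2Pt f₁ f₂ h₁ h₂ σ₁ hσ₁ σ₂ hσ₂ hst₁ hst₂

/-- A singular stable curve is a glueing. -/
theorem nodeStmt (k : Type u) [Field k] [IsAlgClosed k] (hnum : K312.NodeFin.Num.{u} k) : NodeStmt.{u} k := by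
  refine K896.NodeFinal.nodeStmt k ?_
  intro X Y q g σ hσ hX hg a b ν h ha hb hsa hsb hoff
  exact K312.NodeFin.of_isGl hnum (fun {_} f n g τ hτ h => K316.FieldFam.isStableFam f n g τ hτ h) q g σ hσ hX hg a b ν h
    hoff ha hb hsa hsb

end known

/-- Zariski connectedness for `Mbar_g`. -/
def Zar0 : Prop :=
  ∀ (R : Type u) [CommRing R] [IsDomain R] [IsDiscreteValuationRing R]
    [IsAdicComplete (IsLocalRing.maximalIdeal R) R] (g : ℕ) (_ : 2 ≤ g),
    PreconnectedSpace (AlgSt.Points (Mbar (Spec (CommRingCat.of R)) g 0)) →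
    IsPreconnected {x : AlgSt.Points (Mbar (Spec (CommRingCat.of R)) g 0) |
      basePt x = (IsLocalRing.closedPoint R : PrimeSpectrum R)}

/-- Zariski connectedness from the separatedness of `Mbar_g` over Noetherian schemes. -/
theorem zar0 (hsep : ∀ (S : Scheme.{u}) [IsNoetherian S] (g : ℕ), 2 ≤ g → AlgSt.IsSeparatedOver (Mbar S g 0)) :
    Zar0.{u} := by
  intro R _ _ _ _ g hg hp
  have hH : HenselianLocalRing R :=
    { is_henselian := fun f hf a₀ h₁ h₂ =>
        HenselianRing.is_henselian (I := IsLocalRing.maximalIdeal R) f hf a₀ h₁ (h₂.map _) }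
  have hn : 3 ≤ 2 * g + 0 := by omega
  have hN : IsNoetherian (Spec (CommRingCat.of R)) := inferInstance
  have hNZ : IsNoetherian K169.PFMbar.SZ.{u} := inferInstance
  have huc := (K169.UCFinal.main hn (hsep K169.PFMbar.SZ.{u} g hg) (den K169.PFMbar.SZ.{u} g 0 hn)
    (K169.SRZero.srsm_zero hg) (Spec (CommRingCat.of R))).2.2.2.2
  have hs := hsep (Spec (CommRingCat.of R)) g hg
  have h1 := K508.ZarSt.isPreconnected_closedFibre_of_cover (A := R) (𝒳 := Mbar (Spec (CommRingCat.of R)) g 0)
    (alg _ g 0 hn) hs (ft _ g 0 hn) huc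
    (Groth.Agent.S16819.result _ _ (Groth.Agent.S16723.result _ g 0 hn).1 hs (ft _ g 0 hn)
      (Groth.Agent.S16724.result _ g 0 hn).2.1)
  have h2 : ((K508.ZarSt.base : AlgSt.Points (Mbar (Spec (CommRingCat.of R)) g 0) → _) ⁻¹'
      {(IsLocalRing.closedPoint R : PrimeSpectrum R)}) = {x : AlgSt.Points (Mbar (Spec (CommRingCat.of R)) g 0) |
      basePt x = (IsLocalRing.closedPoint R : PrimeSpectrum R)} := by
    ext x
    rw [Set.mem_preimage, base_eq_basePt]
    rfl
  rw [← h2]
  exact h1

/-- The marked case from the unmarked case over an algebraically closed field. -/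
theorem closed_of_zero (k : Type u) [Field k] [IsAlgClosed k]
    (h0 : ∀ g, 2 ≤ g → PreconnectedSpace (AlgSt.Points (Mbar (Spec (CommRingCat.of k)) g 0))) (g n : ℕ)
    (hn : 3 ≤ 2 * g + n) : PreconnectedSpace (AlgSt.Points (Mbar (Spec (CommRingCat.of k)) g n)) := by
  match g, hn with
  | 0, hn => exact K508.ConnMbar.preconnectedSpace_genus_zero (by omega) (alg _ _ _ hn) (ft _ _ _ hn) (den _ _ _ hn)
  | 1, hn =>
    exact K508.ConnMbar.preconnectedSpace_genus_one (K253.WeiFam.atlas k) (by omega) (alg _ _ _ hn) (ft _ _ _ hn)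
      (den _ _ _ hn)
  | h + 2, hn =>
    exact K508.ConnMbar.preconnectedSpace_of_zero (by omega) (alg _ _ _ (by omega)) (sm _ _ _ (by omega))
      (h0 (h + 2) (by omega)) (alg _ _ _ hn) (ft _ _ _ hn) (den _ _ _ hn)

/-- Algebraically closed fields of characteristic zero. -/
theorem charZero_closed (k : Type u) [Field k] [IsAlgClosed k] (hnode : NodeStmt.{u} k) (hdeg : DegStmt.{u} k) (g : ℕ) :
    ∀ n, 3 ≤ 2 * g + n → PreconnectedSpace (AlgSt.Points (Mbar (Spec (CommRingCat.of k)) g n)) := by
  induction g using Nat.strong_induction_on with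
  | _ g IH =>
    intro n hn
    match g, IH, hn with
    | 0, _, hn =>
      exact K508.ConnMbar.preconnectedSpace_genus_zero (by omega) (alg _ _ _ hn) (ft _ _ _ hn) (den _ _ _ hn)
    | 1, _, hn =>
      exact K508.ConnMbar.preconnectedSpace_genus_one (K253.WeiFam.atlas k) (by omega) (alg _ _ _ hn) (ft _ _ _ hn)
        (den _ _ _ hn)
    | h + 2, IH, hn =>
      have h0 : PreconnectedSpace (AlgSt.Points (Mbar (Spec (CommRingCat.of k)) (h + 1 + 1) 0)) :=
        preconnectedSpace_zero g1Fam g2Fam (g1Pt k) (g2Pt k) projLoc hnode hdeg (h := h + 1) (by omega)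
          (fun g n hgn => alg _ g n hgn) (fun g n hgn => ft _ g n hgn) (fun g' hg' n' hn' => IH g' (by omega) n' hn')
      exact K508.ConnMbar.preconnectedSpace_of_zero (by omega) (alg _ _ _ (by omega)) (sm _ _ _ (by omega)) h0
        (alg _ _ _ hn) (ft _ _ _ hn) (den _ _ _ hn)

/-- Passing down along a surjective base change. -/
theorem of_surjective {S' S : Scheme.{u}} (β : S' ⟶ S) [Surjective β] (g n : ℕ) (hn : 3 ≤ 2 * g + n)
    [PreconnectedSpace (AlgSt.Points (Mbar S' g n))] : PreconnectedSpace (AlgSt.Points (Mbar S g n)) :=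
  (surjective_pushPt β).denseRange.preconnectedSpace (continuous_pushPt β (alg S' g n hn).isStack.1 (alg S g n hn))

theorem of_algebraicClosure (k : Type u) [Field k] (g n : ℕ) (hn : 3 ≤ 2 * g + n)
    (h : PreconnectedSpace (AlgSt.Points (Mbar (Spec (CommRingCat.of (AlgebraicClosure k))) g n))) :
    PreconnectedSpace (AlgSt.Points (Mbar (Spec (CommRingCat.of k)) g n)) := by
  let β : Spec (CommRingCat.of (AlgebraicClosure k)) ⟶ Spec (CommRingCat.of k) :=
    Spec.map (CommRingCat.ofHom (algebraMap k (AlgebraicClosure k)))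
  have : Surjective β := ⟨fun y => ⟨IsLocalRing.closedPoint _, Subsingleton.elim (α := PrimeSpectrum k) _ _⟩⟩
  exact of_surjective β g n hn

/-- The remaining inputs. -/
structure Inputs2 : Prop where
  num : ∀ (k : Type u) [Field k] [IsAlgClosed k] [CharZero k], K312.NodeFin.Num.{u} k
  deg : ∀ (k : Type u) [Field k] [IsAlgClosed k] [CharZero k], DegStmt.{u} k
  sep : ∀ (S : Scheme.{u}) [IsNoetherian S] (g : ℕ), 2 ≤ g → AlgSt.IsSeparatedOver (Mbar S g 0)

variable (H : Inputs2.{u})

include H

theorem charZero (k : Type u) [Field k] [CharZero k] (g n : ℕ) (hn : 3 ≤ 2 * g + n) :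
    PreconnectedSpace (AlgSt.Points (Mbar (Spec (CommRingCat.of k)) g n)) := by
  have : CharZero (AlgebraicClosure k) := charZero_of_injective_algebraMap (algebraMap k _).injective
  exact of_algebraicClosure k g n hn (charZero_closed _ (nodeStmt _ (H.num _)) (H.deg _) g n hn)

/-- A discrete valuation ring of mixed characteristic: the total space. -/
theorem dvr_total (R : Type u) [CommRing R] [IsDomain R] [IsDiscreteValuationRing R] [CharZero R]
    (g n : ℕ) (hn : 3 ≤ 2 * g + n) :
    PreconnectedSpace (AlgSt.Points (Mbar (Spec (CommRingCat.of R)) g n)) := by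
  let K := FractionRing R
  have : CharZero K := charZero_of_injective_algebraMap (IsFractionRing.injective R K)
  let η : Spec (CommRingCat.of K) ⟶ Spec (CommRingCat.of R) := Spec.map (CommRingCat.ofHom (algebraMap R K))
  let pt : Spec (CommRingCat.of R) := (⊥ : PrimeSpectrum R)
  have hη : ∀ y, η y = pt := by
    intro y
    have hy : y = (⊥ : PrimeSpectrum K) := Subsingleton.elim (α := PrimeSpectrum K) _ _
    rw [hy]
    apply PrimeSpectrum.ext
    change Ideal.comap (algebraMap R K) ⊥ = ⊥
    exact (RingHom.injective_iff_ker_eq_bot _).1 (IsFractionRing.injective R K)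
  have hcl : closure {pt} = (Set.univ : Set ↥(Spec (CommRingCat.of R))) := by
    change closure {(⊥ : PrimeSpectrum R)} = Set.univ
    rw [PrimeSpectrum.closure_singleton]
    exact Set.eq_univ_of_forall fun x => bot_le (a := x.asIdeal)
  have hFL : FieldLift η := by
    intro L _ s ⟨s', hs'⟩
    obtain ⟨φ, rfl⟩ := Spec.map_surjective s
    have h1 : RingHom.ker φ.hom = ⊥ := by
      have h2 : (Spec.map φ) (IsLocalRing.closedPoint L) = pt := hs'.symm.trans (hη s')
      have h3 := congrArg PrimeSpectrum.asIdeal h2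
      refine Eq.trans ?_ h3
      change RingHom.ker φ.hom = Ideal.comap φ.hom (IsLocalRing.maximalIdeal L)
      rw [IsLocalRing.maximalIdeal_eq_bot]
      rfl
    have h4 : Function.Injective φ.hom := (RingHom.injective_iff_ker_eq_bot _).2 h1
    refine ⟨Spec.map (CommRingCat.ofHom (IsFractionRing.lift (K := K) h4)), ?_⟩
    rw [← Spec.map_comp, ← CommRingCat.ofHom_comp]
    congr 1
    ext r
    exact IsFractionRing.lift_algebraMap h4 r
  have := charZero H K g n hn
  have hd := dense_basePt_generic (g := g) (n := n) (alg _ g n hn) (sm _ g n hn) pt hcl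
  have hr : {x : AlgSt.Points (Mbar (Spec (CommRingCat.of R)) g n) | basePt x = pt} = Set.range (pushPt η) := by
    ext x
    rw [mem_range_pushPt_iff η hFL]
    constructor
    · intro hx
      exact ⟨IsLocalRing.closedPoint K, (hη _).trans hx.symm⟩
    · rintro ⟨y, hy⟩
      exact hy.symm.trans (hη y)
  have hp : IsPreconnected (Set.range (pushPt (g := g) (n := n) η)) :=
    isPreconnected_range (continuous_pushPt η (alg _ g n hn).isStack.1 (alg _ g n hn))
  refine ⟨?_⟩
  rw [← hd.closure_eq, hr]
  exact hp.closure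

/-- Perfect fields of characteristic `p`, no marks. -/
theorem charP_perfect (k : Type u) [Field k] (p : ℕ) [Fact p.Prime] [CharP k p] [PerfectRing k p]
    (g : ℕ) (hg : 2 ≤ g) : PreconnectedSpace (AlgSt.Points (Mbar (Spec (CommRingCat.of k)) g 0)) := by
  have hn : 3 ≤ 2 * g + 0 := by omega
  let R := WittVector p k
  have hm : IsLocalRing.maximalIdeal R = Ideal.span {(p : R)} :=
    (WittVector.irreducible p (k := k)).maximalIdeal_eq
  have : IsAdicComplete (IsLocalRing.maximalIdeal R) R := by
    rw [hm]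
    infer_instance
  have hpp : (p : R) ≠ 0 := (WittVector.irreducible p (k := k)).ne_zero
  have : CharZero R := by
    obtain ⟨q, hq⟩ := CharP.exists R
    rcases CharP.char_is_prime_or_zero R q with hprime | rfl
    · exfalso
      have h1 : (q : R) = 0 := CharP.cast_eq_zero R q
      have h2 : (q : k) = 0 := by
        rw [← map_natCast (WittVector.constantCoeff (p := p) (R := k)) q, h1, map_zero]
      have h3 : p ∣ q := (CharP.cast_eq_zero_iff k p q).1 h2
      have h4 : p = q := (Nat.prime_dvd_prime_iff_eq (Fact.out) hprime).1 h3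
      rw [← h4] at h1
      exact hpp h1
    · exact CharP.charP_to_charZero R
  let σ : Spec (CommRingCat.of k) ⟶ Spec (CommRingCat.of R) :=
    Spec.map (CommRingCat.ofHom (WittVector.constantCoeff (p := p) (R := k)))
  have hσ : IsClosedImmersion σ :=
    IsClosedImmersion.spec_of_surjective _ (WittVector.constantCoeff_surjective p)
  have hσ' : ∀ y, σ y = (IsLocalRing.closedPoint R : PrimeSpectrum R) := by
    intro y
    have hy : y = (⊥ : PrimeSpectrum k) := Subsingleton.elim (α := PrimeSpectrum k) _ _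
    rw [hy]
    apply PrimeSpectrum.ext
    change Ideal.comap (WittVector.constantCoeff (p := p) (R := k)) ⊥ = IsLocalRing.maximalIdeal R
    rw [hm, ← WittVector.ker_constantCoeff]
    rfl
  have hp := dvr_total H R g 0 hn
  have hz := zar0 H.sep R g hg hp
  have hr : {x : AlgSt.Points (Mbar (Spec (CommRingCat.of R)) g 0) |
      basePt x = (IsLocalRing.closedPoint R : PrimeSpectrum R)} = Set.range (pushPt σ) := by
    ext x
    rw [mem_range_pushPt_iff σ (fieldLift_of_isClosedImmersion σ)]
    constructor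
    · intro hx
      exact ⟨(⊥ : PrimeSpectrum k), (hσ' _).trans hx.symm⟩
    · rintro ⟨y, hy⟩
      exact hy.symm.trans (hσ' y)
  rw [hr] at hz
  have he : Topology.IsClosedEmbedding (pushPt (g := g) (n := 0) σ) :=
    .of_continuous_injective_isClosedMap (continuous_pushPt σ (alg _ g 0 hn).isStack.1 (alg _ g 0 hn))
      (injective_pushPt σ (alg _ g 0 hn).isStack.1) (isClosedMap_pushPt σ (alg _ g 0 hn) (alg _ g 0 hn))
  refine ⟨?_⟩
  rw [← he.isInducing.isPreconnected_image, Set.image_univ]
  exact hz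

theorem preconnectedSpace_points (k : Type u) [Field k] (g n : ℕ) (hn : 3 ≤ 2 * g + n) :
    PreconnectedSpace (AlgSt.Points (Mbar (Spec (CommRingCat.of k)) g n)) := by
  obtain ⟨p, hp⟩ := CharP.exists k
  rcases CharP.char_is_prime_or_zero k p with hprime | rfl
  · have : Fact p.Prime := ⟨hprime⟩
    have : CharP (AlgebraicClosure k) p := charP_of_injective_algebraMap (algebraMap k _).injective p
    exact of_algebraicClosure k g n hn
      (closed_of_zero (AlgebraicClosure k) (fun g hg => charP_perfect H (AlgebraicClosure k) p g hg) g n hn)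
  · have : CharZero k := CharP.charP_to_charZero k
    exact charZero H k g n hn

/-- **S16728** from the inputs. -/
theorem s16728 (k : Type u) [Field k] (g n : ℕ) (h : 3 ≤ 2 * g + n) :
    AlgSt.IsDM Scheme.etalePrecoverage (CurvSt.Mbar (Spec (CommRingCat.of k)) g n) ∧
      IrreducibleSpace (AlgSt.Points (CurvSt.Mbar (Spec (CommRingCat.of k)) g n)) ∧
      ∀ (Ω : Type u) [Field Ω] [IsAlgClosed Ω] (t : Spec (CommRingCat.of Ω) ⟶ Spec (CommRingCat.of k)),
        Nonempty ((CurvSt.Mbar (Spec (CommRingCat.of k)) g n).p.Fiber (Over.mk t)) := by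
  have hne : Nonempty (AlgSt.Points (Mbar (Spec (CommRingCat.of k)) g n)) := by
    let L := AlgebraicClosure k
    let β : Spec (CommRingCat.of L) ⟶ Spec (CommRingCat.of k) :=
      Spec.map (CommRingCat.ofHom (algebraMap k (AlgebraicClosure k)))
    obtain ⟨⟨a, ha⟩⟩ := K310.ExistsCurve.nonempty_Mbar_fiber (k := L) β g n h
    exact ⟨AlgSt.Points.mk ⟨L, β, a, ha⟩⟩
  exact ⟨(Groth.Agent.S16723.result _ g n h).1,
    K896.IrrTop.irreducibleSpace_points (alg _ g n h) (sm _ g n h) (preconnectedSpace_points H k g n h) hne,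
    (Groth.Agent.S16723.result _ g n h).2⟩

end K896.Final2
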