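import Groth.Agent.CurvSt.K896.Final
import Groth.Agent.CurvSt.K508.ZarProp

/-!
# Zariski connectedness for the stack of stable curves (input `zar` of `K896.Final.Inputs`)
-/

set_option autoImplicit false
set_option backward.isDefEq.respectTransparency false
set_option backward.isDefEq.respectTransparency.types false

universe u

open CategoryTheory CategoryTheory.Limits AlgebraicGeometry Opposite CurvSt

namespace K896.Final

open K896.BaseCh

theorem base_eq_basePt {S : Scheme.{u}} {g n : ℕ} (x : AlgSt.Points (Mbar S g n)) :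
    K508.ZarSt.base x = basePt x := by
  obtain ⟨p, rfl⟩ := AlgSt.Points.mk_surjective x
  rfl

/-- `ZarStmt` from the properness of `Mbar_{g,n}` (S16726) and the finite covers S16819. -/
theorem zarStmt
    (hdm : ∀ (S : Scheme.{u}) (g n : ℕ), 3 ≤ 2 * g + n → AlgSt.IsDM Scheme.etalePrecoverage (Mbar S g n))
    (hqc : ∀ (S : Scheme.{u}) [CompactSpace S] (g n : ℕ), 3 ≤ 2 * g + n → AlgSt.IsQuasiCompact (Mbar S g n))
    (hsep : ∀ (S : Scheme.{u}) (g n : ℕ), 3 ≤ 2 * g + n → AlgSt.IsSeparatedOver (Mbar S g n))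
    (hft : ∀ (S : Scheme.{u}) (g n : ℕ), 3 ≤ 2 * g + n →
      AlgSt.LocQ (AlgSp.LocP @LocallyOfFiniteType) (FibCat.toSelf (Mbar S g n)))
    (huc : ∀ (S : Scheme.{u}) (g n : ℕ), 3 ≤ 2 * g + n →
      AlgSt.IsUnivClosed Scheme.etalePrecoverage (FibCat.toSelf (Mbar S g n)))
    (h819 : ∀ (S : Scheme.{u}) [IsNoetherian S] (𝒳 : AlgSt.Cat S), AlgSt.IsDM Scheme.etalePrecoverage 𝒳 →
      AlgSt.IsSeparatedOver 𝒳 → AlgSt.LocQ (AlgSp.LocP @LocallyOfFiniteType) (FibCat.toSelf 𝒳) →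
      AlgSt.IsQuasiCompact 𝒳 → ∃ (Z : Over S) (z : FibCat.overCat Z ⥤ᵇ 𝒳),
        AlgSt.RepByAlgSpWith AlgSp.IsFiniteMor z ∧ AlgSt.RepByAlgSpWith AlgSp.IsSurjectiveMor z) :
    ZarStmt.{u} := by
  intro R _ _ _ _ g n hn hp
  have hH : HenselianLocalRing R :=
    { is_henselian := fun f hf a₀ h₁ h₂ =>
        HenselianRing.is_henselian (I := IsLocalRing.maximalIdeal R) f hf a₀ h₁ (h₂.map _) }
  have hN : IsNoetherian (Spec (CommRingCat.of R)) := inferInstance
  have h1 := K508.ZarSt.isPreconnected_closedFibre_of_cover (A := R) (𝒳 := Mbar (Spec (CommRingCat.of R)) g n)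
    (hdm _ g n hn).1 (hsep _ g n hn) (hft _ g n hn) (huc _ g n hn)
    (h819 _ _ (hdm _ g n hn) (hsep _ g n hn) (hft _ g n hn) (hqc _ g n hn))
  have h2 : ((K508.ZarSt.base : AlgSt.Points (Mbar (Spec (CommRingCat.of R)) g n) → _) ⁻¹'
      {(IsLocalRing.closedPoint R : PrimeSpectrum R)}) = {x : AlgSt.Points (Mbar (Spec (CommRingCat.of R)) g n) |
      basePt x = (IsLocalRing.closedPoint R : PrimeSpectrum R)} := by
    ext x
    rw [Set.mem_preimage, base_eq_basePt]
    rfl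
  rw [← h2]
  exact h1

end K896.Final
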