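import Groth.Agent.CurvSt.K896.FinalZar
import Groth.Agent.CurvSt.K896.NodeFinal
import Groth.Agent.CurvSt.K896.MbarFinal
import Groth.Agent.CurvSt.K253.WeiFam
import Groth.Agent.CurvSt.K310.ExistsCurve
import Groth.Agent.S16723
import Groth.Agent.S16724
import Groth.Agent.S16729
import Groth.Agent.S16733
import Groth.Agent.S16819

/-!
# The inputs of S16728
-/

set_option autoImplicit false
set_option backward.isDefEq.respectTransparency false
set_option backward.isDefEq.respectTransparency.types false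

universe u

open CategoryTheory CategoryTheory.Limits AlgebraicGeometry Opposite CurvSt

namespace K896.Final

open K896.StPts K896.MbarFam K896.MbarSmooth K896.Bdry K896.BdryConn K896.BaseCh

/-- `DegStmt` from S16736. -/
theorem degStmt (k : Type u) [Field k]
    (h36 : ∀ (X : Scheme.{u}) [X.Over (Spec (CommRingCat.of k))] [Smooth (X ↘ Spec (CommRingCat.of k))]
      [IsProper (X ↘ Spec (CommRingCat.of k))] [ConnectedSpace X] (hdim : topologicalKrullDim X = 1)
      (g : ℕ) (hg : Curv2.genus k X = g) (h2 : 2 ≤ g),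
      ∃ (T : Scheme.{u}) (p : T ⟶ Spec (CommRingCat.of k)) (s t : Spec (CommRingCat.of k) ⟶ T)
        (C : Scheme.{u}) (f : C ⟶ T) (i : X ⟶ C),
        Smooth p ∧ ConnectedSpace T ∧ topologicalKrullDim T = 1 ∧ s ≫ p = 𝟙 _ ∧ t ≫ p = 𝟙 _ ∧
        CurvSt.IsStableFam f (fun j : Fin 0 => j.elim0) (fun j : Fin 0 => j.elim0) g ∧
        IsPullback i (X ↘ Spec (CommRingCat.of k)) f s ∧
        ∀ (Y : Scheme.{u}) (j : Y ⟶ C) (r : Y ⟶ Spec (CommRingCat.of k)), IsPullback j r f t → ¬ Smooth r) :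
    DegStmt.{u} k := by
  intro X q _ _ _ hdim g hg h2
  let _ : X.Over (Spec (CommRingCat.of k)) := ⟨q⟩
  have i1 : Smooth (X ↘ Spec (CommRingCat.of k)) := ‹Smooth q›
  have i2 : IsProper (X ↘ Spec (CommRingCat.of k)) := ‹IsProper q›
  exact h36 X hdim g hg h2

/-- The inputs from S16726, S16736, the glueing theorems and the second half of `NodeStmt`. -/
theorem inputs
    (hsep : ∀ (S : Scheme.{u}) (g n : ℕ), 3 ≤ 2 * g + n → AlgSt.IsSeparatedOver (Mbar S g n))
    (huc : ∀ (S : Scheme.{u}) (g n : ℕ), 3 ≤ 2 * g + n →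
      AlgSt.IsUnivClosed Scheme.etalePrecoverage (FibCat.toSelf (Mbar S g n)))
    (hdeg : ∀ (k : Type u) [Field k] [IsAlgClosed k] [CharZero k], DegStmt.{u} k)
    (hg1 : G1Fam.{u}) (hg2 : G2Fam.{u}) (hg1' : ∀ (k : Type u) [Field k] [IsAlgClosed k], G1Pt.{u} k)
    (hg2' : ∀ (k : Type u) [Field k] [IsAlgClosed k], G2Pt.{u} k)
    (hgl : ∀ (k : Type u) [Field k] [IsAlgClosed k], K896.NodeFinal.OfGl.{u} k) : Inputs.{u} where
  alg S g n h := (Groth.Agent.S16723.result S g n h).1.1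
  sm S g n h := K896.MbarFinal.locQ_smooth_mbar S h
  den k _ _ g n h := (Groth.Agent.S16729.result k g n h).2.2.1
  atlas k _ _ _ := K253.WeiFam.atlas k
  proj {_ _} f _ _ _ hdim s := Groth.Agent.S16733.result f hdim s
  g1 := hg1
  g2 := hg2
  g1' := hg1'
  g2' := hg2'
  node k _ _ := K896.NodeFinal.nodeStmt k (hgl k)
  deg k _ _ _ := hdeg k
  zar := zarStmt (fun S g n h => (Groth.Agent.S16723.result S g n h).1)
    (fun S _ g n h => (Groth.Agent.S16724.result S g n h).2.1) hsep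
    (fun S g n h => locQ_mono (K896.MbarFinal.locQ_smooth_mbar S h)) huc
    (fun S _ 𝒳 h1 h2 h3 h4 => Groth.Agent.S16819.result S 𝒳 h1 h2 h3 h4)

/-- **S16728** from the inputs. -/
theorem s16728 (H : Inputs.{u}) (k : Type u) [Field k] (g n : ℕ) (h : 3 ≤ 2 * g + n) :
    AlgSt.IsDM Scheme.etalePrecoverage (CurvSt.Mbar (Spec (CommRingCat.of k)) g n) ∧
      IrreducibleSpace (AlgSt.Points (CurvSt.Mbar (Spec (CommRingCat.of k)) g n)) ∧
      ∀ (Ω : Type u) [Field Ω] [IsAlgClosed Ω] (t : Spec (CommRingCat.of Ω) ⟶ Spec (CommRingCat.of k)),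
        Nonempty ((CurvSt.Mbar (Spec (CommRingCat.of k)) g n).p.Fiber (Over.mk t)) :=
  ⟨(Groth.Agent.S16723.result _ g n h).1, irreducibleSpace_points H k g n h, (Groth.Agent.S16723.result _ g n h).2⟩

end K896.Final
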