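import Groth.Agent.CurvSt.K902.SelfChart
import Groth.Agent.CurvSt.K898.MbarEq
import Groth.Agent.AlgSt.K738.Sep2
import Groth.Agent.CurvSt.K896.MbarSmooth

/-!
# `Mbar_{g,n}` is locally of finite presentation and smooth, from the stack of curves
-/

set_option autoImplicit false
set_option backward.isDefEq.respectTransparency false
set_option backward.isDefEq.respectTransparency.types false

universe v₂ u₂ u

open CategoryTheory CategoryTheory.Limits AlgebraicGeometry Opposite CurvSt

namespace K896.MbarLfp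

variable {S : Scheme.{u}}

/-- Open substacks of stacks locally of finite presentation over `S`. -/
theorem locQ_lfp_fullSub {𝒳 : BasedCategory.{v₂, u₂} (Over S)} [FibCat.IsFibGrpd 𝒳.p] {Q : 𝒳.obj → Prop}
    (hQ : K901.OpenSub.OpenLocus 𝒳 Q)
    (h : AlgSt.LocQ (AlgSp.LocP @LocallyOfFinitePresentation) (FibCat.toSelf 𝒳)) :
    AlgSt.LocQ (AlgSp.LocP @LocallyOfFinitePresentation) (FibCat.toSelf (AlgSt.fullSub 𝒳 Q)) := by
  obtain ⟨U, x, hx, hx', hU⟩ := K902.SelfChart.exists_atlas_lfp h
  obtain ⟨W, hW⟩ := hQ.chart x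
  refine K902.SelfChart.locQ_toSelf (K901.OpenSub.liftChart x W hW)
    (K901.OpenSub.repByAlgSpWith_liftChart hQ.stable x W hW _ hx)
    (K901.OpenSub.repByAlgSpWith_liftChart hQ.stable x W hW _ hx') ?_
  have : LocallyOfFinitePresentation (K901.OpenSub.opObj W).hom :=
    inferInstanceAs (LocallyOfFinitePresentation (W.ι ≫ U.hom))
  exact K899.CurveFam.locP_lfp _ this

/-- `Mbar_{g,n}` is locally of finite presentation over `S`. -/
theorem locQ_lfp_mbar {g n : ℕ} (hC : FibCat.IsFibGrpd (Curves S n).p)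
    (hlfp : AlgSt.LocQ (AlgSp.LocP @LocallyOfFinitePresentation) (FibCat.toSelf (Curves S n)))
    (hE : ∀ A : (Curves S n).obj, K901.EtSch.EtLocSch A.obj)
    (hAmp : ∀ B : PtFamObj S n, IsStableFam B.f B.sect B.sect_f g → ∃ L : B.C.Modules, RelAmple.IsRelAmple B.f L)
    (hO : K901.OpenSub.OpenLocus (Curves S n) (fun A => SpIsStablePtd A.obj g)) :
    AlgSt.LocQ (AlgSp.LocP @LocallyOfFinitePresentation) (FibCat.toSelf (Mbar S g n)) := by
  have := hC
  exact (K738.Sep.locQ_toSelf_iff (K898.MbarEq.isEquivOver_mbar g hE hAmp)).2 (locQ_lfp_fullSub hO hlfp)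

end K896.MbarLfp
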