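import Groth.Agent.Curves.K830.NodeNorm
import Groth.Agent.CalgA.RegBasic

/-!
# The partial normalization at a node: algebra

`R` Noetherian, `M = (a, b)` maximal, `a ^ 2 + β a b + γ b ^ 2 = 0`, `M` the only prime containing `b`, the local ring at
`M` node-like.  In `B = R[1/b]` put `θ = a / b`; the integral closure of `R` in `B` is `R + R θ` and `M` is the
conductor.
-/

set_option autoImplicit false
universe u

open IsLocalRing nonZeroDivisors

namespace K896.NdAlg

open Groth.Agent.CurvesB.Node K830.NodeNorm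

variable {R A B : Type u} [CommRing R] [CommRing A] [CommRing B] [Algebra R A] [Algebra R B]

/-- Presentation of a node on an affine scheme. -/
structure Pres (M : Ideal R) (A : Type u) [CommRing A] [Algebra R A] (a b β γ : R) : Prop where
  max : M.IsMaximal
  gen : M = Ideal.span {a, b}
  rel : a ^ 2 + β * a * b + γ * b ^ 2 = 0
  disc : 4 * γ - β ^ 2 ∉ M
  uniq : ∀ P : Ideal R, P.IsPrime → b ∈ P → P = M
  isLocal : IsLocalRing A
  noeth : IsNoetherianRing A
  np : ∀ n : ℕ, 1 ≤ n → ¬ (maximalIdeal A ^ n).IsPrincipal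

variable {M : Ideal R} {a b β γ : R} {θ : B}

section

variable (h : Pres M A a b β γ) [hMp : M.IsPrime] [hloc : IsLocalization.AtPrime A M]
include h

theorem Pres.maximalIdeal_eq : letI := h.isLocal; maximalIdeal A = Ideal.span {algebraMap R A a, algebraMap R A b} := by
  letI := h.isLocal
  have h1 := IsLocalization.AtPrime.map_eq_maximalIdeal M A
  rw [← h1]
  conv_lhs => rw [h.gen]
  rw [Ideal.map_span, Set.image_pair]

theorem Pres.isUnit_disc : IsUnit (4 * algebraMap R A γ - algebraMap R A β ^ 2) := by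
  have h1 := IsLocalization.map_units A (⟨4 * γ - β ^ 2, h.disc⟩ : M.primeCompl)
  have h2 : algebraMap R A (4 * γ - β ^ 2) = 4 * algebraMap R A γ - algebraMap R A β ^ 2 := by
    rw [map_sub, map_mul, map_pow, map_ofNat]
  rwa [← h2]

omit hMp hloc in
theorem Pres.rel' : algebraMap R A a ^ 2 + algebraMap R A β * algebraMap R A a * algebraMap R A b +
    algebraMap R A γ * algebraMap R A b ^ 2 = 0 := by
  have := congrArg (algebraMap R A) h.rel
  simpa using this

theorem Pres.nzd : algebraMap R A b ∈ A⁰ := by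
  letI := h.isLocal
  letI := h.noeth
  exact mem_nonZeroDivisors h.maximalIdeal_eq h.rel' h.np

omit hMp hloc in
theorem Pres.mem_of (P : Ideal R) (hP : P.IsPrime) (hne : P ≠ M) : b ∉ P := fun hb => hne (h.uniq P hP hb)

/-- `b` is a nonzerodivisor. -/
theorem Pres.nzd_R : b ∈ R⁰ := by
  rw [mem_nonZeroDivisors_iff_right]
  intro x hx
  -- the annihilator of `x`
  by_contra hx0
  let I : Ideal R := (Ideal.span {x}).annihilator
  have hI : I ≠ ⊤ := by
    intro h1
    have h2 : (1 : R) ∈ I := by rw [h1]; trivial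
    rw [Submodule.mem_annihilator_span_singleton] at h2
    exact hx0 (by simpa using h2)
  obtain ⟨P, hP, hIP⟩ := Ideal.exists_le_maximal I hI
  have hbI : b ∈ I := by
    rw [Submodule.mem_annihilator_span_singleton, smul_eq_mul, mul_comm]
    exact hx
  have hPM : P = M := h.uniq P hP.isPrime (hIP hbI)
  have h1 : algebraMap R A x = 0 := by
    have h2 := h.nzd
    rw [mem_nonZeroDivisors_iff_right] at h2
    apply h2
    rw [← map_mul, hx, map_zero]
  obtain ⟨⟨s, hs⟩, hsx⟩ := (IsLocalization.map_eq_zero_iff M.primeCompl A x).1 h1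
  apply hs
  rw [← hPM]
  apply hIP
  rw [Submodule.mem_annihilator_span_singleton, smul_eq_mul]
  exact hsx

end

section Away

variable (h : Pres M A a b β γ) [hMp : M.IsPrime] [hloc : IsLocalization.AtPrime A M] [hB : IsLocalization.Away b B]
  (hθ : θ * algebraMap R B b = algebraMap R B a)
include h

/-- The map from `R[1/b]` to the fractions of the local ring. -/
theorem Pres.exists_map : ∃ ψ : B →+* FractionRing A, ∀ r : R, ψ (algebraMap R B r) =
    algebraMap A (FractionRing A) (algebraMap R A r) := by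
  have hu : IsUnit (((algebraMap A (FractionRing A)).comp (algebraMap R A)) b) :=
    IsLocalization.map_units (FractionRing A) ⟨algebraMap R A b, h.nzd⟩
  exact ⟨IsLocalization.Away.lift b hu, fun r => IsLocalization.Away.lift_eq b hu r⟩

theorem Pres.exists_of_map_eq_zero (ψ : B →+* FractionRing A) (hψ : ∀ r : R, ψ (algebraMap R B r) =
    algebraMap A (FractionRing A) (algebraMap R A r)) (z : B) (hz : ψ z = 0) :
    ∃ s : R, s ∉ M ∧ algebraMap R B s * z = 0 := by
  obtain ⟨n, r, hr⟩ := IsLocalization.Away.surj b z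
  have h1 : algebraMap A (FractionRing A) (algebraMap R A r) = 0 := by
    rw [← hψ, ← hr, map_mul, hz, zero_mul]
  have h2 : algebraMap R A r = 0 := (IsFractionRing.injective A (FractionRing A)) (by rw [h1, map_zero])
  obtain ⟨⟨s, hs⟩, hsr⟩ := (IsLocalization.map_eq_zero_iff M.primeCompl A r).1 h2
  refine ⟨s, hs, ?_⟩
  have hu : IsUnit (algebraMap R B b ^ n) := (IsLocalization.Away.algebraMap_isUnit b).pow n
  rw [← hu.mul_left_eq_zero, mul_assoc, hr, ← map_mul]
  change algebraMap R B (s * r) = 0
  rw [hsr, map_zero]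

include hθ in
theorem Pres.psi_theta (ψ : B →+* FractionRing A) (hψ : ∀ r : R, ψ (algebraMap R B r) =
    algebraMap A (FractionRing A) (algebraMap R A r)) : ψ θ = theta h.nzd (algebraMap R A a) := by
  have hu : IsUnit (algebraMap A (FractionRing A) (algebraMap R A b)) :=
    IsLocalization.map_units (FractionRing A) ⟨algebraMap R A b, h.nzd⟩
  apply hu.mul_right_cancel
  rw [theta_mul, ← hψ, ← hψ, ← map_mul, hθ]

include hθ in
/-- Independence of `1` and `θ` modulo `M`. -/
theorem Pres.indep {p q x : R} (hx : x ∈ M) (hpq : algebraMap R B p + algebraMap R B q * θ = algebraMap R B x) :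
    p ∈ M ∧ q ∈ M := by
  letI := h.isLocal
  letI := h.noeth
  obtain ⟨ψ, hψ⟩ := h.exists_map (B := B)
  have h1 := congrArg ψ hpq
  rw [map_add, map_mul, hψ, hψ, hψ, h.psi_theta hθ ψ hψ] at h1
  have hxm : algebraMap R A x ∈ maximalIdeal A := (IsLocalization.AtPrime.to_map_mem_maximal_iff A M x).2 hx
  obtain ⟨h2, h3⟩ := independent h.maximalIdeal_eq h.rel' h.np h.nzd hxm h1
  exact ⟨(IsLocalization.AtPrime.to_map_mem_maximal_iff A M p).1 h2,
    (IsLocalization.AtPrime.to_map_mem_maximal_iff A M q).1 h3⟩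

include hθ in
/-- The integral closure of `R` in `R[1/b]`. -/
theorem Pres.exists_eq {c : B} (hc : IsIntegral R c) : ∃ p q : R, c = algebraMap R B p + algebraMap R B q * θ := by
  letI := h.isLocal
  letI := h.noeth
  -- the ideal of denominators
  let I : Ideal R :=
    { carrier := {r | ∃ p q : R, algebraMap R B r * c = algebraMap R B p + algebraMap R B q * θ}
      add_mem' := by
        rintro r r' ⟨p, q, h1⟩ ⟨p', q', h2⟩
        exact ⟨p + p', q + q', by rw [map_add, add_mul, h1, h2, map_add, map_add]; ring⟩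
      zero_mem' := ⟨0, 0, by simp⟩
      smul_mem' := by
        rintro s r ⟨p, q, h1⟩
        exact ⟨s * p, s * q, by rw [smul_eq_mul, map_mul, mul_assoc, h1, map_mul, map_mul]; ring⟩ }
  have hI : I = ⊤ := by
    by_contra hne
    obtain ⟨P, hP, hIP⟩ := Ideal.exists_le_maximal I hne
    by_cases hbP : b ∈ P
    · have hPM : P = M := h.uniq P hP.isPrime hbP
      obtain ⟨ψ, hψ⟩ := h.exists_map (B := B)
      have hi : IsIntegral A (ψ c) := by
        obtain ⟨f, hf, hfc⟩ := hc
        refine ⟨f.map (algebraMap R A), hf.map _, ?_⟩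
        rw [Polynomial.eval₂_map]
        have h1 : (algebraMap A (FractionRing A)).comp (algebraMap R A) = ψ.comp (algebraMap R B) := by
          ext r
          exact (hψ r).symm
        rw [h1, ← Polynomial.hom_eval₂, hfc, map_zero]
      obtain ⟨p', q', hpq⟩ := exists_of_isIntegral h.maximalIdeal_eq h.isUnit_disc h.rel' h.np h.nzd hi
      obtain ⟨p, s₁, rfl⟩ := IsLocalization.exists_mk'_eq M.primeCompl p'
      obtain ⟨q, s₂, rfl⟩ := IsLocalization.exists_mk'_eq M.primeCompl q'
      have hp : algebraMap R A s₁ * IsLocalization.mk' A p s₁ = algebraMap R A p := by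
        rw [mul_comm, IsLocalization.mk'_spec]
      have hq : algebraMap R A s₂ * IsLocalization.mk' A q s₂ = algebraMap R A q := by
        rw [mul_comm, IsLocalization.mk'_spec]
      have hz : ψ (algebraMap R B (s₁ * s₂) * c - (algebraMap R B (s₂ * p) + algebraMap R B (s₁ * q) * θ)) = 0 := by
        simp only [map_sub, map_add, map_mul, hψ, h.psi_theta hθ ψ hψ, hpq]
        rw [← hp, ← hq]
        simp only [map_mul]
        ring
      obtain ⟨s, hs, hsz⟩ := h.exists_of_map_eq_zero ψ hψ _ hz
      have h1 : s * (s₁ * s₂) ∈ I := by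
        refine ⟨s * (s₂ * p), s * (s₁ * q), ?_⟩
        rw [mul_sub, sub_eq_zero, ← mul_assoc, ← map_mul] at hsz
        rw [hsz]
        simp only [map_mul]
        ring
      have h2 := hIP h1
      rw [hPM] at h2
      rcases hMp.mem_or_mem h2 with h3 | h3
      · exact hs h3
      · rcases hMp.mem_or_mem h3 with h4 | h4
        · exact s₁.2 h4
        · exact s₂.2 h4
    · obtain ⟨n, r, hr⟩ := IsLocalization.Away.surj b c
      have h1 : b ^ n ∈ I := ⟨r, 0, by rw [map_pow, map_zero, zero_mul, add_zero, mul_comm]; exact hr⟩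
      exact hbP (hP.isPrime.mem_of_pow_mem n (hIP h1))
  have h1 : (1 : R) ∈ I := by rw [hI]; trivial
  obtain ⟨p, q, hpq⟩ := h1
  exact ⟨p, q, by rwa [map_one, one_mul] at hpq⟩

omit hMp hloc in
include hθ in
theorem Pres.theta_sq : θ ^ 2 + algebraMap R B β * θ + algebraMap R B γ = 0 := by
  have hu : IsUnit (algebraMap R B b) := IsLocalization.Away.algebraMap_isUnit b
  have h1 := congrArg (algebraMap R B) h.rel
  rw [map_add, map_add, map_mul, map_mul, map_mul, map_pow, map_pow, map_zero, ← hθ] at h1
  have h2 : (algebraMap R B b) ^ 2 * (θ ^ 2 + algebraMap R B β * θ + algebraMap R B γ) = 0 := by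
    linear_combination h1
  exact ((hu.pow 2).mul_right_eq_zero).mp h2

omit hMp hloc in
include hθ in
theorem Pres.isIntegral_theta : IsIntegral R θ := by
  refine ⟨Polynomial.X ^ 2 + (Polynomial.C β * Polynomial.X + Polynomial.C γ), ?_, ?_⟩
  · refine Polynomial.monic_X_pow_add ?_
    exact lt_of_le_of_lt (Polynomial.degree_linear_le) (by norm_num)
  · rw [Polynomial.eval₂_add, Polynomial.eval₂_add, Polynomial.eval₂_mul, Polynomial.eval₂_pow, Polynomial.eval₂_C,
      Polynomial.eval₂_C, Polynomial.eval₂_X, ← add_assoc]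
    exact h.theta_sq hθ

omit hMp hloc in
include hθ in
/-- `M θ` is in `R`. -/
theorem Pres.exists_mul {q : R} (hq : q ∈ M) : ∃ r : R, algebraMap R B q * θ = algebraMap R B r := by
  have h1 : q ∈ Ideal.span {a, b} := by rw [← h.gen]; exact hq
  obtain ⟨s, t, hst⟩ := Ideal.mem_span_pair.1 h1
  have hu : IsUnit (algebraMap R B b) := IsLocalization.Away.algebraMap_isUnit b
  have h2 : algebraMap R B a * θ = algebraMap R B (-(β * a) - γ * b) := by
    have h3 := h.theta_sq hθ
    rw [map_sub, map_neg, map_mul, map_mul, ← hθ]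
    linear_combination (algebraMap R B b) * h3
  refine ⟨s * (-(β * a) - γ * b) + t * a, ?_⟩
  rw [← hst, map_add, map_mul, map_mul, add_mul, mul_assoc, h2, mul_assoc, mul_comm _ θ, hθ, map_add, map_mul, map_mul]

/-- `R` is in `R[1/b]`. -/
theorem Pres.injective : Function.Injective (algebraMap R B) := by
  rw [injective_iff_map_eq_zero]
  intro r hr
  obtain ⟨⟨s, n, hs⟩, hsr⟩ := (IsLocalization.map_eq_zero_iff (Submonoid.powers b) B r).1 hr
  have h1 : b ^ n ∈ R⁰ := pow_mem h.nzd_R n
  rw [mem_nonZeroDivisors_iff_right] at h1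
  apply h1
  change s * r = 0 at hsr
  change b ^ n = s at hs
  rw [hs, mul_comm]
  exact hsr

section Points

variable {k : Type u} [Field k] (ρ : R →+* k) (hρ : RingHom.ker ρ = M) {r : k} (hr : r ^ 2 + ρ β * r + ρ γ = 0)
include hρ hr hθ

/-- The point of the integral closure with `θ = r`. -/
theorem Pres.exists_point : ∃ φ : integralClosure R B →+* k, ∀ (c : integralClosure R B) (p q : R),
    (c : B) = algebraMap R B p + algebraMap R B q * θ → φ c = ρ p + ρ q * r := by
  classical
  choose P Q hPQ using fun c : integralClosure R B => h.exists_eq hθ c.2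
  have key : ∀ (c : integralClosure R B) (p q : R), (c : B) = algebraMap R B p + algebraMap R B q * θ →
      ρ (P c) + ρ (Q c) * r = ρ p + ρ q * r := by
    intro c p q hc
    have h1 : algebraMap R B (P c - p) + algebraMap R B (Q c - q) * θ = algebraMap R B 0 := by
      rw [map_sub, map_sub, map_zero]
      have h2 := (hPQ c).symm.trans hc
      linear_combination h2
    obtain ⟨h2, h3⟩ := h.indep hθ (Ideal.zero_mem M) h1
    rw [← hρ, RingHom.mem_ker, map_sub, sub_eq_zero] at h2 h3
    rw [h2, h3]
  refine ⟨{ toFun := fun c => ρ (P c) + ρ (Q c) * r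
            map_one' := ?_, map_mul' := ?_, map_zero' := ?_, map_add' := ?_ }, key⟩
  · rw [key 1 1 0 (by simp)]
    simp
  · intro c c'
    rw [key (c * c') (P c * P c' - Q c * Q c' * γ) (P c * Q c' + Q c * P c' - Q c * Q c' * β) ?_]
    · simp only [map_add, map_sub, map_mul]
      linear_combination (-(ρ (Q c) * ρ (Q c'))) * hr
    · rw [MulMemClass.coe_mul, hPQ c, hPQ c']
      simp only [map_add, map_sub, map_mul]
      linear_combination (algebraMap R B (Q c) * algebraMap R B (Q c')) * h.theta_sq hθ
  · rw [key 0 0 0 (by simp)]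
    simp
  · intro c c'
    rw [key (c + c') (P c + P c') (Q c + Q c') ?_]
    · simp only [map_add]
      ring
    · rw [AddMemClass.coe_add, hPQ c, hPQ c']
      simp only [map_add]
      ring

end Points

omit h in
/-- A local ring whose maximal ideal is generated by a nonzerodivisor is regular. -/
theorem isRegularLocalRing_of_span {L : Type u} [CommRing L] [IsLocalRing L] [IsNoetherianRing L] {b : L}
    (hb : maximalIdeal L = Ideal.span {b}) (hnz : b ∈ L⁰) : IsRegularLocalRing L := by
  have hm : (Ideal.span ({b} : Set L)).IsMaximal := by rw [← hb]; infer_instance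
  let _ : Field (L ⧸ Ideal.span ({b} : Set L)) := Ideal.Quotient.field _
  exact Groth.Agent.CalgA.RegBasic.of_quotient b (by rw [hb]; exact Ideal.mem_span_singleton_self b) hnz

section Reg

variable {k : Type u} [Field k] (ρ : R →+* k)

/-- The two points of the integral closure. -/
structure Pts (ρ : R →+* k) (φ₁ φ₂ : integralClosure R B →+* k) : Prop where
  c₁ : ∀ r : R, φ₁ (algebraMap R _ r) = ρ r
  c₂ : ∀ r : R, φ₂ (algebraMap R _ r) = ρ r
  ne : ∃ c, φ₁ c ≠ φ₂ c
  eq : ∀ c, φ₁ c = φ₂ c → ∃ r : R, algebraMap R _ r = c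
  reg₁ : ∀ (L : Type u) [CommRing L] [Algebra (integralClosure R B) L] [hp : (RingHom.ker φ₁).IsPrime]
    [IsLocalization.AtPrime L (RingHom.ker φ₁)], ∃ _ : IsLocalRing L, IsRegularLocalRing L
  reg₂ : ∀ (L : Type u) [CommRing L] [Algebra (integralClosure R B) L] [hp : (RingHom.ker φ₂).IsPrime]
    [IsLocalization.AtPrime L (RingHom.ker φ₂)], ∃ _ : IsLocalRing L, IsRegularLocalRing L
  nz : ∃ c ∈ (integralClosure R B)⁰, φ₁ c = 0 ∧ φ₂ c = 0

include hθ

/-- The integral closure is a finite module. -/
theorem Pres.finite : Module.Finite R (integralClosure R B) := by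
  let t : integralClosure R B := ⟨θ, h.isIntegral_theta hθ⟩
  have h1 : Submodule.span R ({1, t} : Set (integralClosure R B)) = ⊤ := by
    rw [eq_top_iff]
    rintro c -
    obtain ⟨p, q, hpq⟩ := h.exists_eq hθ c.2
    have h2 : c = p • (1 : integralClosure R B) + q • t := by
      apply Subtype.ext
      rw [hpq, AddMemClass.coe_add, Subalgebra.coe_smul, Subalgebra.coe_smul, Algebra.smul_def, Algebra.smul_def,
        OneMemClass.coe_one, mul_one]
    rw [h2]
    exact Submodule.add_mem _ (Submodule.smul_mem _ _ (Submodule.subset_span (by simp)))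
      (Submodule.smul_mem _ _ (Submodule.subset_span (by simp)))
  exact ⟨by rw [← h1]; exact Submodule.fg_span (Set.toFinite _)⟩

theorem Pres.isNoetherianRing [IsNoetherianRing R] : IsNoetherianRing (integralClosure R B) := by
  have := h.finite hθ
  exact isNoetherian_of_tower R (isNoetherian_of_isNoetherianRing_of_finite R (integralClosure R B))

/-- The local rings at the two points are regular. -/
theorem Pres.isRegularLocalRing [IsNoetherianRing R] (hρs : Function.Surjective ρ) (hρ : RingHom.ker ρ = M) {r₁ r₂ : k}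
    (hs : ρ β = -(r₁ + r₂)) (hp : ρ γ = r₁ * r₂) (hne : r₁ ≠ r₂) (φ : integralClosure R B →+* k)
    (hφ : ∀ (c : integralClosure R B) (p q : R), (c : B) = algebraMap R B p + algebraMap R B q * θ →
      φ c = ρ p + ρ q * r₁) (L : Type u) [CommRing L] [Algebra (integralClosure R B) L]
    [hpr : (RingHom.ker φ).IsPrime] [IsLocalization.AtPrime L (RingHom.ker φ)] :
    ∃ _ : IsLocalRing L, IsRegularLocalRing L := by
  have hL : IsLocalRing L := IsLocalization.AtPrime.isLocalRing L (RingHom.ker φ)
  refine ⟨hL, ?_⟩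
  have hN := h.isNoetherianRing hθ
  have hNL : IsNoetherianRing L := IsLocalization.isNoetherianRing (RingHom.ker φ).primeCompl L inferInstance
  have hcφ : ∀ x : R, φ (algebraMap R _ x) = ρ x := by
    intro x
    rw [hφ _ x 0 (by rw [map_zero, zero_mul, add_zero]; rfl), map_zero, zero_mul, add_zero]
  -- elements of `M` are multiples of `b`
  have hM : ∀ x ∈ M, algebraMap R (integralClosure R B) x ∈ Ideal.span {algebraMap R (integralClosure R B) b} := by
    intro x hx
    have h1 : x ∈ Ideal.span {a, b} := by rw [← h.gen]; exact hx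
    obtain ⟨s, t, hst⟩ := Ideal.mem_span_pair.1 h1
    rw [Ideal.mem_span_singleton']
    refine ⟨algebraMap R _ s * ⟨θ, h.isIntegral_theta hθ⟩ + algebraMap R _ t, ?_⟩
    apply Subtype.ext
    change (algebraMap R B s * θ + algebraMap R B t) * algebraMap R B b = algebraMap R B x
    rw [← hst, map_add, map_mul, map_mul, ← hθ]
    ring
  obtain ⟨t₁, ht₁⟩ := hρs r₁
  obtain ⟨t₂, ht₂⟩ := hρs r₂
  let T : integralClosure R B := ⟨θ, h.isIntegral_theta hθ⟩
  have hTφ : φ T = r₁ := by
    rw [hφ T 0 1 (by simp [T])]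
    simp
  have hu : IsUnit (algebraMap (integralClosure R B) L (T - algebraMap R _ t₂)) := by
    refine IsLocalization.map_units L (⟨T - algebraMap R _ t₂, ?_⟩ : (RingHom.ker φ).primeCompl)
    intro h1
    have h2 := RingHom.mem_ker.1 h1
    rw [map_sub, hTφ, hcφ, ht₂, sub_eq_zero] at h2
    exact hne h2
  have hprod : (T - algebraMap R _ t₁) * (T - algebraMap R _ t₂) ∈
      Ideal.span {algebraMap R (integralClosure R B) b} := by
    have h1 : (T - algebraMap R _ t₁) * (T - algebraMap R _ t₂) =
        (-T) * algebraMap R _ (β + t₁ + t₂) + algebraMap R _ (t₁ * t₂ - γ) := by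
      apply Subtype.ext
      change (θ - algebraMap R B t₁) * (θ - algebraMap R B t₂) =
        -θ * algebraMap R B (β + t₁ + t₂) + algebraMap R B (t₁ * t₂ - γ)
      simp only [map_add, map_sub, map_mul]
      linear_combination h.theta_sq hθ
    rw [h1]
    refine Ideal.add_mem _ (Ideal.mul_mem_left _ _ (hM _ ?_)) (hM _ ?_)
    · rw [← hρ, RingHom.mem_ker, map_add, map_add, hs, ht₁, ht₂]
      ring
    · rw [← hρ, RingHom.mem_ker, map_sub, map_mul, hp, ht₁, ht₂]
      ring
  have hmax : maximalIdeal L = Ideal.span {algebraMap (integralClosure R B) L (algebraMap R _ b)} := by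
    have hmap : Ideal.map (algebraMap (integralClosure R B) L) (Ideal.span {algebraMap R (integralClosure R B) b}) =
        Ideal.span {algebraMap (integralClosure R B) L (algebraMap R _ b)} := by
      rw [Ideal.map_span, Set.image_singleton]
    rw [← IsLocalization.AtPrime.map_eq_maximalIdeal (RingHom.ker φ) L]
    refine le_antisymm (Ideal.map_le_iff_le_comap.2 ?_) ?_
    · intro c hc
      rw [Ideal.mem_comap]
      obtain ⟨p, q, hpq⟩ := h.exists_eq hθ c.2
      have h1 := hφ c p q hpq
      rw [RingHom.mem_ker.1 hc] at h1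
      have h2 : c = algebraMap R _ q * (T - algebraMap R _ t₁) + algebraMap R _ (p + q * t₁) := by
        apply Subtype.ext
        rw [hpq]
        change _ = algebraMap R B q * (θ - algebraMap R B t₁) + algebraMap R B (p + q * t₁)
        simp only [map_add, map_mul]
        ring
      have h3 : p + q * t₁ ∈ M := by
        rw [← hρ, RingHom.mem_ker, map_add, map_mul, ht₁]
        exact h1.symm
      have h4 : algebraMap (integralClosure R B) L (T - algebraMap R _ t₁) ∈
          Ideal.span {algebraMap (integralClosure R B) L (algebraMap R _ b)} := by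
        have h5 : algebraMap (integralClosure R B) L ((T - algebraMap R _ t₁) * (T - algebraMap R _ t₂)) ∈
            Ideal.span {algebraMap (integralClosure R B) L (algebraMap R _ b)} := by
          rw [← hmap]
          exact Ideal.mem_map_of_mem _ hprod
        rw [map_mul] at h5
        exact (Ideal.mul_unit_mem_iff_mem _ hu).1 h5
      rw [h2, map_add, map_mul]
      refine Ideal.add_mem _ (Ideal.mul_mem_left _ _ h4) ?_
      rw [← hmap]
      exact Ideal.mem_map_of_mem _ (hM _ h3)
    · rw [Ideal.span_le, Set.singleton_subset_iff]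
      refine Ideal.mem_map_of_mem _ ?_
      rw [RingHom.mem_ker, hcφ, ← RingHom.mem_ker, hρ, h.gen]
      exact Ideal.subset_span (by simp)
  refine isRegularLocalRing_of_span hmax ?_
  refine IsLocalization.nonZeroDivisors_le_comap (RingHom.ker φ).primeCompl L ?_
  rw [mem_nonZeroDivisors_iff_right]
  intro c hc
  apply Subtype.ext
  have hu' : IsUnit (algebraMap R B b) := IsLocalization.Away.algebraMap_isUnit b
  exact hu'.mul_left_eq_zero.1 (congrArg Subtype.val hc)

/-- The two points of the integral closure exist. -/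
theorem Pres.exists_pts [IsAlgClosed k] [IsNoetherianRing R] (hρs : Function.Surjective ρ) (hρ : RingHom.ker ρ = M) :
    ∃ φ₁ φ₂ : integralClosure R B →+* k, Pts ρ φ₁ φ₂ := by
  obtain ⟨r₁, hr₁⟩ := IsAlgClosed.exists_root (Polynomial.X ^ 2 + (Polynomial.C (ρ β) * Polynomial.X +
    Polynomial.C (ρ γ))) (by
      have h1 : (Polynomial.C (ρ β) * Polynomial.X + Polynomial.C (ρ γ)).degree <
          (Polynomial.X ^ 2 : Polynomial k).degree := by
        rw [Polynomial.degree_X_pow]
        exact lt_of_le_of_lt (Polynomial.degree_linear_le) (by norm_num)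
      rw [Polynomial.degree_add_eq_left_of_degree_lt h1, Polynomial.degree_X_pow]
      norm_num)
  rw [Polynomial.IsRoot.def, Polynomial.eval_add, Polynomial.eval_add, Polynomial.eval_pow, Polynomial.eval_mul,
    Polynomial.eval_C, Polynomial.eval_C, Polynomial.eval_X, ← add_assoc] at hr₁
  let r₂ : k := -(ρ β) - r₁
  have hs : ρ β = -(r₁ + r₂) := by simp only [r₂]; ring
  have hp : ρ γ = r₁ * r₂ := by simp only [r₂]; linear_combination hr₁
  have hne : r₁ ≠ r₂ := by
    intro h1
    apply h.disc
    rw [← hρ, RingHom.mem_ker, map_sub, map_mul, map_pow, map_ofNat, hs, hp, ← h1]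
    ring
  have hr₂ : r₂ ^ 2 + ρ β * r₂ + ρ γ = 0 := by
    rw [hs, hp]
    ring
  obtain ⟨φ₁, hφ₁⟩ := h.exists_point hθ ρ hρ hr₁
  obtain ⟨φ₂, hφ₂⟩ := h.exists_point hθ ρ hρ hr₂
  refine ⟨φ₁, φ₂, ?_, ?_, ?_, ?_, ?_, ?_, ?_⟩
  · intro x
    rw [hφ₁ _ x 0 (by rw [map_zero, zero_mul, add_zero]; rfl), map_zero, zero_mul, add_zero]
  · intro x
    rw [hφ₂ _ x 0 (by rw [map_zero, zero_mul, add_zero]; rfl), map_zero, zero_mul, add_zero]
  · refine ⟨⟨θ, h.isIntegral_theta hθ⟩, ?_⟩
    rw [hφ₁ _ 0 1 (by simp), hφ₂ _ 0 1 (by simp)]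
    simpa using hne
  · intro c hc
    obtain ⟨p, q, hpq⟩ := h.exists_eq hθ c.2
    rw [hφ₁ c p q hpq, hφ₂ c p q hpq] at hc
    have h1 : ρ q = 0 := by
      have h2 : ρ q * (r₁ - r₂) = 0 := by linear_combination hc
      rcases mul_eq_zero.1 h2 with h3 | h3
      · exact h3
      · exact absurd (sub_eq_zero.1 h3) hne
    obtain ⟨r, hr⟩ := h.exists_mul hθ (q := q) (by rw [← hρ]; exact h1)
    refine ⟨p + r, ?_⟩
    apply Subtype.ext
    rw [hpq, hr]
    change algebraMap R B (p + r) = _
    rw [map_add]
  · intro L _ _ _ _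
    exact h.isRegularLocalRing hθ ρ hρs hρ hs hp hne φ₁ hφ₁ L
  · intro L _ _ _ _
    exact h.isRegularLocalRing hθ ρ hρs hρ (r₁ := r₂) (r₂ := r₁) (by rw [hs]; ring) (by rw [hp]; ring) hne.symm φ₂ hφ₂ L
  · have hb : ρ b = 0 := by
      rw [← RingHom.mem_ker, hρ, h.gen]
      exact Ideal.subset_span (by simp)
    refine ⟨algebraMap R _ b, ?_, ?_, ?_⟩
    · rw [mem_nonZeroDivisors_iff_right]
      intro c hc
      apply Subtype.ext
      have hu' : IsUnit (algebraMap R B b) := IsLocalization.Away.algebraMap_isUnit b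
      exact hu'.mul_left_eq_zero.1 (congrArg Subtype.val hc)
    · rw [hφ₁ _ b 0 (by rw [map_zero, zero_mul, add_zero]; rfl), map_zero, zero_mul, add_zero, hb]
    · rw [hφ₂ _ b 0 (by rw [map_zero, zero_mul, add_zero]; rfl), map_zero, zero_mul, add_zero, hb]

end Reg

end Away

end K896.NdAlg
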