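import Groth.Agent.CurvSt.K896.NdLoc
import Groth.Agent.CurvSt.K896.Trans
import Groth.Agent.CurvSt.K312.GlTop
import Groth.Agent.CurvSt.K312.GlSec
import Groth.Agent.Models.H58.NodalGlue
import Mathlib.AlgebraicGeometry.Normalization
import Mathlib.AlgebraicGeometry.AlgClosed.Basic

/-!
# The partial normalization at a node
-/

set_option autoImplicit false
set_option backward.isDefEq.respectTransparency false
set_option backward.isDefEq.respectTransparency.types false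
universe u

open CategoryTheory CategoryTheory.Limits AlgebraicGeometry TopologicalSpace IsLocalRing Opposite

namespace K896.NdGeo

open Groth.Agent.CurvesB.Node K896.NdAlg K896.NdLoc K312.Gl K896.Trans

/-- The complement of a closed point. -/
def compl {X : Scheme.{u}} (x : X) (hc : IsClosed ({x} : Set X)) : X.Opens := ⟨{x}ᶜ, hc.isOpen_compl⟩

section Sec

variable {X : Scheme.{u}} (V : X.Opens) [QuasiCompact V.ι]

/-- Over opens inside `V` the normalization is an isomorphism. -/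
theorem bijective_app (O : X.Opens) (hO : IsAffineOpen O) (hOV : O ≤ V) :
    Function.Bijective ((V.ι).fromNormalization.app O) := by
  let _ := ((V.ι).app O).hom.toAlgebra
  have hb : Function.Bijective ((V.ι).app O) := by
    have : IsIso ((V.ι).app O) := Scheme.Hom.isIso_app _ _ (by simpa using hOV)
    exact ConcreteCategory.bijective_of_isIso _
  have h1 : Function.Bijective (algebraMap Γ(X, O) (integralClosure Γ(X, O) Γ(V, V.ι ⁻¹ᵁ O))) := by
    constructor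
    · intro r s hrs
      exact hb.1 (congrArg Subtype.val hrs)
    · intro c
      obtain ⟨r, hr⟩ := hb.2 c.1
      exact ⟨r, Subtype.ext hr⟩
  rw [(V.ι).fromNormalization_app hO]
  have h2 : Function.Bijective ((V.ι).normalizationObjIso hO).inv := ConcreteCategory.bijective_of_isIso _
  exact h2.comp h1

end Sec

section Chart

theorem res_injective {Z : Scheme.{u}} {T : Z.Opens} (hT : T = ⊤) :
    Function.Injective (Z.presheaf.map (homOfLE (le_top : T ≤ ⊤)).op) := by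
  subst hT
  have h1 : homOfLE (le_top : (⊤ : Z.Opens) ≤ ⊤) = 𝟙 _ := Subsingleton.elim _ _
  rw [h1, op_id, CategoryTheory.Functor.map_id]
  exact fun a b h => h

variable {k : Type u} [Field k] {X Y : Scheme.{u}} {ν : Y ⟶ X} {U : X.Opens} (hU : IsAffineOpen U)
  {C : CommRingCat.{u}} (al : Γ(X, U) ⟶ C) (j : Spec C ⟶ Y) [IsOpenImmersion j] (hj : j.opensRange = ν ⁻¹ᵁ U)
  (hjν : j ≫ ν = Spec.map al ≫ hU.fromSpec)

include hj in
theorem le_chart : (⊤ : (Spec C).Opens) ≤ j ⁻¹ᵁ ν ⁻¹ᵁ U := by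
  rw [← hj]
  rintro y -
  exact ⟨y, rfl⟩

/-- The functions over the chart. -/
noncomputable def E (s : Γ(Y, ν ⁻¹ᵁ U)) : C := (Scheme.ΓSpecIso C).hom (j.appLE (ν ⁻¹ᵁ U) ⊤ (le_chart j hj) s)

theorem E_injective : Function.Injective (E j hj) := by
  have h1 : Function.Injective ((Scheme.ΓSpecIso C).hom) := (ConcreteCategory.bijective_of_isIso _).1
  refine h1.comp ?_
  have h2 : j ⁻¹ᵁ ν ⁻¹ᵁ U = ⊤ := top_le_iff.1 (le_chart j hj)
  have h3 : IsIso (j.app (ν ⁻¹ᵁ U)) := Scheme.Hom.isIso_app _ _ (by rw [← hj])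
  have h4 : Function.Injective (j.app (ν ⁻¹ᵁ U)) := (ConcreteCategory.bijective_of_isIso _).1
  have h5 : Function.Injective ((Spec C).presheaf.map (homOfLE (le_chart j hj)).op) := by
    have h6 : IsIso (homOfLE (le_chart j hj)) := ⟨homOfLE h2.le, Subsingleton.elim _ _, Subsingleton.elim _ _⟩
    exact (ConcreteCategory.bijective_of_isIso _).1
  have h7 : j.appLE (ν ⁻¹ᵁ U) ⊤ (le_chart j hj) = j.app (ν ⁻¹ᵁ U) ≫ (Spec C).presheaf.map (homOfLE (le_chart j hj)).op := rfl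
  rw [h7]
  exact h5.comp h4

include hjν in
theorem E_app (r : Γ(X, U)) : E j hj (ν.app U r) = al r := by
  have hcong : ∀ (f g : Spec C ⟶ X) (_ : f = g) (e : ⊤ ≤ f ⁻¹ᵁ U) (e' : ⊤ ≤ g ⁻¹ᵁ U),
      f.appLE U ⊤ e = g.appLE U ⊤ e' := by
    rintro f _ rfl e e'
    rfl
  have h0 : hU.fromSpec.appLE U ⊤ (by rw [hU.fromSpec_preimage_self]) = (Scheme.ΓSpecIso Γ(X, U)).inv := by
    rw [Scheme.Hom.appLE, hU.fromSpec_app_self, Category.assoc, ← CategoryTheory.Functor.map_comp, ← op_comp]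
    have h3 : ∀ e : (⊤ : (Spec Γ(X, U)).Opens) ⟶ ⊤, (Spec Γ(X, U)).presheaf.map e.op = 𝟙 _ := by
      intro e
      rw [show e = 𝟙 _ from Subsingleton.elim _ _, op_id, CategoryTheory.Functor.map_id]
    rw [h3, Category.comp_id]
  have h1 : ν.app U ≫ j.appLE (ν ⁻¹ᵁ U) ⊤ (le_chart j hj) = al ≫ (Scheme.ΓSpecIso C).inv := by
    rw [Scheme.Hom.app_eq_appLE, Scheme.Hom.appLE_comp_appLE]
    have e' : (⊤ : (Spec C).Opens) ≤ (Spec.map al ≫ hU.fromSpec) ⁻¹ᵁ U := by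
      rw [Scheme.Hom.comp_preimage, hU.fromSpec_preimage_self]
      exact le_rfl
    rw [hcong _ _ hjν _ e', ← Scheme.Hom.appLE_comp_appLE (Spec.map al) hU.fromSpec U ⊤ ⊤
      (by rw [hU.fromSpec_preimage_self]) le_rfl, h0, Scheme.ΓSpecIso_inv_naturality]
    congr 1
  have h2 := congrArg (fun f : Γ(X, U) ⟶ Γ(Spec C, ⊤) => (Scheme.ΓSpecIso C).hom (f r)) h1
  simp only [CommRingCat.comp_apply] at h2
  have h3 : (Scheme.ΓSpecIso C).hom ((Scheme.ΓSpecIso C).inv (al r)) = al r := by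
    rw [← CommRingCat.comp_apply, Iso.inv_hom_id, CommRingCat.id_apply]
  exact h2.trans h3

/-- Values at the points of the chart. -/
theorem appLE_point (φ : C ⟶ CommRingCat.of k) (T : (Spec (CommRingCat.of k)).Opens)
    (hT : T ≤ (Spec.map φ ≫ j) ⁻¹ᵁ ν ⁻¹ᵁ U) (s : Γ(Y, ν ⁻¹ᵁ U)) :
    (Spec.map φ ≫ j).appLE (ν ⁻¹ᵁ U) T hT s = (Spec (CommRingCat.of k)).presheaf.map (homOfLE (le_top : T ≤ ⊤)).op
      ((Scheme.ΓSpecIso (CommRingCat.of k)).inv (φ (E j hj s))) := by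
  have h1 := appLE2 (Spec.map φ) j (Spec.map φ ≫ j) rfl (ν ⁻¹ᵁ U) ⊤ T (le_chart j hj) le_top hT s
  rw [← h1]
  have h2 : (Spec.map φ).appLE ⊤ T le_top = (Spec.map φ).appTop ≫
      (Spec (CommRingCat.of k)).presheaf.map (homOfLE (le_top : T ≤ ⊤)).op := rfl
  rw [h2, CommRingCat.comp_apply]
  congr 1
  have h3 : ((Scheme.ΓSpecIso C).hom ≫ φ ≫ (Scheme.ΓSpecIso (CommRingCat.of k)).inv) = (Spec.map φ).appTop := by
    rw [Scheme.ΓSpecIso_inv_naturality, Iso.hom_inv_id_assoc]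
  rw [← h3]
  rfl

include hU hjν hj in
/-- Recognition of the glueing from a chart. -/
theorem isGl_of_chart (q : X ⟶ Spec (CommRingCat.of k)) [IsAffineHom ν] {x : X} (hx : x ∈ U)
    (hoff : ∀ O : X.Opens, IsAffineOpen O → x ∉ O → Function.Bijective (ν.app O))
    (hc : IsClosed ({x} : Set X)) (ρ : Γ(X, U) ⟶ CommRingCat.of k) (hρ : (Spec.map ρ ≫ hU.fromSpec) ≫ q = 𝟙 _)
    (hρs : Function.Surjective ρ) (hρx : ∀ d, (Spec.map ρ ≫ hU.fromSpec) d = x)
    (φ₁ φ₂ : C ⟶ CommRingCat.of k) (h₁ : al ≫ φ₁ = ρ) (h₂ : al ≫ φ₂ = ρ) (hinj : Function.Injective al)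
    (hex : ∀ c, φ₁ c = φ₂ c → ∃ r, al r = c) (hne : ∃ c, φ₁ c ≠ φ₂ c) :
    IsGl (Spec.map φ₁ ≫ j) (Spec.map φ₂ ≫ j) ν := by
  have e₁ : (Spec.map φ₁ ≫ j) ≫ ν = Spec.map ρ ≫ hU.fromSpec := by
    rw [Category.assoc, hjν, ← Spec.map_comp_assoc, h₁]
  have e₂ : (Spec.map φ₂ ≫ j) ≫ ν = Spec.map ρ ≫ hU.fromSpec := by
    rw [Category.assoc, hjν, ← Spec.map_comp_assoc, h₂]
  have c₁ : IsClosedImmersion (Spec.map φ₁ ≫ j) :=
    isClosedImmersion_of_comp_eq_id (ν ≫ q) _ (by rw [← Category.assoc, e₁, hρ])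
  have c₂ : IsClosedImmersion (Spec.map φ₂ ≫ j) :=
    isClosedImmersion_of_comp_eq_id (ν ≫ q) _ (by rw [← Category.assoc, e₂, hρ])
  have c₀ : IsClosedImmersion (Spec.map ρ ≫ hU.fromSpec) := isClosedImmersion_of_comp_eq_id q _ hρ
  refine IsGl.of_cover (isClosedImmersion_desc c₁ c₂ ?_) inferInstance (e₁.trans e₂.symm) (by rw [e₁]; infer_instance) ?_
  · intro d e hde
    rw [Scheme.Hom.comp_apply, Scheme.Hom.comp_apply] at hde
    have hde' := j.isOpenEmbedding.injective hde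
    obtain ⟨c, hc'⟩ := hne
    obtain ⟨r, hr⟩ := hρs (φ₁ c)
    have hd0 : d = IsLocalRing.closedPoint k := Subsingleton.elim _ _
    have he0 : e = IsLocalRing.closedPoint k := Subsingleton.elim _ _
    have hk1 : φ₁ (c - al r) = 0 := by
      rw [map_sub, ← CommRingCat.comp_apply, h₁, hr, sub_self]
    have hk2 : φ₂ (c - al r) ≠ 0 := by
      rw [map_sub, ← CommRingCat.comp_apply, h₂, hr, sub_ne_zero]
      exact hc'.symm
    have hbot : ∀ (φ : C ⟶ CommRingCat.of k) (d : Spec (CommRingCat.of k)) (z : C),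
        z ∈ (Spec.map φ d).asIdeal ↔ φ z = 0 := by
      intro φ d z
      have hd : d.asIdeal = ⊥ := by
        have := (Ideal.eq_bot_or_top d.asIdeal)
        exact this.resolve_right d.2.ne_top
      change φ z ∈ d.asIdeal ↔ _
      rw [hd, Ideal.mem_bot]
    have h3 := (hbot φ₁ d _).2 hk1
    rw [hde', hbot] at h3
    exact hk2 h3
  · intro x'
    by_cases hxx : x' = x
    · subst hxx
      refine ⟨U, hx, hU, ?_, ?_⟩
      · intro r r' hrr
        apply hinj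
        rw [← E_app hU al j hj hjν r, ← E_app hU al j hj hjν r', hrr]
      · intro s hs
        rw [appLE_point j hj φ₂, appLE_point j hj φ₁] at hs
        have hT : ((Spec.map φ₁ ≫ j) ≫ ν) ⁻¹ᵁ U = ⊤ := by
          rw [e₁, eq_top_iff]
          rintro d -
          change (Spec.map ρ ≫ hU.fromSpec) d ∈ U
          rw [hρx]
          exact hx
        have h3 := res_injective hT hs
        have h4 : Function.Injective (Scheme.ΓSpecIso (CommRingCat.of k)).inv :=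
          (ConcreteCategory.bijective_of_isIso _).1
        obtain ⟨r, hr⟩ := hex _ (h4 h3).symm
        exact ⟨r, E_injective j hj (by rw [E_app hU al j hj hjν r, hr])⟩
    · obtain ⟨O, hO, hxO, hOV⟩ := exists_affine (compl x hc) (show x' ∈ compl x hc from hxx)
      have hb := hoff O hO (fun h => hOV h rfl)
      exact ⟨O, hxO, hO, hb.1, fun s _ => hb.2 s⟩

theorem mem_point (φ : C ⟶ CommRingCat.of k) (d : Spec (CommRingCat.of k)) (z : C) :
    z ∈ (Spec.map φ d).asIdeal ↔ φ z = 0 := by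
  have hd : d.asIdeal = ⊥ := by
    have := (Ideal.eq_bot_or_top d.asIdeal)
    exact this.resolve_right d.2.ne_top
  change φ z ∈ d.asIdeal ↔ _
  rw [hd, Ideal.mem_bot]

/-- Smoothness at a point of the chart. -/
theorem smAt_of_chart [IsAlgClosed k] (q : Y ⟶ Spec (CommRingCat.of k)) [LocallyOfFiniteType q] [IsReduced Y]
    (φ : C ⟶ CommRingCat.of k)
    (hreg : ∀ (L : Type u) [CommRing L] [Algebra C L] [hp : (RingHom.ker φ.hom).IsPrime]
      [IsLocalization.AtPrime L (RingHom.ker φ.hom)], ∃ _ : IsLocalRing L, IsRegularLocalRing L)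
    (d : Spec (CommRingCat.of k)) : SmAt q ((Spec.map φ ≫ j) d) := by
  have hz : (Spec.map φ d).asIdeal = RingHom.ker φ.hom := by
    ext z
    exact mem_point φ d z
  have hp : (RingHom.ker φ.hom).IsPrime := by
    rw [← hz]
    exact (Spec.map φ d).2
  let _ : Algebra C ((Spec C).presheaf.stalk (Spec.map φ d)) := StructureSheaf.stalkAlgebra C (Spec.map φ d)
  have h1 : IsLocalization.AtPrime ((Spec C).presheaf.stalk (Spec.map φ d)) (Spec.map φ d).asIdeal :=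
    StructureSheaf.IsLocalization.to_stalk C (Spec.map φ d)
  have h2 : IsLocalization.AtPrime ((Spec C).presheaf.stalk (Spec.map φ d)) (RingHom.ker φ.hom) := by
    have h3 : (RingHom.ker φ.hom).primeCompl = (Spec.map φ d).asIdeal.primeCompl := by
      ext r
      rw [Ideal.mem_primeCompl_iff, Ideal.mem_primeCompl_iff, hz]
    change IsLocalization _ _
    rw [h3]
    exact h1
  obtain ⟨_, h4⟩ := hreg ((Spec C).presheaf.stalk (Spec.map φ d))
  have h5 : IsRegularLocalRing (Y.presheaf.stalk ((Spec.map φ ≫ j) d)) := by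
    rw [Scheme.Hom.comp_apply]
    exact IsRegularLocalRing.of_ringEquiv (asIso (j.stalkMap (Spec.map φ d))).commRingCatIsoToRingEquiv.symm
  exact Groth.Agent.Models.H58.NodalGlue.exists_smooth_nhd (k := k) (f := q) _ h5

/-- The points of the chart are not generic. -/
theorem not_gen_of_chart (φ : C ⟶ CommRingCat.of k) (c : C) (hc : c ∈ nonZeroDivisors C) (hφ : φ c = 0)
    (d : Spec (CommRingCat.of k)) : ¬ Gen ((Spec.map φ ≫ j) d) := by
  intro hg
  have hp := (Spec.map φ d).2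
  obtain ⟨P, hP, hle⟩ := Ideal.exists_minimalPrimes_le (I := ⊥) (J := (Spec.map φ d).asIdeal) bot_le
  have hPp : P.IsPrime := hP.1.1
  have hcP : c ∉ P := by
    intro h1
    exact Set.disjoint_left.1 (Ideal.disjoint_nonZeroDivisors_of_mem_minimalPrimes hP) h1 hc
  have h2 : (⟨P, hPp⟩ : Spec C) ⤳ Spec.map φ d := (PrimeSpectrum.le_iff_specializes _ _).1 hle
  have h3 := hg (j ⟨P, hPp⟩) (by rw [Scheme.Hom.comp_apply]; exact h2.map j.continuous)
  rw [Scheme.Hom.comp_apply] at h3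
  have h4 := j.isOpenEmbedding.injective h3
  apply hcP
  have h5 : c ∈ (Spec.map φ d).asIdeal := (mem_point φ d c).2 hφ
  rw [← h4] at h5
  exact h5

end Chart

/-- **The partial normalization at a node.** -/
theorem exists_isGl {k : Type u} [Field k] [IsAlgClosed k] {X : Scheme.{u}} (q : X ⟶ Spec (CommRingCat.of k))
    [LocallyOfFiniteType q] [IsReduced X] (x : X) (hN : @Curv2.IsNode k _ X ⟨q⟩ x) :
    ∃ (Y : Scheme.{u}) (a b : Spec (CommRingCat.of k) ⟶ Y) (ν : Y ⟶ X), IsGl a b ν ∧ a ≫ ν ≫ q = 𝟙 _ ∧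
      b ≫ ν ≫ q = 𝟙 _ ∧ (∀ d, SmAt (ν ≫ q) (a d)) ∧ (∀ d, SmAt (ν ≫ q) (b d)) ∧
      (∀ d, ¬ Gen (a d) ∧ ¬ Gen (b d)) ∧ ∀ d, ν (a d) = x := by
  let _ : X.Over (Spec (CommRingCat.of k)) := ⟨q⟩
  have hloc : IsLocallyNoetherian X := LocallyOfFiniteType.isLocallyNoetherian q
  have : LocallyOfFiniteType (X ↘ Spec (CommRingCat.of k)) := ‹LocallyOfFiniteType q›
  obtain ⟨-, hNL⟩ := (isNode_iff_resFS k X x).1 hN
  have hc : IsClosed ({x} : Set X) := hN.1
  obtain ⟨U, hU, hx, a, b, β, γ, hP, hb⟩ := exists_pres hc hNL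
  let V : X.Opens := compl x hc
  let _ : Algebra Γ(X, U) Γ(V, V.ι ⁻¹ᵁ U) := (V.ι.app U).hom.toAlgebra
  let _ := X.presheaf.algebra_section_stalk ⟨x, hx⟩
  have hMp := isPrime_pm U hx
  have hML := isLocalization_pm hU hx
  have hnoe : IsNoetherianRing Γ(X, U) := IsLocallyNoetherian.component_noetherian ⟨U, hU⟩
  have hVU : V.ι ''ᵁ V.ι ⁻¹ᵁ U = X.basicOpen b := by
    ext y
    rw [SetLike.mem_coe, SetLike.mem_coe, hb]
    constructor
    · rintro ⟨z, hz, rfl⟩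
      exact ⟨hz, z.2⟩
    · rintro ⟨h1, h2⟩
      exact ⟨⟨y, h2⟩, h1, rfl⟩
  have hle : V.ι ''ᵁ V.ι ⁻¹ᵁ U ≤ U := by
    rw [hVU]
    exact X.basicOpen_le b
  have hB : IsLocalization.Away b Γ(V, V.ι ⁻¹ᵁ U) := hU.isLocalization_of_eq_basicOpen b (homOfLE hle) hVU
  obtain ⟨θ, hθ⟩ : ∃ θ : Γ(V, V.ι ⁻¹ᵁ U), θ * algebraMap Γ(X, U) Γ(V, V.ι ⁻¹ᵁ U) b =
      algebraMap Γ(X, U) Γ(V, V.ι ⁻¹ᵁ U) a := by
    obtain ⟨u, hu⟩ := (IsLocalization.Away.algebraMap_isUnit (S := Γ(V, V.ι ⁻¹ᵁ U)) b).exists_left_inv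
    exact ⟨algebraMap Γ(X, U) Γ(V, V.ι ⁻¹ᵁ U) a * u, by rw [mul_assoc, hu, mul_one]⟩
  -- the point
  let p : Spec (CommRingCat.of k) ⟶ X := pointOfClosedPoint q x hc
  have hpx : ∀ d, p d = x := fun d => pointOfClosedPoint_apply q x hc d
  have hr : Set.range p ⊆ Set.range hU.fromSpec := by
    rintro _ ⟨d, rfl⟩
    rw [hU.range_fromSpec, hpx]
    exact hx
  let ρ : Γ(X, U) ⟶ CommRingCat.of k := Spec.preimage (IsOpenImmersion.lift hU.fromSpec p hr)
  have hρp : Spec.map ρ ≫ hU.fromSpec = p := by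
    rw [Spec.map_preimage, IsOpenImmersion.lift_fac]
  have hpq : p ≫ q = 𝟙 _ := pointOfClosedPoint_comp q x hc
  have hρs : Function.Surjective ρ := by
    let κ : CommRingCat.of k ⟶ Γ(X, U) := Spec.preimage (hU.fromSpec ≫ q)
    have hκ : Spec.map κ = hU.fromSpec ≫ q := Spec.map_preimage _
    have h1 : κ ≫ ρ = 𝟙 _ := by
      apply Spec.map_injective
      rw [Spec.map_comp, hκ, ← Category.assoc, hρp, hpq, Spec.map_id]
    intro c
    exact ⟨κ c, by rw [← CommRingCat.comp_apply, h1]; rfl⟩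
  have hρk : RingHom.ker ρ.hom = pm U hx := by
    have h1 : Spec.map ρ (IsLocalRing.closedPoint k) = hU.primeIdealOf ⟨x, hx⟩ := by
      apply hU.fromSpec.isOpenEmbedding.injective
      rw [hU.fromSpec_primeIdealOf, ← Scheme.Hom.comp_apply, hρp, hpx]
    ext r
    rw [pm_eq hU hx, ← h1]
    exact (mem_point ρ (IsLocalRing.closedPoint k) r).symm
  obtain ⟨φ₁, φ₂, hφ⟩ := hP.exists_pts (B := Γ(V, V.ι ⁻¹ᵁ U)) hθ ρ.hom hρs hρk
  let C : CommRingCat.{u} := CommRingCat.of (integralClosure Γ(X, U) Γ(V, V.ι ⁻¹ᵁ U))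
  let al : Γ(X, U) ⟶ C := CommRingCat.ofHom (algebraMap _ _)
  let j : Spec C ⟶ V.ι.normalization := V.ι.normalizationOpenCover.f ⟨U, hU⟩
  let ν : V.ι.normalization ⟶ X := V.ι.fromNormalization
  have hj : j.opensRange = ν ⁻¹ᵁ U := (V.ι.fromNormalization_preimage ⟨U, hU⟩).symm
  have hjν : j ≫ ν = Spec.map al ≫ hU.fromSpec := V.ι.ι_fromNormalization ⟨U, hU⟩
  let f₁ : C ⟶ CommRingCat.of k := CommRingCat.ofHom φ₁
  let f₂ : C ⟶ CommRingCat.of k := CommRingCat.ofHom φ₂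
  have h₁ : al ≫ f₁ = ρ := by
    ext r
    exact hφ.c₁ r
  have h₂ : al ≫ f₂ = ρ := by
    ext r
    exact hφ.c₂ r
  have hinj : Function.Injective al := fun r s hrs =>
    hP.injective (B := Γ(V, V.ι ⁻¹ᵁ U)) (congrArg Subtype.val hrs)
  have hgl : IsGl (Spec.map f₁ ≫ j) (Spec.map f₂ ≫ j) ν := by
    refine isGl_of_chart hU al j hj hjν q hx ?_ hc ρ (by rw [hρp, hpq]) hρs (by rw [hρp]; exact hpx) f₁ f₂ h₁ h₂ hinj
      hφ.eq hφ.ne
    intro O hO hxO
    exact bijective_app V O hO (fun y hy => by rintro rfl; exact hxO hy)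
  have hfin := hgl.isFinite
  have e₁ : (Spec.map f₁ ≫ j) ≫ ν = p := by
    rw [Category.assoc, hjν, ← Spec.map_comp_assoc, h₁, hρp]
  have e₂ : (Spec.map f₂ ≫ j) ≫ ν = p := by
    rw [Category.assoc, hjν, ← Spec.map_comp_assoc, h₂, hρp]
  obtain ⟨c, hc0, hc1, hc2⟩ := hφ.nz
  refine ⟨V.ι.normalization, Spec.map f₁ ≫ j, Spec.map f₂ ≫ j, ν, hgl, ?_, ?_, ?_, ?_, ?_, ?_⟩
  · rw [← Category.assoc, e₁, hpq]
  · rw [← Category.assoc, e₂, hpq]
  · exact fun d => smAt_of_chart j (ν ≫ q) f₁ hφ.reg₁ d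
  · exact fun d => smAt_of_chart j (ν ≫ q) f₂ hφ.reg₂ d
  · exact fun d => ⟨not_gen_of_chart j f₁ c hc0 hc1 d, not_gen_of_chart j f₂ c hc0 hc2 d⟩
  · intro d
    rw [← Scheme.Hom.comp_apply, e₁, hpx]

end K896.NdGeo
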