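import Groth.Agent.CurvSt.K896.NdAlg
import Groth.Agent.CurvesB.NodeCriterion

/-!
# Affine presentations of nodes
-/

set_option autoImplicit false
set_option backward.isDefEq.respectTransparency false
set_option backward.isDefEq.respectTransparency.types false
universe u

open CategoryTheory AlgebraicGeometry TopologicalSpace IsLocalRing Opposite

namespace K896.NdLoc

open Groth.Agent.CurvesB.Node K896.NdAlg

variable {X : Scheme.{u}} {x : X}

/-- The prime ideal of a point. -/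
noncomputable def pm (U : X.Opens) (hx : x ∈ U) : Ideal Γ(X, U) :=
  (maximalIdeal (X.presheaf.stalk x)).comap (X.presheaf.germ U x hx).hom

theorem mem_pm {U : X.Opens} (hx : x ∈ U) (r : Γ(X, U)) :
    r ∈ pm U hx ↔ X.presheaf.germ U x hx r ∈ maximalIdeal (X.presheaf.stalk x) := Iff.rfl

theorem notMem_pm {U : X.Opens} (hx : x ∈ U) (r : Γ(X, U)) : r ∉ pm U hx ↔ x ∈ X.basicOpen r := by
  rw [mem_pm, mem_maximalIdeal, mem_nonunits_iff, not_not, X.mem_basicOpen r x hx]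

theorem pm_map {U V : X.Opens} (i : V ⟶ U) (hx : x ∈ V) (r : Γ(X, U)) :
    X.presheaf.map i.op r ∈ pm V hx ↔ r ∈ pm U (i.le hx) := by
  rw [mem_pm, mem_pm, TopCat.Presheaf.germ_res_apply]

theorem pm_eq {U : X.Opens} (hU : IsAffineOpen U) (hx : x ∈ U) : pm U hx = (hU.primeIdealOf ⟨x, hx⟩).asIdeal := by
  let _ := X.presheaf.algebra_section_stalk ⟨x, hx⟩
  have := hU.isLocalization_stalk ⟨x, hx⟩
  exact IsLocalization.AtPrime.under_maximalIdeal (X.presheaf.stalk x) (hU.primeIdealOf ⟨x, hx⟩).asIdeal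

theorem isPrime_pm (U : X.Opens) (hx : x ∈ U) : (pm U hx).IsPrime :=
  Ideal.IsPrime.comap _

theorem isMaximal_pm {U : X.Opens} (hU : IsAffineOpen U) (hx : x ∈ U) (hc : IsClosed {x}) : (pm U hx).IsMaximal := by
  rw [pm_eq hU]
  exact hU.primeIdealOf_isMaximal_of_isClosed ⟨x, hx⟩ hc

theorem isLocalization_pm {U : X.Opens} (hU : IsAffineOpen U) (hx : x ∈ U) :
    letI := X.presheaf.algebra_section_stalk ⟨x, hx⟩
    haveI := isPrime_pm U hx
    IsLocalization.AtPrime (X.presheaf.stalk x) (pm U hx) := by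
  let _ := X.presheaf.algebra_section_stalk ⟨x, hx⟩
  have h1 := hU.isLocalization_stalk ⟨x, hx⟩
  have h2 := pm_eq hU hx
  have := isPrime_pm U hx
  change IsLocalization (pm U hx).primeCompl _
  have h3 : (pm U hx).primeCompl = (hU.primeIdealOf ⟨x, hx⟩).asIdeal.primeCompl := by
    ext r
    rw [Ideal.mem_primeCompl_iff, Ideal.mem_primeCompl_iff, h2]
  rw [h3]
  exact h1

/-- Shrinking a neighbourhood. -/
theorem exists_affine (U : X.Opens) (hx : x ∈ U) : ∃ V : X.Opens, IsAffineOpen V ∧ x ∈ V ∧ V ≤ U := by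
  obtain ⟨_, ⟨V, hV, rfl⟩, hxV, hVU⟩ := X.isBasis_affineOpens.exists_subset_of_mem_open hx U.2
  exact ⟨V, hV, hxV, hVU⟩

/-- A presentation of the local ring extends to a neighbourhood. -/
theorem exists_sections (a b β γ : X.presheaf.stalk x) (hr : a ^ 2 + β * a * b + γ * b ^ 2 = 0) :
    ∃ (U : X.Opens) (_ : IsAffineOpen U) (hx : x ∈ U) (a' b' β' γ' : Γ(X, U)), X.presheaf.germ U x hx a' = a ∧
      X.presheaf.germ U x hx b' = b ∧ X.presheaf.germ U x hx β' = β ∧ X.presheaf.germ U x hx γ' = γ ∧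
      a' ^ 2 + β' * a' * b' + γ' * b' ^ 2 = 0 := by
  obtain ⟨U₁, h₁, a₁, ha₁⟩ := X.presheaf.exists_germ_eq a
  obtain ⟨U₂, h₂, b₁, hb₁⟩ := X.presheaf.exists_germ_eq b
  obtain ⟨U₃, h₃, β₁, hβ₁⟩ := X.presheaf.exists_germ_eq β
  obtain ⟨U₄, h₄, γ₁, hγ₁⟩ := X.presheaf.exists_germ_eq γ
  let U₀ : X.Opens := U₁ ⊓ U₂ ⊓ U₃ ⊓ U₄
  have h₀ : x ∈ U₀ := ⟨⟨⟨h₁, h₂⟩, h₃⟩, h₄⟩
  have i₁ : U₀ ≤ U₁ := fun y hy => hy.1.1.1
  have i₂ : U₀ ≤ U₂ := fun y hy => hy.1.1.2
  have i₃ : U₀ ≤ U₃ := fun y hy => hy.1.2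
  have i₄ : U₀ ≤ U₄ := fun y hy => hy.2
  let a₂ : Γ(X, U₀) := X.presheaf.map (homOfLE i₁).op a₁
  let b₂ : Γ(X, U₀) := X.presheaf.map (homOfLE i₂).op b₁
  let β₂ : Γ(X, U₀) := X.presheaf.map (homOfLE i₃).op β₁
  let γ₂ : Γ(X, U₀) := X.presheaf.map (homOfLE i₄).op γ₁
  have ha₂ : X.presheaf.germ U₀ x h₀ a₂ = a := by rw [← ha₁]; exact TopCat.Presheaf.germ_res_apply _ _ _ _ _
  have hb₂ : X.presheaf.germ U₀ x h₀ b₂ = b := by rw [← hb₁]; exact TopCat.Presheaf.germ_res_apply _ _ _ _ _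
  have hβ₂ : X.presheaf.germ U₀ x h₀ β₂ = β := by rw [← hβ₁]; exact TopCat.Presheaf.germ_res_apply _ _ _ _ _
  have hγ₂ : X.presheaf.germ U₀ x h₀ γ₂ = γ := by rw [← hγ₁]; exact TopCat.Presheaf.germ_res_apply _ _ _ _ _
  have hz : X.presheaf.germ U₀ x h₀ (a₂ ^ 2 + β₂ * a₂ * b₂ + γ₂ * b₂ ^ 2) = X.presheaf.germ U₀ x h₀ 0 := by
    simp only [map_add, map_mul, map_pow, map_zero, ha₂, hb₂, hβ₂, hγ₂]
    exact hr
  obtain ⟨W, hW, iU, iV, e⟩ := X.presheaf.germ_eq x h₀ h₀ _ _ hz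
  obtain ⟨V, hV, hxV, hVW⟩ := exists_affine W hW
  have j : V ⟶ U₀ := homOfLE (hVW.trans iU.le)
  have hg : ∀ r : Γ(X, U₀), X.presheaf.germ V x hxV (X.presheaf.map j.op r) = X.presheaf.germ U₀ x h₀ r := fun r =>
    TopCat.Presheaf.germ_res_apply _ _ _ _ _
  refine ⟨V, hV, hxV, X.presheaf.map j.op a₂, X.presheaf.map j.op b₂, X.presheaf.map j.op β₂, X.presheaf.map j.op γ₂,
    (hg _).trans ha₂, (hg _).trans hb₂, (hg _).trans hβ₂, (hg _).trans hγ₂, ?_⟩
  have hj : j = homOfLE hVW ≫ iU := Subsingleton.elim _ _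
  have hj' : j = homOfLE hVW ≫ iV := Subsingleton.elim _ _
  have e1 : X.presheaf.map j.op (a₂ ^ 2 + β₂ * a₂ * b₂ + γ₂ * b₂ ^ 2) =
      X.presheaf.map (homOfLE hVW).op (X.presheaf.map iU.op (a₂ ^ 2 + β₂ * a₂ * b₂ + γ₂ * b₂ ^ 2)) := by
    rw [hj, op_comp, Functor.map_comp]
    rfl
  have e2 : X.presheaf.map j.op (a₂ ^ 2 + β₂ * a₂ * b₂ + γ₂ * b₂ ^ 2) = 0 := by
    rw [e1, e, map_zero, map_zero]
  rw [map_add, map_add, map_mul, map_mul, map_mul, map_pow, map_pow] at e2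
  exact e2

/-- **Presentations of nodes.** -/
theorem exists_pres [IsLocallyNoetherian X] (hc : IsClosed ({x} : Set X)) (hN : NodeLike (X.presheaf.stalk x)) :
    ∃ (U : X.Opens) (_ : IsAffineOpen U) (hx : x ∈ U) (a b β γ : Γ(X, U)),
      letI := X.presheaf.algebra_section_stalk ⟨x, hx⟩
      Pres (pm U hx) (X.presheaf.stalk x) a b β γ ∧ ∀ y : X, y ∈ X.basicOpen b ↔ y ∈ U ∧ y ≠ x := by
  obtain ⟨a, b, β, γ, hm, hd, hr⟩ := hN.exists_monic
  obtain ⟨U, hU, hx, a₁, b₁, β₁, γ₁, ha₁, hb₁, hβ₁, hγ₁, hr₁⟩ := exists_sections a b β γ hr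
  let _ := X.presheaf.algebra_section_stalk ⟨x, hx⟩
  have hprime := isPrime_pm U hx
  have hloc := isLocalization_pm hU hx
  have hnoe : IsNoetherianRing Γ(X, U) := IsLocallyNoetherian.component_noetherian ⟨U, hU⟩
  -- the ideal is generated by `a`, `b` near `x`
  have h1 : ∃ s : Γ(X, U), s ∉ pm U hx ∧ ∀ m ∈ pm U hx, s * m ∈ Ideal.span {a₁, b₁} := by
    obtain ⟨t, ht⟩ := (isNoetherianRing_iff_ideal_fg _).1 hnoe (pm U hx)
    have h2 : ∀ m ∈ pm U hx, ∃ s : Γ(X, U), s ∉ pm U hx ∧ s * m ∈ Ideal.span {a₁, b₁} := by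
      intro m hmm
      have h3 : algebraMap Γ(X, U) (X.presheaf.stalk x) m ∈
          Ideal.map (algebraMap Γ(X, U) (X.presheaf.stalk x)) (Ideal.span {a₁, b₁}) := by
        have h4 : Ideal.map (algebraMap Γ(X, U) (X.presheaf.stalk x)) (Ideal.span {a₁, b₁}) =
            maximalIdeal (X.presheaf.stalk x) := by
          rw [Ideal.map_span, Set.image_pair, hm, ← ha₁, ← hb₁]
          rfl
        rw [h4]
        exact hmm
      rw [IsLocalization.algebraMap_mem_map_algebraMap_iff (pm U hx).primeCompl] at h3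
      obtain ⟨s, hs, hs'⟩ := h3
      exact ⟨s, hs, hs'⟩
    choose! S hS using h2
    refine ⟨∏ m ∈ t, S m, ?_, ?_⟩
    · intro h3
      obtain ⟨m, hmt, hm'⟩ := (Ideal.IsPrime.prod_mem_iff (hp := hprime)).1 h3
      exact (hS m (by rw [← ht]; exact Ideal.subset_span hmt)).1 hm'
    · have h3 : pm U hx ≤ Submodule.comap (LinearMap.mulLeft Γ(X, U) (∏ m ∈ t, S m)) (Ideal.span {a₁, b₁}) := by
        conv_lhs => rw [← ht]
        refine Ideal.span_le.2 ?_
        intro m hmt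
        rw [SetLike.mem_coe, Submodule.mem_comap, LinearMap.mulLeft_apply]
        have h4 := (hS m (by rw [← ht]; exact Ideal.subset_span hmt)).2
        obtain ⟨c, hc'⟩ := Finset.dvd_prod_of_mem S hmt
        rw [hc', mul_right_comm, mul_comm]
        exact Ideal.mul_mem_left _ _ h4
      intro m hmm
      exact h3 hmm
  obtain ⟨s, hs, hsm⟩ := h1
  let V : X.Opens := X.basicOpen s
  have hV : IsAffineOpen V := hU.basicOpen s
  have hxV : x ∈ V := (notMem_pm hx s).1 hs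
  have hVU : V ≤ U := X.basicOpen_le s
  let j : V ⟶ U := homOfLE hVU
  let a₂ : Γ(X, V) := X.presheaf.map j.op a₁
  let b₂ : Γ(X, V) := X.presheaf.map j.op b₁
  let β₂ : Γ(X, V) := X.presheaf.map j.op β₁
  let γ₂ : Γ(X, V) := X.presheaf.map j.op γ₁
  have hgen : pm V hxV = Ideal.span {a₂, b₂} := by
    let _ : Algebra Γ(X, U) Γ(X, V) := (X.presheaf.map j.op).hom.toAlgebra
    have hloc' : IsLocalization.Away s Γ(X, V) := hU.isLocalization_of_eq_basicOpen s j rfl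
    have hmap : Ideal.map (algebraMap Γ(X, U) Γ(X, V)) (Ideal.span {a₁, b₁}) = Ideal.span {a₂, b₂} := by
      rw [Ideal.map_span, Set.image_pair]
      rfl
    have hgm : ∀ r : Γ(X, U), X.presheaf.germ V x hxV (X.presheaf.map j.op r) = X.presheaf.germ U x hx r := fun r =>
      TopCat.Presheaf.germ_res_apply _ _ _ _ _
    refine le_antisymm ?_ ?_
    · intro y hy
      obtain ⟨n, r, hr'⟩ := IsLocalization.Away.surj s y
      have h2 : algebraMap Γ(X, U) Γ(X, V) r ∈ pm V hxV := by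
        rw [← hr']
        exact Ideal.mul_mem_right _ _ hy
      have h3 : r ∈ pm U hx := (pm_map j hxV r).1 h2
      have h4 : algebraMap Γ(X, U) Γ(X, V) (s * r) ∈ Ideal.span {a₂, b₂} := by
        rw [← hmap]
        exact Ideal.mem_map_of_mem _ (hsm r h3)
      rw [map_mul, ← hr', mul_comm, mul_assoc, ← pow_succ] at h4
      exact (Ideal.mul_unit_mem_iff_mem _ ((IsLocalization.Away.algebraMap_isUnit s).pow (n + 1))).1 h4
    · rw [Ideal.span_le]
      rintro y (rfl | rfl)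
      · rw [SetLike.mem_coe, mem_pm, hgm, ha₁, hm]
        exact Ideal.subset_span (by simp)
      · rw [SetLike.mem_coe, mem_pm, hgm, hb₁, hm]
        exact Ideal.subset_span (by simp)
  have hr₂ : a₂ ^ 2 + β₂ * a₂ * b₂ + γ₂ * b₂ ^ 2 = 0 := by
    have := congrArg (X.presheaf.map j.op) hr₁
    rw [map_add, map_add, map_mul, map_mul, map_mul, map_pow, map_pow, map_zero] at this
    exact this
  have huniq : ∀ P : Ideal Γ(X, V), P.IsPrime → b₂ ∈ P → P = pm V hxV := by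
    intro P hP hb
    have ha : a₂ ∈ P := by
      refine hP.mem_of_pow_mem 2 ?_
      have h2 : a₂ ^ 2 = -(β₂ * a₂ + γ₂ * b₂) * b₂ := by linear_combination hr₂
      rw [h2]
      exact Ideal.mul_mem_left _ _ hb
    refine ((isMaximal_pm hV hxV hc).eq_of_le hP.ne_top ?_).symm
    rw [hgen, Ideal.span_le]
    rintro y (rfl | rfl)
    · exact ha
    · exact hb
  have hdisc : 4 * γ₂ - β₂ ^ 2 ∉ pm V hxV := by
    rw [notMem_pm, X.mem_basicOpen _ x hxV]
    have h5 : X.presheaf.germ V x hxV γ₂ = γ := by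
      rw [← hγ₁]; exact TopCat.Presheaf.germ_res_apply _ _ _ _ _
    have h6 : X.presheaf.germ V x hxV β₂ = β := by
      rw [← hβ₁]; exact TopCat.Presheaf.germ_res_apply _ _ _ _ _
    have h2 : X.presheaf.germ V x hxV (4 * γ₂ - β₂ ^ 2) = 4 * γ - β ^ 2 := by
      rw [map_sub, map_mul, map_pow, map_ofNat, h5, h6]
    rw [h2]
    exact hd
  refine ⟨V, hV, hxV, a₂, b₂, β₂, γ₂, ?_, ?_⟩
  · let _ := X.presheaf.algebra_section_stalk ⟨x, hxV⟩
    exact ⟨isMaximal_pm hV hxV hc, hgen, hr₂, hdisc, huniq, inferInstance, inferInstance, hN.not_principal⟩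
  · intro y
    constructor
    · intro hy
      refine ⟨X.basicOpen_le _ hy, ?_⟩
      rintro rfl
      refine (notMem_pm hxV b₂).2 hy ?_
      rw [hgen]
      exact Ideal.subset_span (by simp)
    · rintro ⟨hyV, hyx⟩
      by_contra hy
      have h2 : b₂ ∈ pm V hyV := by
        by_contra h3
        exact hy ((notMem_pm hyV b₂).1 h3)
      have h3 := huniq _ (isPrime_pm V hyV) h2
      rw [pm_eq hV, pm_eq hV] at h3
      have h4 : hV.primeIdealOf ⟨y, hyV⟩ = hV.primeIdealOf ⟨x, hxV⟩ := PrimeSpectrum.ext h3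
      have h5 := hV.fromSpec_primeIdealOf ⟨y, hyV⟩
      rw [h4, hV.fromSpec_primeIdealOf] at h5
      exact hyx h5.symm

end K896.NdLoc
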