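import Groth.Agent.CurvesB.NodeSub

/-!
# Two complementary branches of an ordinary double point meet transversally
-/

set_option autoImplicit false
universe u
open IsLocalRing

namespace K896.NodeMeet

open Groth.Agent.CurvesB.NodeRing Groth.Agent.CurvesB.GorDimOne Groth.Agent.CurvesB.NodeSch
  Groth.Agent.CurvesB.NodeSub

/-- In a node ring the two branch ideals generate the maximal ideal. -/
lemma ker_sup_ker {K : Type*} {B : Type*} [Field K] [CommRing B] [IsLocalRing B]
    {φ ψ : B →+* PowerSeries K} (h : IsNodeRing K B φ ψ) :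
    RingHom.ker φ ⊔ RingHom.ker ψ = maximalIdeal B := by
  apply le_antisymm
  · refine sup_le ?_ ?_
    · intro x hx
      rw [h.mem_maximalIdeal_iff, RingHom.mem_ker.mp hx, map_zero]
    · intro x hx
      rw [h.mem_maximalIdeal_iff, h.const, RingHom.mem_ker.mp hx, map_zero]
  · intro x hx
    rw [h.mem_maximalIdeal_iff] at hx
    obtain ⟨a, ha1, ha2⟩ := h.range 0 (ψ x) (by rw [map_zero, ← h.const, hx])
    obtain ⟨b, hb1, hb2⟩ := h.range (φ x) 0 (by rw [map_zero, hx])
    have : x = a + b := h.ext (by rw [map_add, ha1, hb1, zero_add])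
      (by rw [map_add, ha2, hb2, add_zero])
    rw [this]
    exact Submodule.add_mem_sup (RingHom.mem_ker.mpr ha1) (RingHom.mem_ker.mpr hb2)

/-- The extension to the completion of an ideal with reduced quotient of positive dimension in an ordinary
double point: zero or a branch. -/
theorem map_cases {K R : Type u} [Field K] [CommRing R] [Algebra K R]
    [IsLocalRing R] [IsNoetherianRing R] {φ ψ : AdicCompletion (maximalIdeal R) R →+* PowerSeries K}
    (hN : IsNodeRing K (AdicCompletion (maximalIdeal R) R) φ ψ)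
    (J : Ideal R) [IsReduced (R ⧸ J)] [Nontrivial (R ⧸ J)] (hJ : ¬ IsField (R ⧸ J)) :
    J.map (algebraMap R (AdicCompletion (maximalIdeal R) R)) = ⊥ ∨
    J.map (algebraMap R (AdicCompletion (maximalIdeal R) R)) = RingHom.ker ψ ∨
    J.map (algebraMap R (AdicCompletion (maximalIdeal R) R)) = RingHom.ker φ := by
  let B := AdicCompletion (maximalIdeal R) R
  have iloc : IsLocalRing (R ⧸ J) :=
    IsLocalRing.of_surjective' (Ideal.Quotient.mk J) Ideal.Quotient.mk_surjective
  obtain ⟨f', hf'm, hf'⟩ : ∃ f ∈ maximalIdeal (R ⧸ J), f ∈ nonZeroDivisors (R ⧸ J) := by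
    by_contra hcon
    push Not at hcon
    exact hJ (isField_of_disjoint hcon)
  obtain ⟨f, rfl⟩ := Ideal.Quotient.mk_surjective f'
  have hfm : f ∈ maximalIdeal R := by
    rw [mem_maximalIdeal, mem_nonunits_iff] at hf'm ⊢
    exact fun hu => hf'm (hu.map _)
  have hf : ∀ a, f * a ∈ J → a ∈ J := by
    intro a ha
    rw [← Ideal.Quotient.eq_zero_iff_mem, map_mul] at ha
    rw [← Ideal.Quotient.eq_zero_iff_mem]
    exact (mul_right_mem_nonZeroDivisors_eq_zero_iff hf').mp (by rwa [mul_comm] at ha)
  have hJtop : J ≠ ⊤ := by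
    rintro rfl
    exact not_nontrivial (R ⧸ (⊤ : Ideal R)) ‹_›
  have hJle : J ≤ maximalIdeal R := IsLocalRing.le_maximalIdeal hJtop
  have h2 : IsLocalHom (algebraMap R B) := by infer_instance
  have hJB : J.map (algebraMap R B) ≠ ⊤ := by
    intro htop
    have h4 := ((IsLocalRing.local_hom_TFAE (algebraMap R B)).out 0 2 rfl rfl).mp h2
    have h5 := (Ideal.map_mono hJle).trans h4
    rw [htop, top_le_iff] at h5
    exact (maximalIdeal.isMaximal B).ne_top h5
  have hf0 : PowerSeries.constantCoeff (φ (algebraMap R B f)) = 0 := by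
    rw [← hN.mem_maximalIdeal_iff]
    exact ((IsLocalRing.local_hom_TFAE (algebraMap R B)).out 0 2 rfl rfl).mp h2
      (Ideal.mem_map_of_mem _ hfm)
  exact hN.ideal_cases hJB hf0 (mem_map_of_flat J f hf)

/-- Two nonzero ideals with zero intersection and reduced quotients of positive dimension in an ordinary double
point generate the maximal ideal. -/
theorem sup_eq_maximalIdeal {K R : Type u} [Field K] [CommRing R] [Algebra K R]
    [IsLocalRing R] [IsNoetherianRing R] (h : Curv2.IsOrdDoublePt K R)
    (I J : Ideal R) [IsReduced (R ⧸ I)] [Nontrivial (R ⧸ I)] (hI : ¬ IsField (R ⧸ I))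
    [IsReduced (R ⧸ J)] [Nontrivial (R ⧸ J)] (hJ : ¬ IsField (R ⧸ J))
    (hI0 : I ≠ ⊥) (hJ0 : J ≠ ⊥) (hIJ : I ⊓ J = ⊥) : I ⊔ J = maximalIdeal R := by
  obtain ⟨φ, ψ, hN, -, -⟩ := exists_isNodeRing h
  let B := AdicCompletion (maximalIdeal R) R
  have h3 : Module.FaithfullyFlat R B := Module.FaithfullyFlat.of_flat_of_isLocalHom
  have hcomap : ∀ I : Ideal R, (I.map (algebraMap R B)).comap (algebraMap R B) = I :=
    fun I => Ideal.comap_map_eq_self_of_faithfullyFlat I
  have hinj : Function.Injective (fun I : Ideal R => I.map (algebraMap R B)) := by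
    intro I J hIJ
    rw [← hcomap I, ← hcomap J]
    exact congrArg _ hIJ
  have hne : ∀ I : Ideal R, I ≠ ⊥ → I.map (algebraMap R B) ≠ ⊥ := by
    intro I hI0 hI
    apply hI0
    apply hinj
    change I.map (algebraMap R B) = (⊥ : Ideal R).map (algebraMap R B)
    rw [hI, Ideal.map_bot]
  have hIJne : I.map (algebraMap R B) ≠ J.map (algebraMap R B) := by
    intro hcon
    have := hinj hcon
    subst this
    rw [inf_idem] at hIJ
    exact hI0 hIJ
  have hmB : maximalIdeal B = (maximalIdeal R).map (algebraMap R B) := by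
    exact AdicCompletion.maximalIdeal_eq_map
  apply hinj
  change (I ⊔ J).map (algebraMap R B) = (maximalIdeal R).map (algebraMap R B)
  rw [Ideal.map_sup, ← hmB]
  rcases map_cases hN I hI with h1 | h1 | h1
  · exact absurd h1 (hne I hI0)
  · rcases map_cases hN J hJ with h2 | h2 | h2
    · exact absurd h2 (hne J hJ0)
    · exact absurd (h1.trans h2.symm) hIJne
    · rw [h1, h2, sup_comm]
      exact ker_sup_ker hN
  · rcases map_cases hN J hJ with h2 | h2 | h2
    · exact absurd h2 (hne J hJ0)
    · rw [h1, h2]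
      exact ker_sup_ker hN
    · exact absurd (h1.trans h2.symm) hIJne

end K896.NodeMeet
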