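import Groth.Agent.CurvesB.NodeLike
import Mathlib.RingTheory.Localization.AtPrime.Basic
import Mathlib.RingTheory.Localization.Ideal
import Mathlib.RingTheory.Nakayama

/-!
# Pinching two points of a regular curve gives a node: the algebra
-/

set_option autoImplicit false
open IsLocalRing

namespace K896.Pinch

open Groth.Agent.CurvesB.Node

section Local

variable {A B : Type*} [CommRing A] [IsLocalRing A] [CommRing B] (φ : A →+* B)

theorem pow_aux (t : B) (hm : ∀ b : B, b ∈ Ideal.span {t} ↔ ∃ a ∈ maximalIdeal A, φ a = b) (n : ℕ) :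
    (∀ x ∈ maximalIdeal A ^ (n + 1), ∃ y, φ x = t ^ (n + 1) * y) ∧
      ∀ y, ∃ x ∈ maximalIdeal A ^ (n + 1), φ x = t ^ (n + 1) * y := by
  induction n with
  | zero =>
    constructor
    · intro x hx
      rw [zero_add, pow_one] at hx
      have h := (hm (φ x)).mpr ⟨x, hx, rfl⟩
      obtain ⟨y, hy⟩ := Ideal.mem_span_singleton'.mp h
      exact ⟨y, by rw [← hy]; ring⟩
    · intro y
      obtain ⟨a, ha, hay⟩ := (hm (t * y)).mp (Ideal.mul_mem_right _ _ (Ideal.mem_span_singleton_self t))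
      exact ⟨a, by rwa [zero_add, pow_one], by rw [hay]; ring⟩
  | succ n ih =>
    constructor
    · intro x hx
      rw [pow_succ] at hx
      refine Submodule.mul_induction_on hx ?_ ?_
      · intro x hx y hy
        obtain ⟨x', hx'⟩ := ih.1 x hx
        have h := (hm (φ y)).mpr ⟨y, hy, rfl⟩
        obtain ⟨y', hy'⟩ := Ideal.mem_span_singleton'.mp h
        exact ⟨x' * y', by rw [map_mul, hx', ← hy']; ring⟩
      · rintro x y ⟨x', hx'⟩ ⟨y', hy'⟩
        exact ⟨x' + y', by rw [map_add, hx', hy']; ring⟩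
    · intro y
      obtain ⟨x, hx, hxy⟩ := ih.2 y
      obtain ⟨a, ha, hat⟩ := (hm t).mp (Ideal.mem_span_singleton_self t)
      refine ⟨x * a, ?_, ?_⟩
      · rw [pow_succ]
        exact Ideal.mul_mem_mul hx ha
      · rw [map_mul, hxy, hat]; ring

/-- Pinching, local form. -/
theorem nodeLike_of_pinch (hφ : Function.Injective φ) (t : B) (ht : ∀ x, t * x = 0 → x = 0)
    (hm : ∀ b : B, b ∈ Ideal.span {t} ↔ ∃ a ∈ maximalIdeal A, φ a = b)
    (θ : B) (hB : ∀ b : B, ∃ a₁ a₂ : A, b = φ a₁ + φ a₂ * θ) (hθ : ∀ a, φ a ≠ θ)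
    (β γ : A) (hrel : θ ^ 2 + φ β * θ + φ γ = 0) (hdisc : IsUnit (4 * γ - β ^ 2)) : NodeLike A := by
  have htn : ∀ (n : ℕ) (x : B), t ^ n * x = 0 → x = 0 := by
    intro n
    induction n with
    | zero => intro x hx; simpa using hx
    | succ n ih =>
      intro x hx
      apply ht
      apply ih
      rw [← mul_assoc, ← pow_succ]
      exact hx
  refine ⟨?_, ?_⟩
  · obtain ⟨a, ha, hat⟩ := (hm t).mp (Ideal.mem_span_singleton_self t)
    obtain ⟨b, hb, hbt⟩ := (hm (t * θ)).mp (Ideal.mul_mem_right _ _ (Ideal.mem_span_singleton_self t))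
    refine ⟨a, b, γ, β, 1, ?_, by simpa using hdisc, ?_⟩
    · apply le_antisymm
      · intro x hx
        obtain ⟨y, hy⟩ := Ideal.mem_span_singleton'.mp ((hm (φ x)).mpr ⟨x, hx, rfl⟩)
        obtain ⟨a₁, a₂, rfl⟩ := hB y
        have h1 : x = a₁ * a + a₂ * b := by
          apply hφ
          rw [map_add, map_mul, map_mul, hat, hbt, ← hy]
          ring
        rw [h1]
        exact Ideal.mem_span_pair.mpr ⟨a₁, a₂, rfl⟩
      · rw [Ideal.span_le, Set.insert_subset_iff, Set.singleton_subset_iff]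
        exact ⟨ha, hb⟩
    · apply hφ
      rw [map_add, map_add, map_mul, map_mul, map_mul, map_mul, map_pow, map_pow, map_one, map_zero, hat, hbt]
      linear_combination t ^ 2 * hrel
  · intro n hn hpr
    obtain ⟨m, rfl⟩ : ∃ m, n = m + 1 := ⟨n - 1, by omega⟩
    obtain ⟨h1, h2⟩ := pow_aux φ t hm m
    obtain ⟨c, hc⟩ := hpr
    have hc' : maximalIdeal A ^ (m + 1) = Ideal.span {c} := hc
    obtain ⟨u, hu⟩ := h1 c (by rw [hc']; exact Ideal.mem_span_singleton_self c)
    obtain ⟨x, hx, hx1⟩ := h2 1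
    rw [hc'] at hx
    obtain ⟨a', rfl⟩ := Ideal.mem_span_singleton'.mp hx
    have h3 : φ a' * u = 1 := by
      have h4 : t ^ (m + 1) * (φ a' * u - 1) = 0 := by
        rw [map_mul, hu] at hx1
        linear_combination hx1
      exact sub_eq_zero.mp (htn _ _ h4)
    obtain ⟨x, hx, hx2⟩ := h2 θ
    rw [hc'] at hx
    obtain ⟨a'', rfl⟩ := Ideal.mem_span_singleton'.mp hx
    have h4 : φ a'' * u = θ := by
      have h5 : t ^ (m + 1) * (φ a'' * u - θ) = 0 := by
        rw [map_mul, hu] at hx2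
        linear_combination hx2
      exact sub_eq_zero.mp (htn _ _ h5)
    by_cases ha' : IsUnit a'
    · obtain ⟨v, hv⟩ := ha'.exists_right_inv
      apply hθ (a'' * v)
      have h5 : φ a' * φ v = 1 := by rw [← map_mul, hv, map_one]
      have h6 : φ v = u := by
        calc φ v = φ v * (φ a' * u) := by rw [h3, mul_one]
          _ = (φ a' * φ v) * u := by ring
          _ = u := by rw [h5, one_mul]
      rw [map_mul, h6, h4]
    · have h5 : φ a' ∈ Ideal.span {t} := (hm _).mpr ⟨a', ha', rfl⟩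
      have h6 : (1 : B) ∈ Ideal.span {t} := by rw [← h3]; exact Ideal.mul_mem_right _ _ h5
      obtain ⟨a, ha, ha1⟩ := (hm 1).mp h6
      have h7 : a = 1 := hφ (by rw [ha1, map_one])
      rw [h7] at ha
      exact (Ideal.ne_top_iff_one _).mp (maximalIdeal.isMaximal A).ne_top ha

end Local

section Global

variable {A B κ : Type*} [CommRing A] [CommRing B] [Field κ] (φ : A →+* B) (p : A →+* κ)

/-- Pinching: the local ring of the pinched ring at the pinched point. -/
theorem nodeLike_of_square (hφ : Function.Injective φ) (I : Ideal B)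
    (hI : ∀ b, b ∈ I ↔ ∃ a, p a = 0 ∧ φ a = b) (t : B) (htI : t ∈ I)
    (ht : ∀ b ∈ I, ∃ s, p s ≠ 0 ∧ φ s * b ∈ Ideal.span {t})
    (ht0 : ∀ b, t * b = 0 → ∃ s, p s ≠ 0 ∧ φ s * b = 0)
    (θ : B) (hB : ∀ b : B, ∃ a₁ a₂ : A, b = φ a₁ + φ a₂ * θ)
    (hθ : ∀ a s, φ s * θ = φ a → p s = 0)
    (β γ : A) (hrel : θ ^ 2 + φ β * θ + φ γ = 0) (hdisc : p (4 * γ - β ^ 2) ≠ 0)
    (m : Ideal A) [m.IsPrime] (hm : ∀ a, a ∈ m ↔ p a = 0)
    (L : Type*) [CommRing L] [IsLocalRing L] [Algebra A L] [IsLocalization.AtPrime L m] : NodeLike L := by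
  let M : Submonoid A := m.primeCompl
  have hM : ∀ s, s ∈ M ↔ p s ≠ 0 := fun s => by
    change s ∉ m ↔ _
    rw [hm]
  let N : Submonoid B := M.map φ
  let B' := Localization N
  have hMN : M ≤ N.comap φ := fun s hs => ⟨s, hs, rfl⟩
  let ψ : L →+* B' := IsLocalization.map B' φ hMN
  have hψ : ∀ a : A, ψ (algebraMap A L a) = algebraMap B B' (φ a) := fun a => IsLocalization.map_eq hMN a
  have hunit : ∀ s ∈ M, IsUnit (algebraMap B B' (φ s)) := fun s hs =>
    IsLocalization.map_units B' (⟨φ s, ⟨s, hs, rfl⟩⟩ : N)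
  have hunitL : ∀ s ∈ M, IsUnit (algebraMap A L s) := fun s hs => IsLocalization.map_units L (⟨s, hs⟩ : M)
  -- elements of `B'`
  have hsurj : ∀ z : B', ∃ (b : B) (s : A), s ∈ M ∧ z * algebraMap B B' (φ s) = algebraMap B B' b := by
    intro z
    obtain ⟨⟨b, ⟨_, s, hs, rfl⟩⟩, hz⟩ := IsLocalization.surj N z
    exact ⟨b, s, hs, hz⟩
  have hsurjL : ∀ z : L, ∃ (a s : A), s ∈ M ∧ z * algebraMap A L s = algebraMap A L a := by
    intro z
    obtain ⟨⟨a, ⟨s, hs⟩⟩, hz⟩ := IsLocalization.surj M z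
    exact ⟨a, s, hs, hz⟩
  have hzero : ∀ b : B, algebraMap B B' b = 0 → ∃ s ∈ M, φ s * b = 0 := by
    intro b hb
    rw [IsLocalization.map_eq_zero_iff N] at hb
    obtain ⟨⟨_, s, hs, rfl⟩, h⟩ := hb
    exact ⟨s, hs, h⟩
  have hmul : ∀ s s', s ∈ M → s' ∈ M → s * s' ∈ M := fun s s' => M.mul_mem
  have hψinj : Function.Injective ψ := by
    rw [injective_iff_map_eq_zero]
    intro z hz
    obtain ⟨a, s, hs, ha⟩ := hsurjL z
    have h1 : algebraMap B B' (φ a) = 0 := by
      rw [← hψ, ← ha, map_mul, hz, zero_mul]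
    obtain ⟨s', hs', h2⟩ := hzero _ h1
    have h3 : s' * a = 0 := hφ (by rw [map_mul, h2, map_zero])
    have h4 : algebraMap A L s' * (z * algebraMap A L s) = 0 := by
      rw [ha, ← map_mul, h3, map_zero]
    have h5 := (hunitL s' hs').mul_left_cancel (h4.trans (mul_zero _).symm)
    exact (hunitL s hs).mul_right_cancel (h5.trans (zero_mul _).symm)
  have hmax : ∀ a : A, algebraMap A L a ∈ maximalIdeal L ↔ p a = 0 := by
    intro a
    rw [IsLocalization.AtPrime.to_map_mem_maximal_iff L m, hm]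
  refine nodeLike_of_pinch ψ hψinj (algebraMap B B' t) ?_ ?_ (algebraMap B B' θ) ?_ ?_
    (algebraMap A L β) (algebraMap A L γ) ?_ ?_
  · intro z hz
    obtain ⟨b, s, hs, hb⟩ := hsurj z
    have h1 : algebraMap B B' (t * b) = 0 := by
      rw [map_mul, ← hb, ← mul_assoc, hz, zero_mul]
    obtain ⟨s', hs', h2⟩ := hzero _ h1
    obtain ⟨s'', hs'', h3⟩ := ht0 (φ s' * b) (by rw [← h2]; ring)
    have h4 : algebraMap B B' (φ (s'' * s')) * (z * algebraMap B B' (φ s)) = 0 := by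
      rw [hb, ← map_mul, map_mul φ, mul_assoc, h3, map_zero]
    have h5 := (hunit _ (hmul _ _ ((hM _).mpr hs'') hs')).mul_left_cancel (h4.trans (mul_zero _).symm)
    exact (hunit s hs).mul_right_cancel (h5.trans (zero_mul _).symm)
  · intro z
    constructor
    · intro hz
      obtain ⟨w, rfl⟩ := Ideal.mem_span_singleton'.mp hz
      obtain ⟨b, s, hs, hb⟩ := hsurj w
      have h1 : b * t ∈ I := I.mul_mem_left _ htI
      obtain ⟨a, ha, hab⟩ := (hI _).mp h1
      obtain ⟨v, hv⟩ := (hunitL s hs).exists_right_inv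
      refine ⟨algebraMap A L a * v, Ideal.mul_mem_right _ _ ((hmax a).mpr ha), ?_⟩
      have h2 : algebraMap B B' (φ s) * ψ v = 1 := by rw [← hψ, ← map_mul, hv, map_one]
      rw [map_mul, hψ, hab, map_mul, ← hb]
      linear_combination (w * algebraMap B B' t) * h2
    · rintro ⟨x, hx, rfl⟩
      obtain ⟨a, s, hs, ha⟩ := hsurjL x
      have h1 : p a = 0 := by
        rw [← hmax, ← ha]
        exact Ideal.mul_mem_right _ _ hx
      obtain ⟨s', hs', h2⟩ := ht (φ a) ((hI _).mpr ⟨a, h1, rfl⟩)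
      obtain ⟨w, hw⟩ := Ideal.mem_span_singleton'.mp h2
      have h3 : algebraMap B B' (φ (s' * s)) * ψ x ∈ Ideal.span {algebraMap B B' t} := by
        have h4 : algebraMap B B' (φ (s' * s)) * ψ x = algebraMap B B' w * algebraMap B B' t := by
          rw [← map_mul, hw, map_mul φ, map_mul, map_mul, mul_assoc, ← hψ s, ← map_mul, mul_comm _ x, ha, hψ]
        rw [h4]
        exact Ideal.mem_span_singleton'.mpr ⟨_, rfl⟩
      obtain ⟨v, hv⟩ := (hunit _ (hmul _ _ ((hM _).mpr hs') hs)).exists_left_inv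
      have h4 : ψ x = v * (algebraMap B B' (φ (s' * s)) * ψ x) := by
        rw [← mul_assoc, hv, one_mul]
      rw [h4]
      exact Ideal.mul_mem_left _ _ h3
  · intro z
    obtain ⟨b, s, hs, hb⟩ := hsurj z
    obtain ⟨a₁, a₂, rfl⟩ := hB b
    obtain ⟨v, hv⟩ := (hunitL s hs).exists_right_inv
    refine ⟨algebraMap A L a₁ * v, algebraMap A L a₂ * v, ?_⟩
    have h2 : algebraMap B B' (φ s) * ψ v = 1 := by rw [← hψ, ← map_mul, hv, map_one]
    rw [map_add, map_mul] at hb
    rw [map_mul, map_mul, hψ, hψ]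
    linear_combination (-z) * h2 + (ψ v) * hb
  · intro x hx
    obtain ⟨a, s, hs, ha⟩ := hsurjL x
    have h1 : algebraMap B B' (φ s * θ - φ a) = 0 := by
      rw [map_sub, map_mul, ← hx, ← hψ a, ← ha, map_mul, hψ]
      ring
    obtain ⟨s', hs', h2⟩ := hzero _ h1
    have h3 := hθ (s' * a) (s' * s) (by rw [map_mul, map_mul]; linear_combination h2)
    exact (hM _).mp (hmul _ _ hs' hs) h3
  · rw [hψ, hψ]
    have := congrArg (algebraMap B B') hrel
    simpa using this
  · have h1 : IsUnit (algebraMap A L (4 * γ - β ^ 2)) := hunitL _ ((hM _).mpr hdisc)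
    simpa only [map_sub, map_mul, map_pow, map_ofNat] using h1

end Global

section Principal

variable {B : Type*} [CommRing B]

/-- A uniformizer along two points. -/
theorem exists_uniformizer (I n₁ n₂ : Ideal B) [n₁.IsMaximal] [n₂.IsMaximal] (hI : I = n₁ ⊓ n₂) (hfg : I.FG)
    (h1 : ∀ n, n = n₁ ∨ n = n₂ → ∃ π₀ ∈ I, I ≤ Ideal.span {π₀} ⊔ n * I)
    (h2 : ∀ n, n = n₁ ∨ n = n₂ → ¬ I ≤ n * I)
    (h3 : ∀ n, n = n₁ ∨ n = n₂ → ∀ b, (∀ a ∈ I, a * b = 0) → ∃ x, x ∉ n ∧ x * b = 0) :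
    ∃ t ∈ I, (∃ r, r - 1 ∈ I ∧ ∀ b ∈ I, r * b ∈ Ideal.span {t}) ∧
      ∀ b, t * b = 0 → ∃ r, r - 1 ∈ I ∧ r * b = 0 := by
  obtain ⟨t, htI, ht1, ht2⟩ : ∃ t ∈ I, t ∉ n₁ * I ∧ t ∉ n₂ * I := by
    by_contra hcon
    push Not at hcon
    have h4 : (I : Set B) ⊆ (n₁ * I : Ideal B) ∪ (n₂ * I : Ideal B) := by
      intro t ht
      by_cases h : t ∈ n₁ * I
      · exact Or.inl h
      · exact Or.inr (hcon t ht h)
    rcases Ideal.subset_union.mp h4 with h5 | h5
    · exact h2 n₁ (Or.inl rfl) h5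
    · exact h2 n₂ (Or.inr rfl) h5
  -- `I = (t) + n I`
  have key : ∀ n, n = n₁ ∨ n = n₂ → t ∉ n * I → I ≤ Ideal.span {t} ⊔ n * I := by
    intro n hn htn
    have hmax : n.IsMaximal := by rcases hn with rfl | rfl <;> infer_instance
    obtain ⟨π₀, hπ, hle⟩ := h1 n hn
    obtain ⟨y, hy, z, hz, hyz⟩ := Submodule.mem_sup.mp (hle htI)
    obtain ⟨x, rfl⟩ := Ideal.mem_span_singleton'.mp hy
    have hx : x ∉ n := by
      intro hx
      apply htn
      rw [← hyz]
      exact add_mem (Ideal.mul_mem_mul hx hπ) hz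
    obtain ⟨w, hw⟩ := hmax.exists_inv hx
    obtain ⟨v, hv, hwv⟩ := hw
    have hπ2 : π₀ ∈ Ideal.span {t} ⊔ n * I := by
      have h5 : π₀ = w * t + (v * π₀ - w * z) := by
        rw [← hyz]
        linear_combination (-π₀) * hwv
      rw [h5]
      refine Submodule.add_mem_sup (Ideal.mem_span_singleton'.mpr ⟨w, rfl⟩) ?_
      exact sub_mem (Ideal.mul_mem_mul hv hπ) (Ideal.mul_mem_left _ _ hz)
    refine hle.trans (sup_le ?_ le_sup_right)
    rw [Ideal.span_singleton_le_iff_mem]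
    exact hπ2
  have hk1 := key n₁ (Or.inl rfl) ht1
  have hk2 := key n₂ (Or.inr rfl) ht2
  have hle : I ≤ Ideal.span {t} ⊔ I * I := by
    have h5 : n₁ * I ≤ Ideal.span {t} ⊔ I * I := by
      calc n₁ * I ≤ n₁ * (Ideal.span {t} ⊔ n₂ * I) := Ideal.mul_mono_right hk2
        _ = n₁ * Ideal.span {t} ⊔ n₁ * (n₂ * I) := Ideal.mul_sup _ _ _
        _ ≤ Ideal.span {t} ⊔ I * I := by
          refine sup_le_sup Ideal.mul_le_right ?_
          rw [← mul_assoc]
          refine Ideal.mul_mono_left ?_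
          rw [hI]
          exact Ideal.mul_le_inf
    exact hk1.trans (sup_le le_sup_left h5)
  obtain ⟨r, hr1, hr2⟩ : ∃ r, r - 1 ∈ I ∧ ∀ b ∈ I, r * b ∈ Ideal.span {t} := by
    obtain ⟨r, hr1, hr2⟩ := Submodule.exists_sub_one_mem_and_smul_le_of_fg_of_le_sup
      (I := I) (N := Ideal.span {t}) (N' := I) (P := I) hfg le_rfl (by
        rw [smul_eq_mul]
        exact hle)
    refine ⟨r, hr1, fun b hb => ?_⟩
    exact hr2 (Submodule.smul_mem_pointwise_smul b r I hb)
  refine ⟨t, htI, ⟨r, hr1, hr2⟩, fun b hb => ?_⟩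
  have h4 : ∀ a ∈ I, a * (r * b) = 0 := by
    intro a ha
    obtain ⟨w, hw⟩ := Ideal.mem_span_singleton'.mp (hr2 a ha)
    calc a * (r * b) = (r * a) * b := by ring
      _ = w * (t * b) := by rw [← hw]; ring
      _ = 0 := by rw [hb, mul_zero]
  let Q : Ideal B := LinearMap.ker (LinearMap.mulRight B (r * b))
  have hQ : ∀ x, x ∈ Q ↔ x * (r * b) = 0 := fun x => LinearMap.mem_ker
  have htop : Q ⊔ I = ⊤ := by
    by_contra hne
    obtain ⟨n, hn, hle⟩ := Ideal.exists_le_maximal _ hne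
    have h5 : n₁ ⊓ n₂ ≤ n := by rw [← hI]; exact le_sup_right.trans hle
    have h6 : n = n₁ ∨ n = n₂ := by
      rcases (Ideal.IsPrime.inf_le hn.isPrime).mp h5 with h | h
      · exact Or.inl (Ideal.IsMaximal.eq_of_le inferInstance hn.ne_top h).symm
      · exact Or.inr (Ideal.IsMaximal.eq_of_le inferInstance hn.ne_top h).symm
    obtain ⟨x, hx, hxb⟩ := h3 n h6 _ h4
    exact hx (hle (Ideal.mem_sup_left ((hQ x).mpr hxb)))
  obtain ⟨x, hx, y, hy, hxy⟩ := Submodule.mem_sup.mp (htop ▸ Submodule.mem_top (x := (1 : B)))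
  refine ⟨x * r, ?_, ?_⟩
  · have h5 : x * r - 1 = x * (r - 1) - y := by linear_combination hxy
    rw [h5]
    exact sub_mem (I.mul_mem_left _ hr1) hy
  · rw [mul_assoc]
    exact (hQ x).mp hx

end Principal

section Stalk

variable {B : Type*} [CommRing B] (n : Ideal B) [n.IsMaximal] (L : Type*) [CommRing L] [IsLocalRing L]
  [Algebra B L] [IsLocalization.AtPrime L n] (I : Ideal B) (hI : I.map (algebraMap B L) = maximalIdeal L)
  (hpr : (maximalIdeal L).IsPrincipal) (hne : maximalIdeal L ≠ ⊥)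

include hI hpr hne in
theorem not_le_mul : ¬ I ≤ n * I := by
  intro h
  have h1 : maximalIdeal L ≤ maximalIdeal L * maximalIdeal L := by
    calc maximalIdeal L = I.map (algebraMap B L) := hI.symm
      _ ≤ (n * I).map (algebraMap B L) := Ideal.map_mono h
      _ = n.map (algebraMap B L) * maximalIdeal L := by rw [Ideal.map_mul, hI]
      _ = maximalIdeal L * maximalIdeal L := by
        rw [IsLocalization.AtPrime.map_eq_maximalIdeal n L]
  apply hne
  have hfg : (maximalIdeal L).FG := by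
    obtain ⟨a, ha⟩ := hpr
    exact ⟨{a}, by rw [ha]; simp⟩
  exact Submodule.eq_bot_of_le_smul_of_le_jacobson_bot (maximalIdeal L) (maximalIdeal L) hfg
    (by rw [smul_eq_mul]; exact h1) (IsLocalRing.maximalIdeal_le_jacobson _)

include hI hne in
theorem exists_notMem [IsDomain L] (b : B) (hb : ∀ a ∈ I, a * b = 0) : ∃ x, x ∉ n ∧ x * b = 0 := by
  obtain ⟨z, hz, hz0⟩ := Submodule.exists_mem_ne_zero_of_ne_bot hne
  have h1 : maximalIdeal L * Ideal.span {algebraMap B L b} = ⊥ := by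
    rw [← hI, ← Set.image_singleton, ← Ideal.map_span, ← Ideal.map_mul]
    have : I * Ideal.span {b} = ⊥ := by
      rw [eq_bot_iff, Ideal.mul_le]
      intro a ha c hc
      obtain ⟨w, rfl⟩ := Ideal.mem_span_singleton'.mp hc
      rw [Submodule.mem_bot]
      calc a * (w * b) = w * (a * b) := by ring
        _ = 0 := by rw [hb a ha, mul_zero]
    rw [this, Ideal.map_bot]
  have h2 : z * algebraMap B L b = 0 := by
    have := Ideal.mul_mem_mul hz (Ideal.mem_span_singleton_self (algebraMap B L b))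
    rw [h1] at this
    exact this
  have h3 : algebraMap B L b = 0 := (mul_eq_zero.mp h2).resolve_left hz0
  obtain ⟨⟨s, hs⟩, h4⟩ := (IsLocalization.map_eq_zero_iff n.primeCompl L b).mp h3
  exact ⟨s, hs, h4⟩

include hI hpr in
theorem exists_le_sup : ∃ π₀ ∈ I, I ≤ Ideal.span {π₀} ⊔ n * I := by
  have h1 : maximalIdeal L = Ideal.span (algebraMap B L '' (I : Set B)) := by
    rw [← hI]; rfl
  rw [h1] at hpr
  obtain ⟨_, ⟨π₀, hπ, rfl⟩, h2⟩ := exists_mem_span_singleton_eq (S := algebraMap B L '' (I : Set B))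
    ⟨0, I.zero_mem, map_zero _⟩ hpr
  refine ⟨π₀, hπ, fun b hb => ?_⟩
  have h3 : algebraMap B L b ∈ Ideal.span {algebraMap B L π₀} := by
    rw [← h2]
    exact Ideal.subset_span ⟨b, hb, rfl⟩
  obtain ⟨z, hz⟩ := Ideal.mem_span_singleton'.mp h3
  obtain ⟨⟨x, ⟨s, hs⟩⟩, hxs⟩ := IsLocalization.surj n.primeCompl z
  change z * algebraMap B L s = algebraMap B L x at hxs
  have h4 : algebraMap B L (s * b - x * π₀) = 0 := by
    rw [map_sub, map_mul, map_mul, ← hz, ← hxs]; ring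
  obtain ⟨⟨s', hs'⟩, h5⟩ := (IsLocalization.map_eq_zero_iff n.primeCompl L _).mp h4
  change s' * (s * b - x * π₀) = 0 at h5
  have hss : s' * s ∉ n := n.primeCompl.mul_mem hs' hs
  obtain ⟨w, v, hv, hwv⟩ := (inferInstance : n.IsMaximal).exists_inv hss
  have h6 : b = (w * s' * x) * π₀ + v * b := by
    linear_combination (-b) * hwv + w * h5
  rw [h6]
  exact Submodule.add_mem_sup (Ideal.mem_span_singleton'.mpr ⟨_, rfl⟩) (Ideal.mul_mem_mul hv hb)

end Stalk

end K896.Pinch
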