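import Groth.Agent.CurvSt.K896.Pinch
import Mathlib.RingTheory.Unramified.Field
import Mathlib.RingTheory.Artinian.Ring
import Mathlib.RingTheory.DiscreteValuationRing.Basic
import Mathlib.RingTheory.Localization.AtPrime.Basic
import Mathlib.FieldTheory.IsAlgClosed.AlgebraicClosure
import Mathlib.LinearAlgebra.Dual.Lemmas

/-!
# Pinching along an etale algebra of degree two
-/

set_option autoImplicit false
open IsLocalRing TensorProduct

namespace K896.Pinch

open Groth.Agent.CurvesB.Node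

/-- The discriminant of a generator of an unramified quadratic algebra. -/
theorem disc_ne_zero {κ R : Type*} [Field κ] [CommRing R] [Algebra κ R] [Module.Finite κ R]
    [Algebra.FormallyUnramified κ R] (θ : R) (hθ : ∀ c : κ, algebraMap κ R c ≠ θ) (β γ : κ)
    (h : θ ^ 2 + algebraMap κ R β * θ + algebraMap κ R γ = 0) : 4 * γ - β ^ 2 ≠ 0 := by
  intro hd
  let K := AlgebraicClosure κ
  obtain ⟨r, hr⟩ : ∃ r : K, r ^ 2 + algebraMap κ K β * r + algebraMap κ K γ = 0 := by
    let P : Polynomial K := Polynomial.X ^ 2 + Polynomial.C (algebraMap κ K β) * Polynomial.X +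
      Polynomial.C (algebraMap κ K γ)
    have hP : P.degree ≠ 0 := by
      have : P.degree = 2 := by
        change (Polynomial.X ^ 2 + Polynomial.C (algebraMap κ K β) * Polynomial.X +
          Polynomial.C (algebraMap κ K γ)).degree = 2
        compute_degree!
      rw [this]; decide
    obtain ⟨r, hr⟩ := IsAlgClosed.exists_root P hP
    refine ⟨r, ?_⟩
    simpa [P, Polynomial.IsRoot] using hr
  have h2 : 2 * r + algebraMap κ K β = 0 := by
    have h3 : (2 * r + algebraMap κ K β) ^ 2 = 0 := by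
      have h4 : algebraMap κ K (4 * γ - β ^ 2) = 0 := by rw [hd, map_zero]
      have h5 : (4 : K) * algebraMap κ K γ - algebraMap κ K β ^ 2 = 0 := by
        simpa only [map_sub, map_mul, map_pow, map_ofNat] using h4
      linear_combination 4 * hr - h5
    exact pow_eq_zero_iff (two_ne_zero) |>.mp h3
  have hγ : r ^ 2 = algebraMap κ K γ := by linear_combination (-1 : K) * hr + r * h2
  have hred : IsReduced (K ⊗[κ] R) := Algebra.FormallyUnramified.isReduced_of_field K (K ⊗[κ] R)
  have hz : ((1 : K) ⊗ₜ[κ] θ - r ⊗ₜ[κ] (1 : R)) ^ 2 = 0 := by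
    have e1 : (1 : K) ⊗ₜ[κ] (θ ^ 2) = - ((algebraMap κ K β) ⊗ₜ[κ] θ) - (algebraMap κ K γ) ⊗ₜ[κ] (1 : R) := by
      have h3 : θ ^ 2 = - (β • θ) - γ • (1 : R) := by
        rw [Algebra.smul_def, Algebra.smul_def, mul_one]
        linear_combination h
      rw [h3, TensorProduct.tmul_sub, TensorProduct.tmul_neg, TensorProduct.tmul_smul, TensorProduct.tmul_smul,
        TensorProduct.smul_tmul', TensorProduct.smul_tmul', Algebra.smul_def, Algebra.smul_def, mul_one, mul_one]
    have e2 : ((1 : K) ⊗ₜ[κ] θ - r ⊗ₜ[κ] (1 : R)) ^ 2 =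
        (1 : K) ⊗ₜ[κ] (θ ^ 2) - (2 * r) ⊗ₜ[κ] θ + (r ^ 2) ⊗ₜ[κ] (1 : R) := by
      have e3 : (1 : K) ⊗ₜ[κ] (θ ^ 2) = ((1 : K) ⊗ₜ[κ] θ) * ((1 : K) ⊗ₜ[κ] θ) := by
        rw [Algebra.TensorProduct.tmul_mul_tmul, one_mul, sq]
      have e4 : (r ^ 2) ⊗ₜ[κ] (1 : R) = (r ⊗ₜ[κ] (1 : R)) * (r ⊗ₜ[κ] (1 : R)) := by
        rw [Algebra.TensorProduct.tmul_mul_tmul, one_mul, sq]
      have e5 : (2 * r) ⊗ₜ[κ] θ = 2 * ((r ⊗ₜ[κ] (1 : R)) * ((1 : K) ⊗ₜ[κ] θ)) := by
        rw [Algebra.TensorProduct.tmul_mul_tmul, one_mul, mul_one, two_mul, two_mul, TensorProduct.add_tmul]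
      rw [e3, e4, e5]; ring
    rw [e2, e1, hγ]
    have e6 : (2 * r : K) = - algebraMap κ K β := by linear_combination h2
    rw [e6, TensorProduct.neg_tmul]
    ring
  have hz' : (1 : K) ⊗ₜ[κ] θ - r ⊗ₜ[κ] (1 : R) = 0 := pow_eq_zero_iff (two_ne_zero) |>.mp hz
  -- a functional
  obtain ⟨f, hf1, hf2⟩ : ∃ f : R →ₗ[κ] κ, f 1 = 0 ∧ f θ ≠ 0 := by
    have hmem : θ ∉ Submodule.span κ {(1 : R)} := by
      intro hmem
      obtain ⟨c, hc⟩ := Submodule.mem_span_singleton.mp hmem
      apply hθ c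
      rw [← hc, Algebra.smul_def, mul_one]
    obtain ⟨f, hf, hle⟩ := Submodule.exists_le_ker_of_notMem hmem
    exact ⟨f, hle (Submodule.mem_span_singleton_self 1), hf⟩
  have h5 := congrArg (f.baseChange K) hz'
  rw [map_sub, LinearMap.baseChange_tmul, LinearMap.baseChange_tmul, hf1, map_zero, TensorProduct.tmul_zero,
    sub_zero] at h5
  have h6 := congrArg (TensorProduct.rid κ K) h5
  rw [TensorProduct.rid_tmul, map_zero, Algebra.smul_def, mul_one, map_eq_zero] at h6
  exact hf2 h6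

/-- A reduced quadratic algebra over a field has at most two maximal ideals. -/
theorem exists_two {κ R : Type*} [Field κ] [CommRing R] [Algebra κ R] [IsReduced R]
    (h : Module.finrank κ R = 2) : ∃ m₁ m₂ : Ideal R, m₁.IsMaximal ∧ m₂.IsMaximal ∧ (⊥ : Ideal R) = m₁ ⊓ m₂ := by
  have hfin : Module.Finite κ R := Module.finite_of_finrank_pos (by rw [h]; norm_num)
  have hart : IsArtinianRing R := IsArtinianRing.of_finite κ R
  have hnt : Nontrivial R := by
    by_contra hcon
    rw [not_nontrivial_iff_subsingleton] at hcon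
    rw [Module.finrank_zero_of_subsingleton] at h
    norm_num at h
  obtain ⟨m₁, hm₁⟩ := Ideal.exists_maximal R
  by_cases hex : ∃ m₂ : Ideal R, m₂.IsMaximal ∧ m₂ ≠ m₁
  · obtain ⟨m₂, hm₂, hne⟩ := hex
    refine ⟨m₁, m₂, hm₁, hm₂, ?_⟩
    have hcop : IsCoprime m₁ m₂ := Ideal.isCoprime_of_isMaximal (Ne.symm hne)
    let f : R →ₗ[κ] (R ⧸ m₁) × (R ⧸ m₂) :=
      ((Ideal.Quotient.mkₐ κ m₁).toLinearMap).prod ((Ideal.Quotient.mkₐ κ m₂).toLinearMap)
    have hfs : Function.Surjective f := by
      rintro ⟨x, y⟩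
      obtain ⟨x, rfl⟩ := Ideal.Quotient.mk_surjective x
      obtain ⟨y, rfl⟩ := Ideal.Quotient.mk_surjective y
      obtain ⟨u, hu, v, hv, huv⟩ := Ideal.isCoprime_iff_exists.mp hcop
      refine ⟨x * v + y * u, Prod.ext ?_ ?_⟩
      · change Ideal.Quotient.mk m₁ (x * v + y * u) = Ideal.Quotient.mk m₁ x
        rw [Ideal.Quotient.eq]
        have : x * v + y * u - x = (y - x) * u := by linear_combination x * huv
        rw [this]
        exact Ideal.mul_mem_left _ _ hu
      · change Ideal.Quotient.mk m₂ (x * v + y * u) = Ideal.Quotient.mk m₂ y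
        rw [Ideal.Quotient.eq]
        have : x * v + y * u - y = (x - y) * v := by linear_combination y * huv
        rw [this]
        exact Ideal.mul_mem_left _ _ hv
    have hpos : ∀ m : Ideal R, m.IsMaximal → 1 ≤ Module.finrank κ (R ⧸ m) := by
      intro m hm
      have : Nontrivial (R ⧸ m) := Ideal.Quotient.nontrivial_iff.mpr hm.ne_top
      exact Module.finrank_pos
    have hle : Module.finrank κ ((R ⧸ m₁) × (R ⧸ m₂)) ≤ Module.finrank κ R :=
      LinearMap.finrank_le_finrank_of_surjective hfs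
    have hdim : Module.finrank κ R = Module.finrank κ ((R ⧸ m₁) × (R ⧸ m₂)) := by
      rw [Module.finrank_prod] at hle ⊢
      have := hpos m₁ hm₁
      have := hpos m₂ hm₂
      omega
    have hfi : Function.Injective f :=
      (LinearMap.injective_iff_surjective_of_finrank_eq_finrank hdim).mpr hfs
    symm
    rw [eq_bot_iff]
    rintro x ⟨hx1, hx2⟩
    rw [Submodule.mem_bot]
    apply hfi
    rw [map_zero]
    exact Prod.ext (Ideal.Quotient.eq_zero_iff_mem.mpr hx1) (Ideal.Quotient.eq_zero_iff_mem.mpr hx2)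
  · push Not at hex
    refine ⟨m₁, m₁, hm₁, hm₁, ?_⟩
    rw [inf_idem]
    symm
    rw [eq_bot_iff]
    intro x hx
    have hnil : x ∈ nilradical R := by
      rw [nilradical_eq_sInf, Submodule.mem_sInf]
      intro q hq
      have hq' : Ideal.IsPrime q := hq
      have hqm : Ideal.IsMaximal q := inferInstance
      rw [hex q hqm]
      exact hx
    rw [nilradical_eq_zero] at hnil
    exact hnil

/-- Pinching along an unramified algebra of degree two: the local ring at the pinched point. -/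
theorem nodeLike_of_milnor {A B R κ : Type*} [CommRing A] [CommRing B] [CommRing R] [Field κ] [Algebra κ R]
    (φ : A →+* B) (p : A →+* κ) (π : B →+* R)
    (hcomm : ∀ a, π (φ a) = algebraMap κ R (p a)) (hp : Function.Surjective p) (hπ : Function.Surjective π)
    (hlift : ∀ b c, π b = algebraMap κ R c → ∃ a, φ a = b ∧ p a = c) (hext : ∀ a, φ a = 0 → p a = 0 → a = 0)
    [IsReduced R] [Algebra.FormallyUnramified κ R] (hdim : Module.finrank κ R = 2)
    (hfg : (RingHom.ker π).FG)
    (hdvr : ∀ (n : Ideal B) (_ : n.IsMaximal), RingHom.ker π ≤ n →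
      IsDomain (Localization.AtPrime n) ∧ (maximalIdeal (Localization.AtPrime n)).IsPrincipal ∧
        maximalIdeal (Localization.AtPrime n) ≠ ⊥)
    (m : Ideal A) [m.IsPrime] (hm : ∀ a, a ∈ m ↔ p a = 0)
    (L : Type*) [CommRing L] [IsLocalRing L] [Algebra A L] [IsLocalization.AtPrime L m] : NodeLike L := by
  have hfin : Module.Finite κ R := Module.finite_of_finrank_pos (by rw [hdim]; norm_num)
  have hnt : Nontrivial R := by
    by_contra hcon
    rw [not_nontrivial_iff_subsingleton] at hcon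
    rw [Module.finrank_zero_of_subsingleton] at hdim
    norm_num at hdim
  have hjinj : Function.Injective (algebraMap κ R) := (algebraMap κ R).injective
  have hφ : Function.Injective φ := by
    rw [injective_iff_map_eq_zero]
    intro a ha
    refine hext a ha (hjinj ?_)
    rw [← hcomm, ha, map_zero, map_zero]
  have hI : ∀ b, b ∈ RingHom.ker π ↔ ∃ a, p a = 0 ∧ φ a = b := by
    intro b
    rw [RingHom.mem_ker]
    constructor
    · intro hb
      obtain ⟨a, ha1, ha2⟩ := hlift b 0 (by rw [hb, map_zero])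
      exact ⟨a, ha2, ha1⟩
    · rintro ⟨a, ha, rfl⟩
      rw [hcomm, ha, map_zero]
  -- the generator
  obtain ⟨θ', hθ'⟩ : ∃ θ' : R, ∀ c : κ, algebraMap κ R c ≠ θ' := by
    by_contra hcon
    push Not at hcon
    have hs : Function.Surjective (Algebra.linearMap κ R) := fun x => by
      obtain ⟨c, hc⟩ := hcon x
      exact ⟨c, hc⟩
    have := LinearMap.finrank_le_finrank_of_surjective hs
    rw [hdim, Module.finrank_self] at this
    norm_num at this
  have hspan : ∀ x : R, ∃ c₁ c₂ : κ, x = algebraMap κ R c₁ + algebraMap κ R c₂ * θ' := by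
    have hli : LinearIndependent κ ![(1 : R), θ'] := by
      rw [LinearIndependent.pair_iff]
      intro s t hst
      have ht : t = 0 := by
        by_contra ht
        apply hθ' (-(t⁻¹ * s))
        rw [Algebra.smul_def, Algebra.smul_def, mul_one] at hst
        have h1 : algebraMap κ R t⁻¹ * algebraMap κ R t = 1 := by
          rw [← map_mul, inv_mul_cancel₀ ht, map_one]
        rw [map_neg, map_mul]
        linear_combination (-algebraMap κ R t⁻¹) * hst + θ' * h1
      subst ht
      rw [zero_smul, add_zero, Algebra.smul_def, mul_one] at hst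
      exact ⟨hjinj (by rw [hst, map_zero]), rfl⟩
    have hsp := hli.span_eq_top_of_card_eq_finrank' (by rw [hdim]; rfl)
    intro x
    have hx : x ∈ Submodule.span κ (Set.range ![(1 : R), θ']) := by rw [hsp]; trivial
    rw [Matrix.range_cons, Matrix.range_cons, Matrix.range_empty, Set.union_empty] at hx
    obtain ⟨c₁, c₂, hc⟩ := Submodule.mem_span_pair.mp (by simpa using hx)
    exact ⟨c₂, c₁, by rw [← hc, Algebra.smul_def, Algebra.smul_def, mul_one, add_comm]⟩
  obtain ⟨θ, hθ⟩ := hπ θ'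
  have hB : ∀ b : B, ∃ a₁ a₂ : A, b = φ a₁ + φ a₂ * θ := by
    intro b
    obtain ⟨c₁, c₂, hc⟩ := hspan (π b)
    obtain ⟨a₁, ha₁⟩ := hp c₁
    obtain ⟨a₂, ha₂⟩ := hp c₂
    have h1 : b - (φ a₁ + φ a₂ * θ) ∈ RingHom.ker π := by
      rw [RingHom.mem_ker, map_sub, map_add, map_mul, hcomm, hcomm, ha₁, ha₂, hθ, hc, sub_self]
    obtain ⟨a₃, -, ha₃⟩ := (hI _).mp h1
    exact ⟨a₁ + a₃, a₂, by rw [map_add, ha₃]; ring⟩
  obtain ⟨a₁, a₂, hsq⟩ := hB (θ ^ 2)
  have hrel : θ ^ 2 + φ (-a₂) * θ + φ (-a₁) = 0 := by rw [hsq, map_neg, map_neg]; ring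
  have hdisc : p (4 * (-a₁) - (-a₂) ^ 2) ≠ 0 := by
    have h1 := disc_ne_zero θ' hθ' (p (-a₂)) (p (-a₁)) (by
      have := congrArg π hrel
      rw [map_add, map_add, map_mul, map_pow, hcomm, hcomm, map_zero, hθ] at this
      exact this)
    simpa only [map_sub, map_mul, map_pow, map_ofNat] using h1
  -- the two points
  obtain ⟨m₁, m₂, hm₁, hm₂, hbot⟩ := exists_two (κ := κ) (R := R) hdim
  have hn₁ : (m₁.comap π).IsMaximal := Ideal.comap_isMaximal_of_surjective π hπ
  have hn₂ : (m₂.comap π).IsMaximal := Ideal.comap_isMaximal_of_surjective π hπ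
  have hker : RingHom.ker π = m₁.comap π ⊓ m₂.comap π := by
    rw [← Ideal.comap_inf, ← hbot]
    rfl
  have hkey : ∀ n, n = m₁.comap π ∨ n = m₂.comap π → ∃ (hn : n.IsMaximal),
      IsDomain (Localization.AtPrime n) ∧ (maximalIdeal (Localization.AtPrime n)).IsPrincipal ∧
        maximalIdeal (Localization.AtPrime n) ≠ ⊥ ∧
        (RingHom.ker π).map (algebraMap B (Localization.AtPrime n)) = maximalIdeal (Localization.AtPrime n) := by
    have main : ∀ n₁ n₂ : Ideal B, n₁.IsMaximal → n₂.IsMaximal → RingHom.ker π = n₁ ⊓ n₂ → ∃ (hn : n₁.IsMaximal),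
      IsDomain (Localization.AtPrime n₁) ∧ (maximalIdeal (Localization.AtPrime n₁)).IsPrincipal ∧
        maximalIdeal (Localization.AtPrime n₁) ≠ ⊥ ∧
        (RingHom.ker π).map (algebraMap B (Localization.AtPrime n₁)) = maximalIdeal (Localization.AtPrime n₁) := by
      intro n₁ n₂ h₁ h₂ hk
      obtain ⟨d1, d2, d3⟩ := hdvr n₁ h₁ (hk.trans_le inf_le_left)
      refine ⟨h₁, d1, d2, d3, ?_⟩
      rw [← IsLocalization.AtPrime.map_eq_maximalIdeal n₁ (Localization.AtPrime n₁)]
      apply le_antisymm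
      · exact Ideal.map_mono (hk.trans_le inf_le_left)
      · by_cases heq : n₂ = n₁
        · rw [hk, heq, inf_idem]
        · have hnle : ¬ n₂ ≤ n₁ := fun h => heq (h₂.eq_of_le h₁.ne_top h)
          obtain ⟨e, he2, he1⟩ := Set.not_subset.mp hnle
          have hu : IsUnit (algebraMap B (Localization.AtPrime n₁) e) :=
            IsLocalization.map_units (Localization.AtPrime n₁) (⟨e, he1⟩ : n₁.primeCompl)
          rw [Ideal.map_le_iff_le_comap]
          intro x hx
          rw [Ideal.mem_comap]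
          have h1 : e * x ∈ RingHom.ker π := by
            rw [hk]
            exact ⟨n₁.mul_mem_left _ hx, n₂.mul_mem_right _ he2⟩
          have h2 := Ideal.mem_map_of_mem (algebraMap B (Localization.AtPrime n₁)) h1
          rw [map_mul] at h2
          obtain ⟨v, hv⟩ := hu.exists_left_inv
          have h3 := Ideal.mul_mem_left _ v h2
          rwa [← mul_assoc, hv, one_mul] at h3
    rintro n (rfl | rfl)
    · exact main _ _ hn₁ hn₂ hker
    · exact main _ _ hn₂ hn₁ (hker.trans (inf_comm _ _))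
  obtain ⟨t, htI, ⟨r, hr1, hr2⟩, ht0⟩ := exists_uniformizer (RingHom.ker π) (m₁.comap π) (m₂.comap π) hker hfg
    (fun n hn => by
      obtain ⟨h1, h2, h3, h4, h5⟩ := hkey n hn
      exact exists_le_sup n (Localization.AtPrime n) (RingHom.ker π) h5 h3)
    (fun n hn => by
      obtain ⟨h1, h2, h3, h4, h5⟩ := hkey n hn
      exact not_le_mul n (Localization.AtPrime n) (RingHom.ker π) h5 h3 h4)
    (fun n hn b hb => by
      obtain ⟨h1, h2, h3, h4, h5⟩ := hkey n hn
      exact exists_notMem n (Localization.AtPrime n) (RingHom.ker π) h5 h4 b hb)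
  have hone : ∀ r, r - 1 ∈ RingHom.ker π → ∃ s, p s ≠ 0 ∧ φ s = r := by
    intro r hr
    obtain ⟨a, ha, har⟩ := (hI _).mp hr
    refine ⟨a + 1, ?_, ?_⟩
    · rw [map_add, ha, zero_add, map_one]; exact one_ne_zero
    · rw [map_add, har, map_one]; ring
  refine nodeLike_of_square φ p hφ (RingHom.ker π) hI t htI ?_ ?_ θ hB ?_ (-a₂) (-a₁) hrel hdisc m hm L
  · intro b hb
    obtain ⟨s, hs, rfl⟩ := hone r hr1
    exact ⟨s, hs, hr2 b hb⟩
  · intro b hb
    obtain ⟨r', hr', hrb⟩ := ht0 b hb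
    obtain ⟨s, hs, rfl⟩ := hone r' hr'
    exact ⟨s, hs, hrb⟩
  · intro a s has
    by_contra hs
    have h1 := congrArg π has
    rw [map_mul, hcomm, hcomm, hθ] at h1
    apply hθ' ((p s)⁻¹ * p a)
    rw [map_mul, ← h1, ← mul_assoc, ← map_mul, inv_mul_cancel₀ hs, map_one, one_mul]

end K896.Pinch
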